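import Groth.Agent.DRingLib.BaseChange

/-!
# Derived base change is left adjoint to restriction
-/

set_option autoImplicit false
set_option linter.style.haveILetI false
set_option backward.isDefEq.respectTransparency false

universe u

open CategoryTheory Limits
attribute [local instance] HasDerivedCategory.standard

noncomputable section

namespace Groth.Agent.DRingLib

open Groth.Agent.DCohLib Groth.Agent.DTenLib

variable {A B : Type u} [CommRing A] [CommRing B] (φ : A →+* B) [DRing.HasLBaseChange φ]

/-- The counit of derived base change on complexes. -/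
def lbcβ : DerivedCategory.Q ⋙ DRing.LBaseChange φ ⟶ DTen.extCx φ ⋙ DerivedCategory.Q :=
  Functor.whiskerRight (DerivedCategory.quotientCompQhIso (ModuleCat.{u} A)).inv (DRing.LBaseChange φ) ≫
    (Functor.associator _ _ _).hom ≫
    Functor.whiskerLeft (HomotopyCategory.quotient (ModuleCat.{u} A) (ComplexShape.up ℤ)) (lbcCounit φ) ≫
    (Functor.associator _ _ _).inv ≫
    Functor.whiskerRight ((ModuleCat.extendScalars.{u, u, u} φ).mapHomotopyCategoryFactors
      (ComplexShape.up ℤ)).hom DerivedCategory.Qh ≫
    (Functor.associator _ _ _).hom ≫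
    Functor.whiskerLeft (DTen.extCx φ) (DerivedCategory.quotientCompQhIso (ModuleCat.{u} B)).hom

theorem isIso_lbcβ_app (K : DRing.Cx A) (hK : DRing.IsKFlat A K) : IsIso ((lbcβ φ).app K) := by
  haveI := isIso_lbcCounit_app φ K hK
  simp only [lbcβ, NatTrans.comp_app, Functor.whiskerRight_app, Functor.whiskerLeft_app,
    Functor.associator_hom_app, Functor.associator_inv_app]
  infer_instance

instance isLeftDerived_LBaseChange :
    (DRing.LBaseChange φ).IsLeftDerivedFunctor (lbcβ φ) (DTen.qis A) :=
  (adaptedExt φ).isLeftDerivedFunctor DerivedCategory.Q _ _ fun X => isIso_lbcβ_app φ _ (isKFlat_resA X)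

/-- Derived base change is the left adjoint of restriction. -/
def lbcAdj : DRing.LBaseChange φ ⊣ DRing.restrictD φ :=
  (baseFunAdj φ).ofNatIsoLeft (Functor.leftDerivedUnique _ _ (baseα φ) (lbcβ φ) (DTen.qis A))

end Groth.Agent.DRingLib
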