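import Groth.Agent.DRingLib.Approx
import Groth.Prelude.Def_Wider

/-!
# Finiteness of top cohomology
-/

set_option autoImplicit false
set_option linter.style.haveILetI false

universe u

open CategoryTheory Limits Pretriangulated
attribute [local instance] HasDerivedCategory.standard

noncomputable section

namespace Groth.Agent.DRingLib

open Groth.Agent.DCohLib

variable {A : Type u} [CommRing A]

/-- The cycles of a complex, as a submodule. -/
abbrev Zc (E : DRing.Cx A) (i : ℤ) : Submodule A (E.X i) := LinearMap.ker (E.d i (i + 1)).hom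

theorem exists_of_exactAt {E : DRing.Cx A} {i : ℤ} (h : E.ExactAt (i + 1)) (x : E.X (i + 1))
    (hx : x ∈ Zc E (i + 1)) : ∃ y, (E.d i (i + 1)).hom y = x := by
  rw [E.exactAt_iff' i (i + 1) (i + 1 + 1) (by simp) (by simp), ShortComplex.moduleCat_exact_iff] at h
  exact h x hx

variable {Φ : ModuleCat.{u} A → Prop}

/-- In a bounded complex of finite projectives, cycles above the top cohomology are finite projective. -/
theorem finite_Zc {E : DRing.Cx A} (hE : Bdd FProj E) :
    ∀ (d : ℕ) (n b : ℤ), (∀ i, b < i → IsZero (E.X i)) → b < n + d → (∀ i, n < i → E.ExactAt i) →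
      Module.Finite A (Zc E n) ∧ Module.Projective A (Zc E n) := by
  intro d
  induction d with
  | zero =>
    intro n b hb hn _
    haveI := ModuleCat.subsingleton_of_isZero (hb n (by simpa using hn))
    exact ⟨inferInstance, inferInstance⟩
  | succ d ih =>
    intro n b hb hn hex
    obtain ⟨hf, hp⟩ := ih (n + 1) b hb (by push_cast at hn ⊢; omega) fun i hi => hex i (by omega)
    haveI := hf
    haveI := hp
    haveI := (hE.2 n).1
    haveI := (hE.2 n).2
    let δ : E.X n →ₗ[A] Zc E (n + 1) :=
      LinearMap.codRestrict _ (E.d n (n + 1)).hom fun x => LinearMap.mem_ker.2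
        (by rw [← LinearMap.comp_apply, ← ModuleCat.hom_comp, E.d_comp_d]; rfl)
    have hδ : Function.Surjective δ := fun x => by
      obtain ⟨y, hy⟩ := exists_of_exactAt (hex (n + 1) (by omega)) x.1 x.2
      exact ⟨y, Subtype.ext hy⟩
    obtain ⟨s, hs⟩ := Module.projective_lifting_property δ LinearMap.id hδ
    have hker : Zc E n = LinearMap.ker δ := by
      ext x
      simp [δ, Zc, Subtype.ext_iff]
    let p : E.X n →ₗ[A] Zc E n :=
      LinearMap.codRestrict _ (LinearMap.id - s ∘ₗ δ) fun x => by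
        rw [hker, LinearMap.mem_ker]
        have h1 := LinearMap.congr_fun hs (δ x)
        simp only [LinearMap.comp_apply, LinearMap.id_apply] at h1
        simp [map_sub, h1]
    have hp' : p ∘ₗ (Zc E n).subtype = LinearMap.id := LinearMap.ext fun x => by
      have h1 : δ x.1 = 0 := LinearMap.mem_ker.1 (hker ▸ x.2)
      apply Subtype.ext
      simp [p, h1]
    exact ⟨Module.Finite.of_surjective p fun x => ⟨x.1, LinearMap.congr_fun hp' x⟩,
      Module.Projective.of_split (Zc E n).subtype p hp'⟩

theorem surjective_homologyπ_ker (E : DRing.Cx A) (n : ℤ) :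
    ∃ q : Zc E n →ₗ[A] E.homology n, Function.Surjective q := by
  obtain ⟨j, hj⟩ : ∃ j, j = (ComplexShape.up ℤ).next n := ⟨_, rfl⟩
  rw [CochainComplex.next] at hj
  subst hj
  let e : E.cycles n ≅ ModuleCat.of A (Zc E n) :=
    (E.cyclesIsoSc' (n - 1) n (n + 1) (by simp) (by simp)) ≪≫ (E.sc' (n - 1) n (n + 1)).moduleCatCyclesIso
  refine ⟨(e.inv ≫ E.homologyπ n).hom, ?_⟩
  rw [← ModuleCat.epi_iff_surjective]
  infer_instance

theorem finite_HD_of_fProj {m : ℤ} {K : Dual.D A} (hK : PC FProj m K) (h : AboveZero (m + 1) K) :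
    Module.Finite A (Dual.HD A K m) := by
  obtain ⟨E, α, hE, hα⟩ := hK
  obtain ⟨⟨a, b, hab⟩, -⟩ := id hE
  have h' := (mIso_iff m α).1 hα
  have hex : ∀ i, m < i → E.ExactAt i := fun i hi => by
    haveI := h'.1 i hi
    rw [HomologicalComplex.exactAt_iff_isZero_homology]
    exact (((h i (by omega)).of_iso (asIso ((DerivedCategory.homologyFunctor _ i).map α)))).of_iso
      ((DerivedCategory.homologyFunctorFactors _ i).app E).symm
  haveI := (finite_Zc hE (b + 1 - m).toNat m b (fun i hi => hab i (Or.inr hi)) (by omega) hex).1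
  obtain ⟨q, hq⟩ := surjective_homologyπ_ker E m
  haveI : Module.Finite A (E.homology m) := Module.Finite.of_surjective q hq
  haveI : Module.Finite A ((HomologicalComplex.homologyFunctor (ModuleCat.{u} A) (ComplexShape.up ℤ) m).obj E) :=
    ‹Module.Finite A (E.homology m)›
  haveI : Module.Finite A (Dual.HD A (DRing.toD E) m) :=
    Module.Finite.equiv ((DerivedCategory.homologyFunctorFactors _ m).app E).toLinearEquiv.symm
  haveI := h'.2
  exact Module.Finite.of_surjective ((DerivedCategory.homologyFunctor _ m).map α).hom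
    ((ModuleCat.epi_iff_surjective _).1 h'.2)

theorem fFree_imp_fProj {M : ModuleCat.{u} A} (h : FFree M) : FProj M := by
  obtain ⟨h1, h2⟩ := h
  exact ⟨h1, inferInstance⟩

theorem Bdd.imp {Ψ : ModuleCat.{u} A → Prop} (hi : ∀ M, Φ M → Ψ M) {E : DRing.Cx A} (h : Bdd Φ E) :
    Bdd Ψ E := ⟨h.1, fun i => hi _ (h.2 i)⟩

theorem PC.imp {Ψ : ModuleCat.{u} A → Prop} (hi : ∀ M, Φ M → Ψ M) {m : ℤ} {K : Dual.D A}
    (h : PC Φ m K) : PC Ψ m K := by
  obtain ⟨E, α, hE, hα⟩ := h
  exact ⟨E, α, hE.imp hi, hα⟩

theorem finite_HD {m : ℤ} {K : Dual.D A} (hK : PC FFree m K) (h : AboveZero (m + 1) K) :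
    Module.Finite A (Dual.HD A K m) :=
  finite_HD_of_fProj (hK.imp fun _ => fFree_imp_fProj) h

end Groth.Agent.DRingLib
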