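import Groth.Agent.DRingLib.DescentPC
import Mathlib.RingTheory.Flat.CategoryTheory

/-!
# Derived base change along flat ring maps
-/

set_option autoImplicit false
set_option linter.style.haveILetI false
set_option backward.isDefEq.respectTransparency false

universe u

open CategoryTheory Limits MonoidalCategory
attribute [local instance] HasDerivedCategory.standard

noncomputable section

namespace Groth.Agent.DRingLib

open Groth.Agent.DCohLib Groth.Agent.DTenLib

variable {A B : Type u} [CommRing A] [CommRing B] (φ : A →+* B)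

theorem preservesHomology_tensorLeft_of_flat (M : ModuleCat.{u} A) (hM : Module.Flat A M) :
    (tensorLeft M).PreservesHomology := by
  haveI := hM
  infer_instance

theorem isIso_baseChangeKh_map_of_flat (hφ : Module.Flat A (baseMod φ)) {P Q : DRing.Cx A} (α : P ⟶ Q)
    (hα : QuasiIso α) :
    IsIso ((HomotopyCategory.quotient (ModuleCat.{u} A) (ComplexShape.up ℤ) ⋙ DRing.baseChangeKh φ).map α) := by
  haveI := preservesHomology_tensorLeft_of_flat (baseMod φ) hφ
  haveI := hα
  have h₁ : QuasiIso (((tensorLeft (baseMod φ)).mapHomologicalComplex (ComplexShape.up ℤ)).map α) :=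
    HomologicalComplex.quasiIso_map_of_preservesHomology α (tensorLeft (baseMod φ))
  have h₂ : QuasiIso ((DTen.extCx φ).map α) := by
    rw [← HomologicalComplex.quasiIso_map_iff_of_preservesHomology _ (ModuleCat.restrictScalars.{u} φ)]
    exact (quasiIso_iff_of_arrow_mk_iso _ _ (((Functor.mapArrowFunctor _ _).mapIso
      (NatIso.mapHomologicalComplex (extResIso φ) (ComplexShape.up ℤ))).app (Arrow.mk α))).2 h₁
  exact Localization.inverts DerivedCategory.Qh (HomotopyCategory.quasiIso (ModuleCat.{u} B) (ComplexShape.up ℤ)) _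
    ((HomotopyCategory.quotient_map_mem_quasiIso_iff _).2 ((HomologicalComplex.mem_quasiIso_iff _).2 h₂))

variable [DRing.HasLBaseChange φ]

theorem isIso_lbcCounit_app_of_flat (hφ : Module.Flat A (baseMod φ)) (K : DRing.Cx A) :
    IsIso ((lbcCounit φ).app ((HomotopyCategory.quotient (ModuleCat.{u} A) (ComplexShape.up ℤ)).obj K)) :=
  (adaptedBC φ).isIso_app_of_comp (W' := HomotopyCategory.quasiIso (ModuleCat.{u} A) (ComplexShape.up ℤ))
    (HomotopyCategory.quotient (ModuleCat.{u} A) (ComplexShape.up ℤ))
    DerivedCategory.Qh (DRing.LBaseChange φ) (lbcCounit φ) K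
    (isIso_baseChangeKh_map_of_flat φ hφ _ (quasiIso_resAπ K))

/-- Derived base change along a flat map is computed termwise. -/
def lbcIsoOfFlat (hφ : Module.Flat A (baseMod φ)) (K : DRing.Cx A) :
    (DRing.LBaseChange φ).obj (DRing.toD K) ≅ DRing.toD ((DTen.extCx φ).obj K) :=
  (DRing.LBaseChange φ).mapIso ((DerivedCategory.quotientCompQhIso (ModuleCat.{u} A)).app K).symm ≪≫
    @asIso _ _ _ _ _ (isIso_lbcCounit_app_of_flat φ hφ K) ≪≫
    DerivedCategory.Qh.mapIso (((ModuleCat.extendScalars.{u, u, u} φ).mapHomotopyCategoryFactors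
      (ComplexShape.up ℤ)).app K) ≪≫
    (DerivedCategory.quotientCompQhIso (ModuleCat.{u} B)).app _

/-- Derived base change of a module along a flat map. -/
def lbcInDIso (hφ : Module.Flat A (baseMod φ)) (M : ModuleCat.{u} A) :
    (DRing.LBaseChange φ).obj (Dual.inD A M) ≅ Dual.inD B ((ModuleCat.extendScalars.{u, u, u} φ).obj M) :=
  (DRing.LBaseChange φ).mapIso (singleQZeroIso M).symm ≪≫
    lbcIsoOfFlat φ hφ ((HomologicalComplex.single (ModuleCat.{u} A) (ComplexShape.up ℤ) 0).obj M) ≪≫
    DerivedCategory.Q.mapIso ((HomologicalComplex.singleMapHomologicalComplex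
      (ModuleCat.extendScalars.{u, u, u} φ) (ComplexShape.up ℤ) 0).app M) ≪≫
    singleQZeroIso _

section Algebra

variable (A B) [Algebra A B]

/-- The coefficient ring as a module. -/
def baseModEquiv : baseMod (algebraMap A B) ≃ₗ[A] B :=
  { (AddEquiv.refl B) with map_smul' := fun a (b : B) => (Algebra.smul_def a b).symm }

theorem flat_baseMod [Module.Flat A B] : Module.Flat A (baseMod (algebraMap A B)) :=
  Module.Flat.of_linearEquiv (baseModEquiv A B)

variable (M : Type u) [AddCommGroup M] [Module A M]

/-- Extension of scalars is the tensor product. -/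
def extendScalarsTensorEquiv :
    (ModuleCat.extendScalars.{u, u, u} (algebraMap A B)).obj (ModuleCat.of A M) ≃ₗ[B] TensorProduct A B M :=
  let T := TensorProduct.congr (baseModEquiv A B) (LinearEquiv.refl A M)
  { T.toAddEquiv with
    map_smul' := fun c x => by
      show T (c • x) = c • T x
      refine TensorProduct.induction_on x ?_ (fun b m => ?_) (fun x y hx hy => ?_)
      · exact (congrArg T (smul_zero c)).trans ((map_zero T).trans ((smul_zero c).symm.trans
          (congrArg (c • ·) (map_zero T).symm)))
      · rfl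
      · exact (congrArg T (smul_add c x y)).trans ((map_add T _ _).trans ((congrArg₂ (· + ·) hx hy).trans
          ((smul_add c _ _).symm.trans (congrArg (c • ·) (map_add T x y).symm)))) }

end Algebra

end Groth.Agent.DRingLib
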