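import Groth.Agent.DRingLib.TorDim
import Groth.Agent.DRingLib.FlatBC

/-!
# Splitting, detection of cohomology, restriction of amplitude
-/

set_option autoImplicit false
set_option linter.style.haveILetI false
set_option backward.isDefEq.respectTransparency false

universe u

open CategoryTheory Limits Pretriangulated MonoidalCategory
attribute [local instance] HasDerivedCategory.standard

noncomputable section

namespace Groth.Agent.DRingLib

open Groth.Agent.DCohLib Groth.Agent.DTenLib CochainComplex

variable {A : Type u} [CommRing A]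

theorem subsingleton_hom_of_projective_amplitude {P : DRing.Cx A} {a b : ℤ} (hP : DRing.VanishesOutside P a b)
    (hPp : ∀ i, Module.Projective A (P.X i)) {L : Dual.D A} (e : DRing.toD P ≅ L) {K : Dual.D A}
    (hK : AboveZero a K) : Subsingleton (L ⟶ K) := by
  haveI := isKProjective_of_vanishesAbove (b := b) (fun i hi => hP i (Or.inr hi)) hPp
  refine subsingleton_of_forall_eq 0 fun f => ?_
  rw [← cancel_epi e.hom, comp_zero]
  exact hom_eq_zero (fun i hi => hP i (Or.inl hi)) hK _

theorem exists_hom_mono_homology {K : Dual.D A} (hK : DRing.IsPseudoCoherent' A K) (i : ℤ) :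
    ∃ (M : ModuleCat.{u} A) (_ : Module.FinitePresentation A M)
      (f : K ⟶ (CategoryTheory.shiftFunctor (Dual.D A) (-i)).obj (Dual.inD A M)),
      Mono ((DerivedCategory.homologyFunctor (ModuleCat.{u} A) i).map f) := by
  obtain ⟨E, b, -, hE, ⟨e⟩⟩ := hK
  have hfp : Module.FinitePresentation A (E.opcycles i) := by
    haveI := (hE i).1
    haveI := (hE i).2
    haveI := (hE (i - 1)).1
    haveI := Module.finitePresentation_of_projective A (E.X i)
    haveI : Module.FinitePresentation A (E.X i ⧸ LinearMap.range (E.d (i - 1) i).hom) :=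
      Module.finitePresentation_of_surjective (LinearMap.range (E.d (i - 1) i).hom).mkQ
        (Submodule.mkQ_surjective _) (by
          rw [Submodule.ker_mkQ]
          exact Module.Finite.iff_fg.1 (Module.Finite.range _))
    obtain ⟨e'⟩ := opcycles_equiv E i
    exact Module.finitePresentation_of_surjective e'.toLinearMap e'.surjective (by
      rw [LinearEquiv.ker]
      exact Submodule.fg_bot)
  let M := E.opcycles i
  let S := (HomologicalComplex.single (ModuleCat.{u} A) (ComplexShape.up ℤ) i).obj M
  let g : E ⟶ S := HomologicalComplex.mkHomToSingle (E.pOpcycles i) fun j _ => E.d_pOpcycles j i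
  have hg : Mono (HomologicalComplex.homologyMap g i) := by
    haveI := S.isIso_pOpcycles (i - 1) i (by simp) (HomologicalComplex.single_obj_d _ _ _ _ _)
    have h1 : HomologicalComplex.opcyclesMap g i =
        (HomologicalComplex.singleObjXSelf (ComplexShape.up ℤ) i M).inv ≫ S.pOpcycles i := by
      rw [← cancel_epi (E.pOpcycles i), HomologicalComplex.p_opcyclesMap,
        HomologicalComplex.mkHomToSingle_f, Category.assoc]
    haveI : Mono (HomologicalComplex.homologyMap g i ≫ S.homologyι i) := by
      rw [HomologicalComplex.homologyι_naturality, h1]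
      infer_instance
    exact mono_of_mono _ (S.homologyι i)
  refine ⟨M, hfp, e.inv ≫ DerivedCategory.Q.map g ≫ (singleQIso i M).inv ≫
    (CategoryTheory.shiftFunctor (Dual.D A) (-i)).map (singleQZeroIso M).hom, ?_⟩
  haveI : Mono ((DerivedCategory.homologyFunctor (ModuleCat.{u} A) i).map (DerivedCategory.Q.map g)) :=
    ((MorphismProperty.monomorphisms _).arrow_mk_iso_iff
      (((Functor.mapArrowFunctor _ _).mapIso
        (DerivedCategory.homologyFunctorFactors (ModuleCat.{u} A) i)).app (Arrow.mk g))).2 hg
  simp only [Functor.map_comp]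
  infer_instance

theorem amp_restrict_flat {B : Type u} [CommRing B] (φ : A →+* B) {d : ℕ}
    (hB : DRing.HasTorAmplitudeIn A (-(d : ℤ)) 0 (Dual.inD A (baseMod φ))) (F : ModuleCat.{u} B)
    (hF : Module.Flat B F) :
    DRing.HasTorAmplitudeIn A (-(d : ℤ)) 0 (Dual.inD A ((ModuleCat.restrictScalars.{u} φ).obj F)) := by
  rw [← hasTorDimLE_iff_amp] at hB ⊢
  intro N _ _ p hp
  haveI := hB N p hp
  let P := projectiveResolution (ModuleCat.of A N)
  have h1 : ((tensorLeft (baseMod φ)).mapHomologicalComplex _ |>.obj P.complex).ExactAt p :=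
    (HomologicalComplex.exactAt_iff_isZero_homology _ _).2
      ((ModuleCat.isZero_iff_subsingleton.2 ‹_›).of_iso (TorLib.torIso P (baseMod φ) p).symm)
  rw [HomologicalComplex.exactAt_iff] at h1
  let S := P.complex.sc p
  have h2 : (S.map (ModuleCat.extendScalars.{u, u, u} φ)).Exact := by
    refine (ShortComplex.exact_map_iff_of_faithful _ (ModuleCat.restrictScalars.{u} φ)).1 ?_
    exact (ShortComplex.exact_iff_of_iso (S.mapNatIso (extResIso φ))).2 h1
  have h3 : (S.map (tensorLeft ((ModuleCat.restrictScalars.{u} φ).obj F))).Exact := by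
    haveI := preservesHomology_tensorLeft_of_flat F hF
    let τ : (ModuleCat.extendScalars.{u, u, u} φ ⋙ tensorLeft F) ⋙ ModuleCat.restrictScalars.{u} φ ≅
        tensorLeft ((ModuleCat.restrictScalars.{u} φ).obj F) := (cancelBiIso φ).app F
    exact ShortComplex.exact_of_iso (S.mapNatIso τ)
      ((h2.map (tensorLeft F)).map (ModuleCat.restrictScalars.{u} φ))
  exact ModuleCat.subsingleton_of_isZero
    (((HomologicalComplex.exactAt_iff_isZero_homology _ _).1
      ((HomologicalComplex.exactAt_iff
        (((tensorLeft ((ModuleCat.restrictScalars.{u} φ).obj F)).mapHomologicalComplex _).obj P.complex) p).2 h3)).of_iso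
        (TorLib.torIso P ((ModuleCat.restrictScalars.{u} φ).obj F) p))

theorem amp_restrictD {B : Type u} [CommRing B] (φ : A →+* B) {d : ℕ}
    (hB : DRing.HasTorAmplitudeIn A (-(d : ℤ)) 0 (Dual.inD A (baseMod φ))) {K : Dual.D B} {a b : ℤ}
    (hK : DRing.HasTorAmplitudeIn B a b K) :
    DRing.HasTorAmplitudeIn A (a - d) b ((DRing.restrictD φ).obj K) := by
  obtain ⟨E, hE, hflat, ⟨e⟩⟩ := hK
  let E' := ((ModuleCat.restrictScalars.{u} φ).mapHomologicalComplex (ComplexShape.up ℤ)).obj E
  refine amp_of_iso (((ModuleCat.restrictScalars.{u} φ).mapDerivedCategoryFactors.app E).symm ≪≫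
    (DRing.restrictD φ).mapIso e) (amp_of_bounded_terms (K := E') (c := a) (d := b)
      (fun i hi => (ModuleCat.restrictScalars.{u} φ).map_isZero (hE i hi)) fun i => ?_)
  by_cases hi : i < a ∨ b < i
  · exact amp_of_isZero (Functor.map_isZero _ ((ModuleCat.restrictScalars.{u} φ).map_isZero (hE i hi))) _ _
  · exact hasTorAmplitudeIn_mono (by omega) (by omega) (amp_restrict_flat φ hB (E.X i) (hflat i))

end Groth.Agent.DRingLib
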