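import Groth.Agent.DRingLib.PerfTor
import Mathlib.Algebra.Homology.Embedding.Restriction

/-!
# Perfect modules and finite projective resolutions
-/

set_option autoImplicit false
set_option linter.style.haveILetI false

universe u

open CategoryTheory Limits
attribute [local instance] HasDerivedCategory.standard

noncomputable section

namespace Groth.Agent.DRingLib

open Groth.Agent.DCohLib CochainComplex

variable {A : Type u} [CommRing A]

theorem hasTorAmplitudeIn_of_aboveZero {K : Dual.D A} {a b c : ℤ} (hac : a ≤ c)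
    (h : DRing.HasTorAmplitudeIn A a b K) (hK : AboveZero (c + 1) K) : DRing.HasTorAmplitudeIn A a c K := by
  obtain ⟨E, hE, hflat, ⟨e⟩⟩ := h
  have hex : ∀ i, c < i → E.ExactAt i := fun i hi =>
    (HomologicalComplex.exactAt_iff_isZero_homology _ _).2
      (((hK.of_iso e) i (by omega)).of_iso ((DerivedCategory.homologyFunctorFactors _ i).app E).symm)
  haveI : E.IsLE c := (CochainComplex.isLE_iff _ _).2 fun i hi => hex i hi
  haveI : IsIso (DerivedCategory.Q.map (E.ιTruncLE c)) := isIso_Q_map _ inferInstance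
  refine ⟨E.truncLE c, fun i hi => ?_, fun i => ?_, ⟨asIso (DerivedCategory.Q.map (E.ιTruncLE c)) ≪≫ e⟩⟩
  · rcases hi with hi | hi
    · exact (hE i (Or.inl hi)).of_iso (E.truncLEXIso c i (by omega))
    · exact CochainComplex.isZero_of_isStrictlyLE _ c i hi
  · rcases lt_trichotomy i c with h' | rfl | h'
    · haveI := hflat i
      exact Module.Flat.of_linearEquiv (E.truncLEXIso c i h').toLinearEquiv
    · haveI := Groth.Agent.FlatCx.flat_ker_of_exact_above E hflat b (fun j hj => hE j (Or.inr hj)) i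
        hex i le_rfl
      let e' : E.cycles i ≃ₗ[A] LinearMap.ker (E.d i (i + 1)).hom :=
        ((E.cyclesIsKernel i (i + 1) (by simp)).conePointUniqueUpToIso
          (ModuleCat.kernelIsLimit (E.d i (i + 1)))).toLinearEquiv
      exact Module.Flat.of_linearEquiv ((E.truncLEXIsoCycles i).toLinearEquiv.trans e')
    · haveI := ModuleCat.subsingleton_of_isZero (CochainComplex.isZero_of_isStrictlyLE (E.truncLE c) c i h')
      exact inferInstance

theorem exists_resolution_cx {M : ModuleCat.{u} A} (hM : Perf FProj (Dual.inD A M)) :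
    ∃ (a : ℤ) (E : DRing.Cx A) (h : E ⟶ (HomologicalComplex.single (ModuleCat.{u} A) (ComplexShape.up ℤ) 0).obj M),
      DRing.VanishesOutside E a 0 ∧ (∀ i, FProj (E.X i)) ∧ QuasiIso h := by
  obtain ⟨hpc, a, b, hamp⟩ := (perf_iff _).1 hM
  have hamp' := hasTorAmplitudeIn_of_aboveZero (a := min a 0) (c := 0) (min_le_right _ _)
    (hasTorAmplitudeIn_mono (min_le_left _ _) le_rfl hamp) (by simpa using aboveZero_inD M)
  obtain ⟨E, hE, hEp, ⟨e⟩⟩ := exists_fProj_of_amplitude (m := min a 0) (n := 0) (by omega)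
    ((isPseudoCoherent'_iff _).1 hpc _) hamp'
  haveI := Bdd.isKProjective projClass_fProj (E := E) ⟨⟨_, _, hE⟩, hEp⟩
  obtain ⟨h, hh⟩ := Q_map_surjective E _ (e ≪≫ (singleQZeroIso M).symm).hom
  refine ⟨_, E, h, hE, hEp, ?_⟩
  rw [← DerivedCategory.isIso_Q_map_iff_quasiIso, hh]
  infer_instance

theorem exists_resolution_of_cx {M : ModuleCat.{u} A} {E : DRing.Cx A}
    (h : E ⟶ (HomologicalComplex.single (ModuleCat.{u} A) (ComplexShape.up ℤ) 0).obj M) [QuasiIso h]
    (hb : DRing.VanishesAbove E 0) (hE : ∀ i, Module.Projective A (E.X i)) :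
    ∃ P : ProjectiveResolution M, ∀ n : ℕ, Nonempty (P.complex.X n ≅ E.X (-(n : ℤ))) := by
  let C : ChainComplex (ModuleCat.{u} A) ℕ := E.restriction ComplexShape.embeddingDownNat
  let π₀ : C.X 0 ⟶ M := h.f 0 ≫ (HomologicalComplex.singleObjXSelf (ComplexShape.up ℤ) 0 M).hom
  have hπ : C.d 1 0 ≫ π₀ = 0 := by
    show E.d (-1) 0 ≫ h.f 0 ≫ _ = 0
    rw [← h.comm_assoc, HomologicalComplex.single_obj_d, zero_comp, comp_zero]
  refine ⟨{ complex := C
            projective := fun n => (IsProjective.iff_projective _).1 (hE _)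
            π := (ChainComplex.toSingle₀Equiv _ _).symm ⟨π₀, hπ⟩
            quasiIso := ⟨fun n => ?_⟩ }, fun n => ⟨Iso.refl _⟩⟩
  cases n with
  | zero =>
    have h0 : QuasiIsoAt h 0 := inferInstance
    rw [quasiIsoAt_iff' h (-1) 0 1 (by simp) (by simp),
      ShortComplex.quasiIso_iff_of_zeros' _ ((hb 1 (by omega)).eq_of_tgt _ _)
        (HomologicalComplex.single_obj_d (ComplexShape.up ℤ) 0 M (-1) 0)
        (HomologicalComplex.single_obj_d (ComplexShape.up ℤ) 0 M 0 1)] at h0
    rw [ChainComplex.quasiIsoAt₀_iff, ShortComplex.quasiIso_iff_of_zeros']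
    · refine (ShortComplex.exact_and_epi_g_iff_of_iso ?_).2 h0
      exact ShortComplex.isoMk (Iso.refl _) (Iso.refl _)
        (HomologicalComplex.singleObjXSelf (ComplexShape.up ℤ) 0 M).symm
        ((Category.id_comp _).trans (Category.comp_id _).symm)
        (by
          refine (Category.id_comp _).trans ?_
          show h.f 0 = ((ChainComplex.toSingle₀Equiv C M).symm ⟨π₀, hπ⟩).f 0 ≫ _
          rw [ChainComplex.toSingle₀Equiv_symm_apply_f_zero]
          simp [π₀])
    all_goals first
      | rfl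
      | exact C.shape _ _ (by simp)
  | succ n =>
    rw [quasiIsoAt_iff_exactAt' (hL := ChainComplex.exactAt_succ_single_obj _ _),
      HomologicalComplex.exactAt_iff' _ (n + 2) (n + 1) n (by simp) (by simp)]
    have hne : (-((n + 1 : ℕ) : ℤ)) ≠ 0 := by omega
    have h' := (quasiIsoAt_iff_exactAt' h _
      (hL := ShortComplex.exact_of_isZero_X₂ _ (HomologicalComplex.isZero_single_obj_X (ComplexShape.up ℤ) 0 M _ hne))).1
      (inferInstance : QuasiIsoAt h (-((n + 1 : ℕ) : ℤ)))
    rw [HomologicalComplex.exactAt_iff' _ (-((n + 2 : ℕ) : ℤ)) (-((n + 1 : ℕ) : ℤ)) (-(n : ℤ))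
      (by simp; omega) (by simp)] at h'
    exact h'

theorem perf_iff_resolution (M : ModuleCat.{u} A) :
    Perf FProj (Dual.inD A M) ↔
      ∃ (P : ProjectiveResolution M) (d : ℕ),
        (∀ i : ℕ, d < i → IsZero (P.complex.X i)) ∧ ∀ i : ℕ, Module.Finite A (P.complex.X i) := by
  constructor
  · intro hM
    obtain ⟨a, E, h, hE, hEp, hq⟩ := exists_resolution_cx hM
    obtain ⟨P, hP⟩ := exists_resolution_of_cx h (fun i hi => hE i (Or.inr hi)) fun i => (hEp i).2
    refine ⟨P, (-a).toNat, fun i hi => (hE _ (Or.inl (by omega))).of_iso (hP i).some, fun i => ?_⟩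
    haveI := (hEp (-(i : ℤ))).1
    exact Module.Finite.equiv (hP i).some.symm.toLinearEquiv
  · rintro ⟨P, d, hd, hfin⟩
    refine ⟨P.cochainComplex, ⟨⟨-d, 0, fun i hi => ?_⟩, fun i => ?_⟩,
      ⟨@asIso _ _ _ _ (DerivedCategory.Q.map P.π') (isIso_Q_map _ inferInstance) ≪≫ singleQZeroIso M⟩⟩
    · rcases hi with hi | hi
      · exact (hd i.natAbs (by omega)).of_iso (P.cochainComplexXIso i i.natAbs (by omega))
      · exact CochainComplex.isZero_of_isStrictlyLE _ 0 i hi
    · by_cases hi : i ≤ 0
      · haveI := hfin i.natAbs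
        refine projClass_fProj.iso (P.cochainComplexXIso i i.natAbs (by omega)).symm ⟨inferInstance, ?_⟩
        exact (IsProjective.iff_projective _).2 (P.projective _)
      · exact projClass_fProj.zero (CochainComplex.isZero_of_isStrictlyLE _ 0 i (by omega))

section Restrict

variable {B : Type u} [CommRing B] (φ : A →+* B)

theorem nonempty_restrictD_inD (M : ModuleCat.{u} B) :
    Nonempty ((DRing.restrictD φ).obj (Dual.inD B M) ≅
      Dual.inD A ((ModuleCat.restrictScalars.{u} φ).obj M)) :=
  ⟨(DRing.restrictD φ).mapIso (singleQZeroIso M).symm ≪≫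
    (ModuleCat.restrictScalars.{u} φ).mapDerivedCategoryFactors.app _ ≪≫
    DerivedCategory.Q.mapIso ((HomologicalComplex.singleMapHomologicalComplex
      (ModuleCat.restrictScalars.{u} φ) (ComplexShape.up ℤ) 0).app M) ≪≫
    singleQZeroIso _⟩

theorem perf_restrictD (hB : Perf FProj ((DRing.restrictD φ).obj (Dual.inD B (ModuleCat.of B B))))
    {K : Dual.D B} (hK : Perf FProj K) : Perf FProj ((DRing.restrictD φ).obj K) := by
  refine class_of_perf (P := fun K => Perf FProj ((DRing.restrictD φ).obj K))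
    (fun e h => h.of_iso ((DRing.restrictD φ).mapIso e))
    (fun T hT h₁ h₃ => Perf.obj₂ projClass_fProj _ ((DRing.restrictD φ).map_distinguished T hT) h₁ h₃)
    (fun X Y _ h => ?_) hB
    (fun K n h => (h.shift n).of_iso (((DRing.restrictD φ).commShiftIso n).app K).symm) hK
  haveI := preservesBinaryBiproducts_of_preservesBiproducts (DRing.restrictD φ)
  exact (h.of_iso ((DRing.restrictD φ).mapBiprod X Y)).summands.1

end Restrict

end Groth.Agent.DRingLib
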