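import Groth.Agent.DRingLib.PseudoCoherent
import Groth.Agent.DRingLib.Finite
import Groth.Agent.DRingLib.Resolution
import Groth.Agent.DRingLib.Misc
import Groth.Agent.TildeD.Homology

/-!
# Pseudo-coherence and restriction of scalars along a pseudo-coherent ring map
-/

set_option autoImplicit false
set_option linter.style.haveILetI false
set_option backward.isDefEq.respectTransparency false

universe u

open CategoryTheory Limits Pretriangulated
attribute [local instance] HasDerivedCategory.standard

noncomputable section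

namespace Groth.Agent.DRingLib

open Groth.Agent.DCohLib

variable {A B : Type u} [CommRing A] [CommRing B] (φ : A →+* B)

/-- The target is pseudo-coherent as a module over the source. -/
def PCMap : Prop := ∀ m : ℤ, PC FFree m ((DRing.restrictD φ).obj (Dual.inD B (ModuleCat.of B B)))

/-- Cohomology commutes with restriction of scalars. -/
def hdRestrictIso (K : Dual.D B) (i : ℤ) :
    (DerivedCategory.homologyFunctor (ModuleCat.{u} A) i).obj ((DRing.restrictD φ).obj K) ≅
      (ModuleCat.restrictScalars.{u} φ).obj ((DerivedCategory.homologyFunctor (ModuleCat.{u} B) i).obj K) :=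
  (Groth.Agent.TildeD.nu (ModuleCat.restrictScalars.{u} φ) i).app K

theorem aboveZero_restrict {n : ℤ} {K : Dual.D B} (h : AboveZero n K) :
    AboveZero n ((DRing.restrictD φ).obj K) := fun i hi =>
  IsZero.of_iso (Functor.map_isZero _ (h i hi)) (hdRestrictIso φ K i)

theorem aboveZero_of_restrict {n : ℤ} {K : Dual.D B} (h : AboveZero n ((DRing.restrictD φ).obj K)) :
    AboveZero n K := fun i hi => by
  have h1 := (h i hi).of_iso (hdRestrictIso φ K i).symm
  have h2 : Subsingleton ((ModuleCat.restrictScalars.{u} φ).obj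
      ((DerivedCategory.homologyFunctor (ModuleCat.{u} B) i).obj K)) := ModuleCat.subsingleton_of_isZero h1
  haveI : Subsingleton ((DerivedCategory.homologyFunctor (ModuleCat.{u} B) i).obj K) := h2
  exact ModuleCat.isZero_of_subsingleton _

variable {φ}

theorem PCMap.perf (h : PCMap φ) {P : Dual.D B} (hP : Perf FProj P) (m : ℤ) :
    PC FFree m ((DRing.restrictD φ).obj P) := by
  refine (class_of_perf (P := fun K => ∀ m, PC FFree m ((DRing.restrictD φ).obj K))
    (fun e h' k => (h' k).of_iso ((DRing.restrictD φ).mapIso e))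
    (fun T hT h₁ h₃ k => PC.obj₂ projClass_fFree _ ((DRing.restrictD φ).map_distinguished T hT) (h₁ k) (h₃ k))
    (fun X Y _ h' k => ?_) h
    (fun K n h' k => ((h' (k + n)).shift' n (by omega)).of_iso
      (((DRing.restrictD φ).commShiftIso n).app K).symm) hP) m
  haveI := preservesBinaryBiproducts_of_preservesBiproducts (DRing.restrictD φ)
  exact (PC.summands projClass_fFree ((h' k).of_iso ((DRing.restrictD φ).mapBiprod X Y))).1

theorem perf_fProj_of_fFree {K : Dual.D B} (h : Perf FFree K) : Perf FProj K := by
  obtain ⟨E, hE, e⟩ := h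
  exact ⟨E, hE.imp fun _ => fFree_imp_fProj, e⟩

/-- Pseudo-coherence ascends along a pseudo-coherent map. -/
theorem PCMap.ascend (h : PCMap φ) {m : ℤ} {K : Dual.D B} (hK : PC FFree m K) :
    PC FFree m ((DRing.restrictD φ).obj K) := by
  obtain ⟨E, α, hE, hα⟩ := hK
  obtain ⟨L, p, q, hT⟩ := distinguished_cocone_triangle α
  have hP : Perf FProj (DRing.toD E) := perf_fProj_of_fFree ⟨E, hE, ⟨Iso.refl _⟩⟩
  have hL : AboveZero m L := fun i hi => by
    have he : Epi ((DerivedCategory.homologyFunctor (ModuleCat.{u} B) i).map α) := by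
      rcases eq_or_lt_of_le hi with rfl | hlt
      · exact ((mIso_iff _ α).1 hα).2
      · haveI := ((mIso_iff _ α).1 hα).1 i hlt
        infer_instance
    have hm : Mono ((DerivedCategory.homologyFunctor (ModuleCat.{u} B) (i + 1)).map α) := by
      haveI := ((mIso_iff _ α).1 hα).1 (i + 1) (by omega)
      infer_instance
    refine (DerivedCategory.HomologySequence.exact₃ _ hT i (i + 1) rfl).isZero_X₂ ?_ ?_
    · exact (DerivedCategory.HomologySequence.epi_homologyMap_mor₁_iff _ hT i).1 he
    · exact (DerivedCategory.HomologySequence.mono_homologyMap_mor₁_iff _ hT i (i + 1) rfl).1 hm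
  exact PC.obj₂ projClass_fFree _ ((DRing.restrictD φ).map_distinguished _ hT) (h.perf hP m)
    (pc_of_aboveZero projClass_fFree (aboveZero_restrict φ hL))

/-- A map from a free module in degree `n` onto the top cohomology. -/
theorem exists_hom_top {K : Dual.D B} {n : ℤ} (hK : AboveZero (n + 1) K)
    (hfin : Module.Finite B ((DerivedCategory.homologyFunctor (ModuleCat.{u} B) n).obj K)) :
    ∃ (P : Dual.D B) (g : P ⟶ K), Perf FFree P ∧ AboveZero (n + 1) P ∧
      Epi ((DerivedCategory.homologyFunctor (ModuleCat.{u} B) n).map g) := by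
  obtain ⟨T, Y, hT, h2, h₁, ⟨e₃⟩, ⟨eY⟩, -⟩ := exists_top_triangle K n hK
  subst h2
  haveI : Module.Finite B Y := Module.Finite.equiv eY.symm.toLinearEquiv
  obtain ⟨r, p, hp⟩ := Module.Finite.exists_fin' B Y
  let H := fun i => DerivedCategory.homologyFunctor (ModuleCat.{u} B) i
  let F : ModuleCat.{u} B := ModuleCat.of B (Fin r → B)
  let P : Dual.D B := (Dual.inD B F)⟦-n⟧
  have hF : Perf FFree (Dual.inD B F) := perf_inD_fin r
  let f : P ⟶ T.obj₃ :=
    ((DerivedCategory.singleFunctor (ModuleCat.{u} B) 0).map (ModuleCat.ofHom p))⟦-n⟧' ≫ e₃.inv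
  -- the obstruction to lifting vanishes
  have hz : f ≫ T.mor₃ = 0 := by
    have hge : AboveZero n ((shiftFunctor (Dual.D B) (1 : ℤ)).obj T.obj₁) := fun i hi =>
      IsZero.of_iso (h₁ (1 + i) (by omega)) (((H 0).shiftIso 1 i (1 + i) rfl).app T.obj₁)
    -- maps from a free module in degree `n` only see cohomology in degrees `≥ n`
    let S : DRing.Cx B := (HomologicalComplex.single (ModuleCat.{u} B) (ComplexShape.up ℤ) n).obj F
    have hS : DRing.VanishesOutside S n n := fun i hi =>
      HomologicalComplex.isZero_single_obj_X _ _ _ _ (by omega)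
    haveI : S.IsKProjective := isKProjective_of_vanishesAbove (b := n) (fun i hi => hS i (Or.inr hi))
      (fun i => by
        rcases eq_or_ne i n with rfl | hne
        · exact Module.Projective.of_equiv
            (HomologicalComplex.singleObjXSelf (ComplexShape.up ℤ) i F).toLinearEquiv.symm
        · haveI := ModuleCat.subsingleton_of_isZero (hS i (by omega))
          infer_instance)
    let eS : DRing.toD S ≅ P :=
      (singleQIso n F).symm ≪≫ (shiftFunctor (Dual.D B) (-n)).mapIso (singleQZeroIso F)
    rw [← cancel_epi eS.hom, comp_zero]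
    exact hom_eq_zero (fun i hi => hS i (Or.inl hi)) hge _
  obtain ⟨g, hg⟩ := Triangle.coyoneda_exact₃ T hT f hz
  refine ⟨P, g, hF.shift _, fun i hi => ?_, ?_⟩
  · exact IsZero.of_iso ((aboveZero_inD F) (-n + i) (by omega))
      (((H 0).shiftIso (-n) i (-n + i) rfl).app _)
  · haveI : Mono ((H n).map T.mor₂) :=
      (DerivedCategory.HomologySequence.mono_homologyMap_mor₂_iff T hT n).2
        ((h₁ n le_rfl).eq_of_src _ _)
    haveI : Epi ((H n).map T.mor₂) :=
      (DerivedCategory.HomologySequence.epi_homologyMap_mor₂_iff T hT n (n + 1) rfl).2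
        ((h₁ (n + 1) (by omega)).eq_of_tgt _ _)
    haveI : IsIso ((H n).map T.mor₂) := isIso_of_mono_of_epi _
    haveI : Epi (ModuleCat.ofHom p) := (ModuleCat.epi_iff_surjective _).2 hp
    haveI : Epi ((H n).map f) := by
      have h0 : Epi ((H (-n + n)).map ((DerivedCategory.singleFunctor (ModuleCat.{u} B) 0).map
          (ModuleCat.ofHom p))) := by
        rw [show -n + n = (0 : ℤ) by omega]
        exact ((MorphismProperty.epimorphisms _).arrow_mk_iso_iff
          (((Functor.mapArrowFunctor _ _).mapIso
            (DerivedCategory.singleFunctorCompHomologyFunctorIso (ModuleCat.{u} B) 0)).app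
                (Arrow.mk (ModuleCat.ofHom p)))).2 ‹_›
      have h1 : Epi ((H n).map (((DerivedCategory.singleFunctor (ModuleCat.{u} B) 0).map
          (ModuleCat.ofHom p))⟦-n⟧')) :=
        ((MorphismProperty.epimorphisms _).arrow_mk_iso_iff
          (Arrow.isoMk (((H 0).shiftIso (-n) n (-n + n) rfl).app _) (((H 0).shiftIso (-n) n (-n + n) rfl).app _)
            (((H 0).shiftIso (-n) n (-n + n) rfl).hom.naturality _).symm)).2 h0
      rw [Functor.map_comp]
      infer_instance
    rw [show (H n).map g = (H n).map f ≫ inv ((H n).map T.mor₂) by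
      rw [IsIso.eq_comp_inv, ← Functor.map_comp, ← hg]]
    infer_instance

/-- Pseudo-coherence descends along a pseudo-coherent map. -/
theorem PCMap.descend (h : PCMap φ) {m : ℤ} {K : Dual.D B}
    (hK : PC FFree m ((DRing.restrictD φ).obj K)) : PC FFree m K := by
  obtain ⟨n, hn⟩ := hK.exists_aboveZero
  suffices ∀ (d : ℕ) (K : Dual.D B), AboveZero (m + d) K → PC FFree m ((DRing.restrictD φ).obj K) →
      PC FFree m K from
    this (n - m).toNat K (aboveZero_of_restrict φ (hn.mono (by omega))) hK
  intro d
  induction d with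
  | zero => intro K hK' _; exact pc_of_aboveZero projClass_fFree (by simpa using hK')
  | succ d ih =>
    intro K hK' hres
    have hn1 : AboveZero (m + d + 1) K := hK'.mono (by push_cast; omega)
    have hfinA := finite_HD (hres.mono (show m ≤ m + d by omega)) (aboveZero_restrict φ hn1)
    haveI hfinB : Module.Finite B ((DerivedCategory.homologyFunctor (ModuleCat.{u} B) (m + d)).obj K) := by
      let N := (DerivedCategory.homologyFunctor (ModuleCat.{u} B) (m + d)).obj K
      haveI : Module.Finite A ((ModuleCat.restrictScalars.{u} φ).obj N) :=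
        @Module.Finite.equiv A _ _ _ _ _ _ _ hfinA (hdRestrictIso φ K (m + d)).toLinearEquiv
      letI := φ.toAlgebra
      letI : Module A N := Module.compHom _ φ
      haveI : IsScalarTower A B N := .of_algebraMap_smul fun _ _ => rfl
      haveI : Module.Finite A N := ‹_›
      exact Module.Finite.of_restrictScalars_finite A B N
    obtain ⟨P, g, hP, hP0, hg⟩ := exists_hom_top hn1 hfinB
    obtain ⟨L, p, q, hT⟩ := distinguished_cocone_triangle g
    have hL : AboveZero (m + d) L := fun i hi => by
      refine (DerivedCategory.HomologySequence.exact₃ _ hT i (i + 1) rfl).isZero_X₂ ?_ ?_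
      · refine (DerivedCategory.HomologySequence.epi_homologyMap_mor₁_iff _ hT i).1 ?_
        rcases eq_or_lt_of_le hi with rfl | hlt
        · exact hg
        · exact ⟨fun a b _ => (hn1 i (by omega)).eq_of_src a b⟩
      · exact (hP0 (i + 1) (by omega)).eq_of_tgt _ _
    refine PC.obj₂ projClass_fFree _ hT (hP.pc m) (ih L hL ?_)
    exact PC.obj₃ projClass_fFree _ ((DRing.restrictD φ).map_distinguished _ hT)
      (h.perf (perf_fProj_of_fFree hP) (m + 1)) hres

theorem PCMap.pc_iff (h : PCMap φ) {m : ℤ} {K : Dual.D B} :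
    PC FFree m K ↔ PC FFree m ((DRing.restrictD φ).obj K) :=
  ⟨h.ascend, h.descend⟩

end Groth.Agent.DRingLib
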