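import Groth.Agent.DRingLib.Build
import Mathlib.Algebra.Homology.DerivedCategory.SingleTriangle
import Mathlib.CategoryTheory.Triangulated.TStructure.TruncLTGE
import Mathlib.RingTheory.Noetherian.Basic
import Mathlib.Algebra.Module.FinitePresentation

/-!
# Pseudo-coherent objects
-/

set_option autoImplicit false
set_option linter.style.haveILetI false

universe u

open CategoryTheory Limits Pretriangulated
attribute [local instance] HasDerivedCategory.standard

noncomputable section

namespace Groth.Agent.DRingLib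

open Groth.Agent.DCohLib

variable {A : Type u} [CommRing A] {Φ : ModuleCat.{u} A → Prop}

/-- A module in degree `n`. -/
abbrev singleQ (n : ℤ) (M : ModuleCat.{u} A) : Dual.D A :=
  DRing.toD ((HomologicalComplex.single (ModuleCat.{u} A) (ComplexShape.up ℤ) n).obj M)

/-- A module in degree `n` is a shift of the module in degree `0`. -/
def singleQIso (n : ℤ) (M : ModuleCat.{u} A) : (singleQ 0 M)⟦-n⟧ ≅ singleQ n M :=
  ((DerivedCategory.Q.commShiftIso (-n)).app _).symm ≪≫
    DerivedCategory.Q.mapIso (((CochainComplex.singleFunctors (ModuleCat.{u} A)).shiftIso (-n) n 0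
      (by omega)).app M)

/-- The module in degree `0` in the prelude's form. -/
def singleQZeroIso (M : ModuleCat.{u} A) : singleQ 0 M ≅ Dual.inD A M :=
  ((DerivedCategory.singleFunctorIsoCompQ (ModuleCat.{u} A) 0).app M).symm

theorem perf_singleQ (hΦ : ProjClass Φ) (n : ℤ) {M : ModuleCat.{u} A} (hM : Φ M) :
    Perf Φ (singleQ n M) := by
  refine ⟨_, ⟨⟨n, n, fun i hi => HomologicalComplex.isZero_single_obj_X _ _ _ _ (by omega)⟩, fun i => ?_⟩,
    ⟨Iso.refl _⟩⟩
  by_cases hi : i = n
  · subst hi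
    exact hΦ.iso (HomologicalComplex.singleObjXSelf _ i M).symm hM
  · exact hΦ.zero (HomologicalComplex.isZero_single_obj_X _ _ _ _ hi)

theorem perf_inD (hΦ : ProjClass Φ) {M : ModuleCat.{u} A} (hM : Φ M) : Perf Φ (Dual.inD A M) :=
  (perf_singleQ hΦ 0 hM).of_iso (singleQZeroIso M)

theorem aboveZero_inD (M : ModuleCat.{u} A) : AboveZero 1 (Dual.inD A M) := fun i hi =>
  DerivedCategory.isZero_of_isLE ((DerivedCategory.singleFunctor (ModuleCat.{u} A) 0).obj M) 0 i (by omega)

theorem nonempty_HD_inD (M : ModuleCat.{u} A) : Nonempty (Dual.HD A (Dual.inD A M) 0 ≃ₗ[A] M) :=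
  ⟨((DerivedCategory.singleFunctorCompHomologyFunctorIso (ModuleCat.{u} A) 0).app M).toLinearEquiv⟩

theorem pc_zero_inD {M : ModuleCat.{u} A} (hM : Module.Finite A M) : PC FFree 0 (Dual.inD A M) := by
  obtain ⟨r, p, hp⟩ := Module.Finite.exists_fin' A M
  let π : ModuleCat.of A (Fin r → A) ⟶ M := ModuleCat.ofHom p
  haveI : Epi π := (ModuleCat.epi_iff_surjective _).2 hp
  obtain ⟨E, hE, ⟨e⟩⟩ := perf_inD projClass_fFree (M := ModuleCat.of A (Fin r → A))
    ⟨inferInstanceAs (Module.Finite A (Fin r → A)), inferInstanceAs (Module.Free A (Fin r → A))⟩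
  let F := DerivedCategory.singleFunctor (ModuleCat.{u} A) 0
  refine ⟨E, e.hom ≫ F.map π, hE, (mIso_of_isIso 0 _).comp ((mIso_iff 0 _).2 ⟨fun i hi => ?_, ?_⟩)⟩
  · exact (aboveZero_inD (ModuleCat.of A (Fin r → A)) i (by omega)).isIso (aboveZero_inD M i (by omega)) _
  · let H := DerivedCategory.homologyFunctor (ModuleCat.{u} A) 0
    let η := DerivedCategory.singleFunctorCompHomologyFunctorIso (ModuleCat.{u} A) 0
    haveI : Epi (η.hom.app _ ≫ π) := inferInstance
    have hn : H.map (F.map π) ≫ η.hom.app M = η.hom.app _ ≫ π := η.hom.naturality π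
    haveI : Epi (H.map (F.map π) ≫ η.hom.app M) := by rw [hn]; infer_instance
    exact ((MorphismProperty.epimorphisms (ModuleCat.{u} A)).arrow_mk_iso_iff
      (Arrow.isoMk (η.app _) (η.app M) hn.symm)).2 (inferInstanceAs (Epi π))

theorem finite_of_pc_zero {M : ModuleCat.{u} A} (h : PC FFree 0 (Dual.inD A M)) : Module.Finite A M := by
  haveI := finite_HD h (aboveZero_inD M)
  exact Module.Finite.equiv (nonempty_HD_inD M).some

/-- The triangle of a short exact sequence of modules. -/
theorem exists_triangle_of_surjective {F M : Type u} [AddCommGroup F] [Module A F] [AddCommGroup M] [Module A M]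
    (p : F →ₗ[A] M) (hp : Function.Surjective p) :
    ∃ (T : Triangle (Dual.D A)), T ∈ distTriang _ ∧ T.obj₁ = Dual.inD A (LinearMap.ker p) ∧
      T.obj₂ = Dual.inD A F ∧ T.obj₃ = Dual.inD A M := by
  let S : ShortComplex (ModuleCat.{u} A) :=
    ShortComplex.mk (ModuleCat.ofHom (LinearMap.ker p).subtype) (ModuleCat.ofHom p)
      (ModuleCat.hom_ext (LinearMap.ext fun x => x.2))
  have hS : S.ShortExact :=
    { exact := (ShortComplex.moduleCat_exact_iff S).2 fun x hx => ⟨⟨x, hx⟩, rfl⟩
      mono_f := (ModuleCat.mono_iff_injective _).2 Subtype.val_injective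
      epi_g := (ModuleCat.epi_iff_surjective _).2 hp }
  exact ⟨_, hS.singleTriangle_distinguished, rfl, rfl, rfl⟩

theorem perf_inD_fin (r : ℕ) : Perf FFree (Dual.inD A (Fin r → A)) :=
  perf_inD projClass_fFree (M := ModuleCat.of A (Fin r → A))
    ⟨inferInstanceAs (Module.Finite A (Fin r → A)), inferInstanceAs (Module.Free A (Fin r → A))⟩

theorem pc_negOne_iff (M : Type u) [AddCommGroup M] [Module A M] :
    PC FFree (-1) (Dual.inD A M) ↔ Module.FinitePresentation A M := by
  constructor
  · intro h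
    haveI : Module.Finite A M := finite_of_pc_zero (M := ModuleCat.of A M) (h.mono (by omega))
    obtain ⟨r, p, hp⟩ := Module.Finite.exists_fin' A M
    obtain ⟨T, hT, h1, h2, h3⟩ := exists_triangle_of_surjective p hp
    have hN : PC FFree 0 (Dual.inD A (LinearMap.ker p)) := by
      rw [← h1]
      refine PC.obj₁ projClass_fFree T hT (m := -1) ?_ (by rw [h3]; exact h)
      rw [h2]
      exact (perf_inD_fin r).pc _
    haveI := finite_of_pc_zero (M := ModuleCat.of A (LinearMap.ker p)) hN
    exact Module.finitePresentation_of_free_of_surjective p hp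
      ((Module.Finite.iff_fg).1 ‹_›)
  · intro h
    obtain ⟨r, p, hp⟩ := Module.Finite.exists_fin' A M
    obtain ⟨T, hT, h1, h2, h3⟩ := exists_triangle_of_surjective p hp
    have hN : Module.Finite A (LinearMap.ker p) :=
      Module.Finite.iff_fg.2 (Module.FinitePresentation.fg_ker p hp)
    rw [← h3]
    refine PC.obj₃ projClass_fFree T hT ?_ (by rw [h2]; exact (perf_inD_fin r).pc _)
    rw [h1]
    exact pc_zero_inD (M := ModuleCat.of A (LinearMap.ker p)) hN

theorem pc_inD_of_finite [IsNoetherianRing A] :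
    ∀ (d : ℕ) (M : Type u) [AddCommGroup M] [Module A M] [Module.Finite A M],
      PC FFree (-(d : ℤ)) (Dual.inD A M) := by
  intro d
  induction d with
  | zero => intro M _ _ h; simpa using pc_zero_inD (M := ModuleCat.of A M) h
  | succ d ih =>
    intro M _ _ _
    obtain ⟨r, p, hp⟩ := Module.Finite.exists_fin' A M
    obtain ⟨T, hT, h1, h2, h3⟩ := exists_triangle_of_surjective p hp
    rw [← h3]
    refine PC.obj₃ projClass_fFree T hT ?_ (by rw [h2]; exact (perf_inD_fin r).pc _)
    rw [h1]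
    exact (ih (LinearMap.ker p)).mono (by push_cast; omega)

/-- Splitting off the top cohomology. -/
theorem exists_top_triangle (K : Dual.D A) (n : ℤ) (h : AboveZero (n + 1) K) :
    ∃ (T : Triangle (Dual.D A)) (Y : ModuleCat.{u} A), T ∈ distTriang _ ∧ T.obj₂ = K ∧
      AboveZero n T.obj₁ ∧ Nonempty (T.obj₃ ≅ (Dual.inD A Y)⟦-n⟧) ∧
      Nonempty (Y ≅ (DerivedCategory.homologyFunctor (ModuleCat.{u} A) n).obj K) ∧
      ∀ i, i < n → Nonempty ((DerivedCategory.homologyFunctor (ModuleCat.{u} A) i).obj T.obj₁ ≅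
        (DerivedCategory.homologyFunctor (ModuleCat.{u} A) i).obj K) := by
  let t := (DerivedCategory.TStructure.t : Triangulated.TStructure (Dual.D A))
  let T := (t.triangleLTGE n).obj K
  have hT : T ∈ distTriang _ := t.triangleLTGE_distinguished n K
  have h₁ : AboveZero n T.obj₁ := fun i hi => by
    haveI : DerivedCategory.IsLE T.obj₁ (n - 1) := inferInstanceAs (t.IsLE ((t.truncLT n).obj K) (n - 1))
    exact DerivedCategory.isZero_of_isLE T.obj₁ (n - 1) i (by omega)
  haveI hGE : DerivedCategory.IsGE T.obj₃ n := inferInstanceAs (t.IsGE ((t.truncGE n).obj K) n)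
  have h₂ : AboveZero (n + 1) T.obj₂ := h
  have h₃ : AboveZero (n + 1) T.obj₃ := fun i hi =>
    (DerivedCategory.HomologySequence.exact₃ T hT i (i + 1) rfl).isZero_X₂
      ((h₂ i hi).eq_of_src _ _) ((h₁ (i + 1) (by omega)).eq_of_tgt _ _)
  haveI hLE : DerivedCategory.IsLE T.obj₃ n := (DerivedCategory.isLE_iff T.obj₃ n).2 fun i hi => h₃ i (by omega)
  obtain ⟨Y, ⟨eY⟩⟩ := DerivedCategory.exists_iso_singleFunctor_obj_of_isGE_of_isLE T.obj₃ n
  let e₃ : T.obj₃ ≅ (Dual.inD A Y)⟦-n⟧ :=
    eY ≪≫ (DerivedCategory.singleFunctorIsoCompQ (ModuleCat.{u} A) n).app Y ≪≫ (singleQIso n Y).symm ≪≫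
      (shiftFunctor (Dual.D A) (-n)).mapIso (singleQZeroIso Y)
  let H := fun i => DerivedCategory.homologyFunctor (ModuleCat.{u} A) i
  haveI : Mono ((H n).map T.mor₂) :=
    (DerivedCategory.HomologySequence.mono_homologyMap_mor₂_iff T hT n).2
      ((h₁ n le_rfl).eq_of_src _ _)
  haveI : Epi ((H n).map T.mor₂) :=
    (DerivedCategory.HomologySequence.epi_homologyMap_mor₂_iff T hT n (n + 1) rfl).2
      ((h₁ (n + 1) (by omega)).eq_of_tgt _ _)
  haveI : IsIso ((H n).map T.mor₂) := isIso_of_mono_of_epi _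
  refine ⟨T, Y, hT, rfl, h₁, ⟨e₃⟩, ⟨?_⟩, fun i hi => ⟨?_⟩⟩
  · exact ((DerivedCategory.singleFunctorCompHomologyFunctorIso (ModuleCat.{u} A) n).app Y).symm ≪≫
      (H n).mapIso eY.symm ≪≫ (asIso ((H n).map T.mor₂)).symm
  · have z : IsZero ((H i).obj T.obj₃) := DerivedCategory.isZero_of_isGE T.obj₃ n i hi
    have z' : IsZero ((H (i - 1)).obj T.obj₃) := DerivedCategory.isZero_of_isGE T.obj₃ n (i - 1) (by omega)
    haveI hE1 : Epi ((H i).map T.mor₁) :=
      (DerivedCategory.HomologySequence.epi_homologyMap_mor₁_iff T hT i).2 (z.eq_of_tgt _ _)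
    haveI hM1 : Mono ((H i).map T.mor₁) :=
      (DerivedCategory.HomologySequence.mono_homologyMap_mor₁_iff T hT (i - 1) i (by omega)).2
        (z'.eq_of_src _ _)
    exact @asIso _ _ _ _ ((H i).map T.mor₁) (@isIso_of_mono_of_epi _ _ _ _ _ _ hM1 hE1)

theorem pc_of_top (hΦ : ProjClass Φ) {K : Dual.D A} {m n : ℤ} (T : Triangle (Dual.D A))
    (hT : T ∈ distTriang _) (h2 : T.obj₂ = K) (h₁ : PC Φ m T.obj₁) {Y : ModuleCat.{u} A}
    (e : T.obj₃ ≅ (Dual.inD A Y)⟦-n⟧) (hY : PC Φ (m - n) (Dual.inD A Y)) : PC Φ m K :=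
  h2 ▸ PC.obj₂ hΦ T hT h₁ ((hY.shift' (-n) (by omega)).of_iso e.symm)

/-- Approximations from approximations of the cohomology modules. -/
theorem pc_of_homology (hΦ : ProjClass Φ) (m : ℤ) :
    ∀ (d : ℕ) (K : Dual.D A), AboveZero (m + d) K →
      (∀ i, m ≤ i → PC Φ (m - i) (Dual.inD A (Dual.HD A K i))) → PC Φ m K := by
  intro d
  induction d with
  | zero => intro K hK _; exact pc_of_aboveZero hΦ (by simpa using hK)
  | succ d ih =>
    intro K hK h
    obtain ⟨T, Y, hT, h2, h₁, ⟨e⟩, ⟨eY⟩, hlow⟩ := exists_top_triangle K (m + d)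
      (hK.mono (by push_cast; omega))
    refine pc_of_top hΦ T hT h2 (ih T.obj₁ h₁ fun i hi => ?_) e ?_
    · rcases lt_or_ge i (m + d) with hi' | hi'
      · obtain ⟨e'⟩ := hlow i hi'
        exact (h i hi).of_iso ((DerivedCategory.singleFunctor (ModuleCat.{u} A) 0).mapIso e'.symm)
      · exact pc_of_aboveZero hΦ fun j hj =>
          Functor.map_isZero _ (Functor.map_isZero _ (h₁ i hi'))
    · exact (h (m + d) (by omega)).of_iso ((DerivedCategory.singleFunctor (ModuleCat.{u} A) 0).mapIso eY.symm)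

theorem isIso_brutalι_of_le {E : DRing.Cx A} {a : ℤ} (h : ∀ i, i < a → IsZero (E.X i)) :
    IsIso (KFlat.brutalι E a) := by
  haveI : ∀ n, IsIso ((KFlat.brutalι E a).f n) := fun n => by
    by_cases hn : a ≤ n
    · exact KFlat.isIso_incl E a hn
    · exact ⟨0, (KFlat.isZero_brutal E a (not_le.1 hn)).eq_of_src _ _, (h n (not_le.1 hn)).eq_of_src _ _⟩
  exact HomologicalComplex.Hom.isIso_of_components _

theorem brutal_pc (hΦ : ProjClass Φ) (E : DRing.Cx A) {b : ℤ} (hb : DRing.VanishesAbove E b) (m : ℤ)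
    (h : ∀ i, m ≤ i → PC Φ (m - i) (Dual.inD A (E.X i))) :
    ∀ N : ℕ, m ≤ b + 1 - N → PC Φ m (DRing.toD (KFlat.brutal E (b + 1 - N))) := by
  intro N
  induction N with
  | zero =>
    intro _
    refine pc_of_aboveZero hΦ (aboveZero_zero m (DerivedCategory.Q.map_isZero ?_))
    rw [IsZero.iff_id_eq_zero]
    refine HomologicalComplex.hom_ext _ _ fun n => ?_
    by_cases hn : n < b + 1 - (0 : ℕ)
    · exact (KFlat.isZero_brutal E _ hn).eq_of_src _ _
    · exact (KFlat.isZero_brutal_of_isZero E _ (hb n (by push_cast at hn; omega))).eq_of_src _ _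
  | succ N ih =>
    intro hN
    obtain ⟨c, hc⟩ : ∃ c : ℤ, c = b + 1 - (N + 1 : ℕ) := ⟨_, rfl⟩
    rw [← hc]
    have hc' : b + 1 - (N : ℕ) = c + 1 := by push_cast at hc ⊢; omega
    rw [hc'] at ih
    have hS : (KFlat.brutalShortComplex E c).ShortExact :=
      HomologicalComplex.shortExact_of_degreewise_shortExact _ fun i => (KFlat.brutalSplitting E c i).shortExact
    refine PC.obj₂ hΦ _ (DerivedCategory.triangleOfSES_distinguished hS) (ih (by omega)) ?_
    exact ((((h c (by omega)).of_iso (singleQZeroIso (E.X c)).symm).shift' (-c) (by omega)).of_iso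
      (singleQIso c (E.X c)))

/-- Approximations from approximations of the terms. -/
theorem pc_of_terms (hΦ : ProjClass Φ) {E : DRing.Cx A} {b : ℤ} (hb : DRing.VanishesAbove E b) (m : ℤ)
    (h : ∀ i, m ≤ i → PC Φ (m - i) (Dual.inD A (E.X i))) : PC Φ m (DRing.toD E) := by
  rcases le_or_gt m (b + 1) with hm | hm
  · have h' := brutal_pc hΦ E hb m h (b + 1 - m).toNat (by omega)
    rw [show b + 1 - ((b + 1 - m).toNat : ℤ) = m by omega] at h'
    obtain ⟨F, α, hF, hα⟩ := h'
    exact ⟨F, α ≫ DerivedCategory.Q.map (KFlat.brutalι E m), hF,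
      hα.comp (mIso_Q_map _ m (isIso_homologyMap_brutalι E m) (epi_homologyMap_brutalι E m))⟩
  · refine pc_of_aboveZero hΦ fun i hi => ?_
    exact ((HomologicalComplex.exactAt_iff_isZero_homology _ _).1
      (ShortComplex.exact_of_isZero_X₂ _ (hb i (by omega)))).of_iso
        ((DerivedCategory.homologyFunctorFactors _ i).app E)

/-- Pseudo-coherence means approximability in every degree. -/
theorem isPseudoCoherent'_iff (K : Dual.D A) :
    DRing.IsPseudoCoherent' A K ↔ ∀ m, PC FFree m K := by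
  constructor
  · rintro ⟨E, b, hb, hE, ⟨e⟩⟩ m
    exact (pc_of_terms projClass_fFree hb m fun i _ =>
      (perf_inD projClass_fFree (hE i)).pc _).of_iso e
  · intro h
    obtain ⟨n, hn⟩ := (h 0).exists_aboveZero
    let F := DerivedCategory.Q.objPreimage K
    let e : DRing.toD F ≅ K := DerivedCategory.Q.objObjPreimageIso K
    obtain ⟨P, g, hP, hPf, hg⟩ := exists_representative F n (hn.of_iso e) fun m => (h m).of_iso e.symm
    exact ⟨P, n, hP, hPf, ⟨@asIso _ _ _ _ (DerivedCategory.Q.map g)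
      (Localization.inverts DerivedCategory.Q (HomologicalComplex.quasiIso _ _) g
        ((HomologicalComplex.mem_quasiIso_iff g).2 hg)) ≪≫ e⟩⟩

end Groth.Agent.DRingLib

namespace Groth.Agent.DRingLib

open Groth.Agent.DCohLib

variable {A : Type u} [CommRing A]

/-- Over a Noetherian ring the cohomology of an `m`-pseudo-coherent object is finite from degree `m` on. -/
theorem finite_HD_of_noetherian [IsNoetherianRing A] {m i : ℤ} {K : Dual.D A} (h : PC FFree m K)
    (hi : m ≤ i) : Module.Finite A (Dual.HD A K i) := by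
  obtain ⟨E, α, hE, hα⟩ := h.mono hi
  haveI : Module.Finite A (E.X i) := (hE.2 i).1
  haveI : IsNoetherian A (E.X i) := isNoetherian_of_isNoetherianRing_of_finite A _
  haveI : Module.Finite A (Zc E i) := Module.Finite.of_fg (IsNoetherian.noetherian _)
  obtain ⟨q, hq⟩ := surjective_homologyπ_ker E i
  haveI : Module.Finite A ((HomologicalComplex.homologyFunctor (ModuleCat.{u} A) (ComplexShape.up ℤ) i).obj E) :=
    (Module.Finite.of_surjective q hq : Module.Finite A (E.homology i))
  haveI : Module.Finite A (Dual.HD A (DRing.toD E) i) :=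
    Module.Finite.equiv ((DerivedCategory.homologyFunctorFactors _ i).app E).toLinearEquiv.symm
  exact Module.Finite.of_surjective ((DerivedCategory.homologyFunctor _ i).map α).hom
    ((ModuleCat.epi_iff_surjective _).1 ((mIso_iff i α).1 hα).2)

end Groth.Agent.DRingLib
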