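import Groth.Agent.DRingLib.BaseChange
import Groth.Agent.DRingLib.Resolution

/-!
# Tor amplitude through derived tensor products with modules
-/

set_option autoImplicit false
set_option linter.style.haveILetI false
set_option backward.isDefEq.respectTransparency false

universe u

open CategoryTheory Limits MonoidalCategory Pretriangulated
attribute [local instance] HasDerivedCategory.standard

noncomputable section

namespace Groth.Agent.DRingLib

open Groth.Agent.DCohLib Groth.Agent.DTenLib CochainComplex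

variable {A : Type u} [CommRing A]

/-- Tensoring with a module, on complexes. -/
abbrev tensM (M : ModuleCat.{u} A) : DRing.Cx A ⥤ DRing.Cx A :=
  (tensorLeft M).mapHomologicalComplex (ComplexShape.up ℤ)

/-- Exactness outside an interval after tensoring with any module. -/
def TensVanish (N : DRing.Cx A) (a b : ℤ) : Prop :=
  ∀ (M : ModuleCat.{u} A) (i : ℤ), (i < a ∨ b < i) → ((tensM M).obj N).ExactAt i

/-- Tensoring with the ring changes nothing. -/
def tensUnitIso (N : DRing.Cx A) : (tensM (𝟙_ (ModuleCat.{u} A))).obj N ≅ N :=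
  HomologicalComplex.Hom.isoOfComponents (fun i => λ_ (N.X i))
    fun i j _ => (MonoidalCategory.leftUnitor_naturality (N.d i j)).symm

theorem TensVanish.exactAt {N : DRing.Cx A} {a b : ℤ} (h : TensVanish N a b) (i : ℤ)
    (hi : i < a ∨ b < i) : N.ExactAt i :=
  (h _ i hi).of_iso (tensUnitIso N)

theorem nonempty_tensM_iso {N N' : DRing.Cx A} (hN : DRing.IsKFlat A N) (hN' : DRing.IsKFlat A N')
    (e : DRing.toD N ≅ DRing.toD N') (M : ModuleCat.{u} A) :
    Nonempty (DRing.toD ((tensM M).obj N) ≅ DRing.toD ((tensM M).obj N')) := by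
  haveI := hasLTen A
  obtain ⟨e₁⟩ := nonempty_tensorLeft_iso M hN
  obtain ⟨e₂⟩ := nonempty_tensorLeft_iso M hN'
  exact ⟨e₁ ≪≫ (DTen.LTen₂ A).mapIso (Iso.prod (Iso.refl _) e) ≪≫ e₂.symm⟩

theorem exactAt_iff_isZero_homologyFunctor (N : DRing.Cx A) (i : ℤ) :
    N.ExactAt i ↔ IsZero ((DerivedCategory.homologyFunctor (ModuleCat.{u} A) i).obj (DRing.toD N)) := by
  rw [HomologicalComplex.exactAt_iff_isZero_homology]
  exact ⟨fun h => h.of_iso ((DerivedCategory.homologyFunctorFactors _ i).app N),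
    fun h => h.of_iso ((DerivedCategory.homologyFunctorFactors _ i).app N).symm⟩

theorem exactAt_of_toD_iso {N N' : DRing.Cx A} (e : DRing.toD N ≅ DRing.toD N') (i : ℤ) (h : N.ExactAt i) :
    N'.ExactAt i :=
  (exactAt_iff_isZero_homologyFunctor _ _).2 (((exactAt_iff_isZero_homologyFunctor _ _).1 h).of_iso
    ((DerivedCategory.homologyFunctor (ModuleCat.{u} A) i).mapIso e).symm)

theorem tensVanish_of_amplitude {N : DRing.Cx A} (hN : DRing.IsKFlat A N) {a b : ℤ}
    (h : DRing.HasTorAmplitudeIn A a b (DRing.toD N)) : TensVanish N a b := by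
  obtain ⟨E, hE, hflat, ⟨e⟩⟩ := h
  intro M i hi
  obtain ⟨e'⟩ := nonempty_tensM_iso (isKFlat_of_vanishesAbove (b := b) (fun j hj => hE j (Or.inr hj)) hflat) hN e M
  exact exactAt_of_toD_iso e' i (ShortComplex.exact_of_isZero_X₂ _ ((tensorLeft M).map_isZero (hE i hi)))

theorem amplitude_of_tensVanish_top {N : DRing.Cx A} {a b : ℤ} (hb : DRing.VanishesAbove N b)
    (hflat : DRing.TermwiseFlat N) (h : TensVanish N a b) : DRing.HasTorAmplitudeIn A a b (DRing.toD N) := by
  rcases le_or_gt a (b + 1) with hab | hab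
  · refine exists_truncated (Ψ := fun M => Module.Flat A M) (fun e hM => ?_) (fun hM => ?_) a b hab hb
      (fun i _ => hflat i) (fun i hi => h.exactAt i (Or.inl hi)) ?_
    · haveI := hM
      exact Module.Flat.of_linearEquiv e.symm.toLinearEquiv
    · haveI := ModuleCat.subsingleton_of_isZero hM
      exact inferInstance
    · haveI := hflat a
      haveI : Module.Flat A (N.X a ⧸ LinearMap.range (N.d (a - 1) a).hom) := by
        refine flat_quotient_range_of_exact (N.d (a - 1 - 1) (a - 1)).hom (N.d (a - 1) a).hom fun M _ _ => ?_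
        have h' := h (ModuleCat.of A M) (a - 1) (Or.inl (by omega))
        rw [HomologicalComplex.exactAt_iff' _ (a - 1 - 1) (a - 1) a (by simp) (by simp),
          ShortComplex.ShortExact.moduleCat_exact_iff_function_exact] at h'
        exact h'
      obtain ⟨e⟩ := opcycles_equiv N a
      exact Module.Flat.of_linearEquiv e.symm
  · have hz : IsZero (DRing.toD N) :=
      isZero_of_isGE_of_aboveZero (n := b + 1)
        ((DerivedCategory.isGE_iff _ _).2 fun i hi => (exactAt_iff_isZero_homologyFunctor N i).1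
          (h.exactAt i (by omega)))
        fun i hi => (exactAt_iff_isZero_homologyFunctor N i).1 (h.exactAt i (by omega))
    exact ⟨HomologicalComplex.zero, fun i _ => isZero_zero _,
      fun i => by
        haveI : Subsingleton ((HomologicalComplex.zero : DRing.Cx A).X i) :=
          ModuleCat.subsingleton_of_isZero (isZero_zero _)
        exact inferInstance,
      ⟨(DerivedCategory.Q.map_isZero HomologicalComplex.isZero_zero).iso hz⟩⟩

theorem tensVanish_iff {N : DRing.Cx A} {c : ℤ} (hb : DRing.VanishesAbove N c) (hflat : DRing.TermwiseFlat N)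
    (a b : ℤ) : DRing.HasTorAmplitudeIn A a b (DRing.toD N) ↔ TensVanish N a b := by
  refine ⟨tensVanish_of_amplitude (isKFlat_of_vanishesAbove hb hflat), fun h => ?_⟩
  obtain ⟨N', hb', hN', ⟨e⟩⟩ := exists_proj_representative (K := DRing.toD N) (n := b)
    fun i hi => (exactAt_iff_isZero_homologyFunctor N i).1 (h.exactAt i (Or.inr (by omega)))
  obtain ⟨E, hE, hEf, ⟨e'⟩⟩ := amplitude_of_tensVanish_top (a := a) hb' (termwiseFlat_of_projective hN')
    fun M i hi => by
      obtain ⟨e''⟩ := nonempty_tensM_iso (isKFlat_of_vanishesAbove hb hflat) (isKFlat_of_projective hb' hN')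
        e.symm M
      exact exactAt_of_toD_iso e'' i (h M i hi)
  exact ⟨E, hE, hEf, ⟨e' ≪≫ e⟩⟩

theorem aboveZero_of_amplitude {K : Dual.D A} {a b : ℤ} (h : DRing.HasTorAmplitudeIn A a b K) :
    AboveZero (b + 1) K := by
  obtain ⟨E, hE, -, ⟨e⟩⟩ := h
  exact (aboveZero_toD fun i hi => hE i (Or.inr (by omega))).of_iso e.symm

theorem amp_of_iso {K L : Dual.D A} {a b : ℤ} (e : K ≅ L) (h : DRing.HasTorAmplitudeIn A a b K) :
    DRing.HasTorAmplitudeIn A a b L := by
  obtain ⟨E, hE, hEf, ⟨e'⟩⟩ := h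
  exact ⟨E, hE, hEf, ⟨e' ≪≫ e⟩⟩

theorem amp_shift {K : Dual.D A} {a b : ℤ} (h : DRing.HasTorAmplitudeIn A a b K) (n : ℤ) :
    DRing.HasTorAmplitudeIn A (a - n) (b - n) (K⟦n⟧) := by
  obtain ⟨E, hE, hEf, ⟨e⟩⟩ := h
  exact ⟨E⟦n⟧, fun i hi => hE (i + n) (by omega), fun i => hEf (i + n),
    ⟨(DerivedCategory.Q.commShiftIso n).app E ≪≫ (CategoryTheory.shiftFunctor (Dual.D A) n).mapIso e⟩⟩

theorem amp_obj₃ {a b : ℤ} (T : Triangle (Dual.D A)) (hT : T ∈ distTriang _)
    (h₁ : DRing.HasTorAmplitudeIn A (a + 1) (b + 1) T.obj₁) (h₂ : DRing.HasTorAmplitudeIn A a b T.obj₂) :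
    DRing.HasTorAmplitudeIn A a b T.obj₃ := by
  obtain ⟨N₁, hb₁, hN₁, ⟨e₁⟩⟩ := exists_proj_representative (n := b + 1) (aboveZero_of_amplitude h₁)
  obtain ⟨N₂, hb₂, hN₂, ⟨e₂⟩⟩ := exists_proj_representative (n := b) (aboveZero_of_amplitude h₂)
  haveI := isKProjective_of_vanishesAbove hb₁ hN₁
  obtain ⟨f, hf⟩ := Q_map_surjective N₁ N₂ (e₁.hom ≫ T.mor₁ ≫ e₂.inv)
  let C := mappingCone f
  have hD := DerivedCategory.mappingCone_triangle_distinguished f
  let eT := isoTriangleOfIso₁₂ _ _ hD hT e₁ e₂ (by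
    show DerivedCategory.Q.map f ≫ e₂.hom = e₁.hom ≫ T.mor₁
    rw [hf, Category.assoc, Category.assoc, e₂.inv_hom_id, Category.comp_id])
  refine amp_of_iso (Triangle.π₃.mapIso eT) ?_
  have hCb : DRing.VanishesAbove C (b + 1) := fun i hi =>
    ((biprod_isZero_iff _ _).2 ⟨hb₁ (i + 1) (by omega), hb₂ i (by omega)⟩).of_iso
      (HomologicalComplex.homotopyCofiber.XIsoBiprod f i (i + 1) rfl)
  have hC : ∀ i, Module.Projective A (C.X i) := fun i =>
    projClass_aProj.iso (HomologicalComplex.homotopyCofiber.XIsoBiprod f i (i + 1) rfl).symm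
      (projClass_aProj.biprod (hN₁ (i + 1)) (hN₂ i))
  refine (tensVanish_iff hCb (termwiseFlat_of_projective hC) a b).2 fun M i hi => ?_
  refine exactAt_of_toD_iso (DerivedCategory.Q.mapIso
    (CochainComplex.mappingCone.mapHomologicalComplexIso f (tensorLeft M)).symm) i ?_
  rw [exactAt_iff_isZero_homologyFunctor]
  have hT' := DerivedCategory.mappingCone_triangle_distinguished ((tensM M).map f)
  have z₂ := (exactAt_iff_isZero_homologyFunctor _ _).1
    (tensVanish_of_amplitude (isKFlat_of_projective hb₂ hN₂) (amp_of_iso e₂.symm h₂) M i hi)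
  have z₁ := (exactAt_iff_isZero_homologyFunctor _ _).1
    (tensVanish_of_amplitude (isKFlat_of_projective hb₁ hN₁) (amp_of_iso e₁.symm h₁) M (i + 1)
      (by omega))
  exact (DerivedCategory.HomologySequence.exact₃ _ hT' i (i + 1) rfl).isZero_of_both_zeros
    (z₂.eq_of_src _ _) (z₁.eq_of_tgt _ _)

theorem amp_obj₁ {a b : ℤ} (T : Triangle (Dual.D A)) (hT : T ∈ distTriang _)
    (h₂ : DRing.HasTorAmplitudeIn A (a + 1) (b + 1) T.obj₂) (h₃ : DRing.HasTorAmplitudeIn A a b T.obj₃) :
    DRing.HasTorAmplitudeIn A (a + 1) (b + 1) T.obj₁ := by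
  have h := amp_shift (amp_obj₃ _ (rot_of_distTriang _ hT) h₂ h₃) (-1)
  rw [sub_neg_eq_add, sub_neg_eq_add] at h
  exact amp_of_iso ((shiftEquiv (Dual.D A) (1 : ℤ)).unitIso.app T.obj₁).symm h

theorem amp_obj₂ {a b : ℤ} (T : Triangle (Dual.D A)) (hT : T ∈ distTriang _)
    (h₁ : DRing.HasTorAmplitudeIn A a b T.obj₁) (h₃ : DRing.HasTorAmplitudeIn A a b T.obj₃) :
    DRing.HasTorAmplitudeIn A a b T.obj₂ := by
  have h := amp_shift h₃ (-1)
  rw [sub_neg_eq_add, sub_neg_eq_add] at h
  exact amp_obj₃ _ (inv_rot_of_distTriang _ hT) h h₁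

theorem amp_of_retract {K L : Dual.D A} {a b : ℤ} (r : Retract K L)
    (h : DRing.HasTorAmplitudeIn A a b L) : DRing.HasTorAmplitudeIn A a b K := by
  have hL := aboveZero_of_amplitude h
  obtain ⟨N, hb, hN, ⟨e⟩⟩ := exists_proj_representative (n := b) (aboveZero_of_retract r hL)
  obtain ⟨N', hb', hN', ⟨e'⟩⟩ := exists_proj_representative (n := b) hL
  haveI := isKProjective_of_vanishesAbove hb hN
  haveI := isKProjective_of_vanishesAbove hb' hN'
  obtain ⟨i, hi⟩ := Q_map_surjective N N' (e.hom ≫ r.i ≫ e'.inv)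
  obtain ⟨p, hp⟩ := Q_map_surjective N' N (e'.hom ≫ r.r ≫ e.inv)
  obtain ⟨H⟩ := homotopic_zero N (i ≫ p - 𝟙 N) (by
    rw [Functor.map_sub, Functor.map_comp, hi, hp, Category.assoc, Category.assoc, Iso.inv_hom_id_assoc,
      r.retract_assoc, Iso.hom_inv_id, CategoryTheory.Functor.map_id, sub_self])
  refine amp_of_iso e ((tensVanish_iff hb (termwiseFlat_of_projective hN) a b).2 fun M j hj => ?_)
  have hz := (HomologicalComplex.exactAt_iff_isZero_homology _ _).1
    (tensVanish_of_amplitude (isKFlat_of_projective hb' hN') (amp_of_iso e'.symm h) M j hj)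
  rw [HomologicalComplex.exactAt_iff_isZero_homology]
  let ρ : Retract (((tensM M).obj N).homology j) (((tensM M).obj N').homology j) :=
    { i := HomologicalComplex.homologyMap ((tensM M).map i) j
      r := HomologicalComplex.homologyMap ((tensM M).map p) j
      retract := by
        rw [← HomologicalComplex.homologyMap_comp, ← Functor.map_comp,
          ((tensorLeft M).mapHomotopy (Homotopy.equivSubZero.symm H)).homologyMap_eq j,
          CategoryTheory.Functor.map_id, HomologicalComplex.homologyMap_id] }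
  rw [IsZero.iff_id_eq_zero, ← ρ.retract, hz.eq_of_tgt ρ.i 0, zero_comp]

theorem amp_summands {K L : Dual.D A} [HasBinaryBiproduct K L] {a b : ℤ}
    (h : DRing.HasTorAmplitudeIn A a b (K ⊞ L)) :
    DRing.HasTorAmplitudeIn A a b K ∧ DRing.HasTorAmplitudeIn A a b L :=
  ⟨amp_of_retract ⟨biprod.inl, biprod.fst, biprod.inl_fst⟩ h,
    amp_of_retract ⟨biprod.inr, biprod.snd, biprod.inr_snd⟩ h⟩

section LTensor

variable (M : ModuleCat.{u} A)

theorem quasiIso_tensorRight_map {L L' : DRing.Cx A} (f : L ⟶ L') (hf : QuasiIso f) (hL : DRing.IsKFlat A L)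
    (hL' : DRing.IsKFlat A L') :
    QuasiIso (((tensorRight M).mapHomologicalComplex (ComplexShape.up ℤ)).map f) :=
  (quasiIso_iff_of_arrow_mk_iso _ _ (((Functor.mapArrowFunctor _ _).mapIso
    (NatIso.mapHomologicalComplex (BraidedCategory.tensorLeftIsoTensorRight M) (ComplexShape.up ℤ))).app
      (Arrow.mk f))).1 (quasiIso_tensorLeft_map M f hf hL hL')

theorem isIso_tensorKh_map {P Q : DRing.Cx A} (α : P ⟶ Q) (hα : QuasiIso α) (hP : DRing.IsKFlat A P)
    (hQ : DRing.IsKFlat A Q) :
    IsIso ((HomotopyCategory.quotient (ModuleCat.{u} A) (ComplexShape.up ℤ) ⋙ DRing.tensorKh A M).map α) :=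
  Localization.inverts DerivedCategory.Qh (HomotopyCategory.quasiIso (ModuleCat.{u} A) (ComplexShape.up ℤ)) _
    ((HomotopyCategory.quotient_map_mem_quasiIso_iff _).2 ((HomologicalComplex.mem_quasiIso_iff _).2
      (quasiIso_tensorRight_map M α hα hP hQ)))

/-- The resolution adapted to tensoring with a module. -/
def adaptedTensor : Adapted (HomologicalComplex.quasiIso (ModuleCat.{u} A) (ComplexShape.up ℤ))
    (HomotopyCategory.quotient (ModuleCat.{u} A) (ComplexShape.up ℤ) ⋙ DRing.tensorKh A M) where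
  P := resA A
  ψ := resAπ A
  hψ X := (HomologicalComplex.mem_quasiIso_iff _).2 (quasiIso_resAπ X)
  inverts _ _ f hf := isIso_tensorKh_map M _
    (quasiIso_resA_map _ ((HomologicalComplex.mem_quasiIso_iff _).1 hf)) (isKFlat_resA _) (isKFlat_resA _)
  isIso_map X := isIso_tensorKh_map M _ (quasiIso_resAπ _) (isKFlat_resA _) (isKFlat_resA _)

theorem hasLTensor : DRing.HasLTensor A M :=
  Adapted.hasLeftDerivedFunctor_of_comp (W' := HomotopyCategory.quasiIso (ModuleCat.{u} A) (ComplexShape.up ℤ))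
    (HomotopyCategory.quotient (ModuleCat.{u} A) (ComplexShape.up ℤ)) (adaptedTensor M) DerivedCategory.Qh

variable [DRing.HasLTensor A M]

/-- The derived tensor product with a module of a K-flat complex is computed termwise. -/
def ltensorIso (K : DRing.Cx A) (hK : DRing.IsKFlat A K) :
    (DRing.LTensor A M).obj (DRing.toD K) ≅ DRing.toD ((tensM M).obj K) :=
  haveI : IsIso (((DRing.tensorKh A M).totalLeftDerivedCounit DerivedCategory.Qh
      (HomotopyCategory.quasiIso (ModuleCat.{u} A) (ComplexShape.up ℤ))).app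
        ((HomotopyCategory.quotient (ModuleCat.{u} A) (ComplexShape.up ℤ)).obj K)) :=
    (adaptedTensor M).isIso_app_of_comp (W' := HomotopyCategory.quasiIso (ModuleCat.{u} A) (ComplexShape.up ℤ))
      (HomotopyCategory.quotient (ModuleCat.{u} A) (ComplexShape.up ℤ))
      DerivedCategory.Qh (DRing.LTensor A M) _ K (isIso_tensorKh_map M _ (quasiIso_resAπ K) (isKFlat_resA K) hK)
  (DRing.LTensor A M).mapIso ((DerivedCategory.quotientCompQhIso (ModuleCat.{u} A)).app K).symm ≪≫
    asIso (((DRing.tensorKh A M).totalLeftDerivedCounit DerivedCategory.Qh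
      (HomotopyCategory.quasiIso (ModuleCat.{u} A) (ComplexShape.up ℤ))).app
        ((HomotopyCategory.quotient (ModuleCat.{u} A) (ComplexShape.up ℤ)).obj K)) ≪≫
    DerivedCategory.Qh.mapIso (((tensorRight M).mapHomotopyCategoryFactors (ComplexShape.up ℤ)).app K) ≪≫
    (DerivedCategory.quotientCompQhIso (ModuleCat.{u} A)).app _ ≪≫
    DerivedCategory.Q.mapIso ((NatIso.mapHomologicalComplex (BraidedCategory.tensorLeftIsoTensorRight M)
      (ComplexShape.up ℤ)).app K).symm

end LTensor

theorem amp_iff_homology_LTensor [∀ M : ModuleCat.{u} A, DRing.HasLTensor A M] (K : Dual.D A) (a b : ℤ) :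
    DRing.HasTorAmplitudeIn A a b K ↔
      ∀ (M : ModuleCat.{u} A) (i : ℤ), (i < a ∨ b < i) →
        Subsingleton (Dual.HD A ((DRing.LTensor A M).obj K) i) := by
  constructor
  · intro h M i hi
    obtain ⟨E, hE, hEf, ⟨e⟩⟩ := h
    have hK := isKFlat_of_vanishesAbove (b := b) (fun j hj => hE j (Or.inr hj)) hEf
    exact ModuleCat.subsingleton_of_isZero
      (((exactAt_iff_isZero_homologyFunctor ((tensM M).obj E) i).1
        (ShortComplex.exact_of_isZero_X₂ _ ((tensorLeft M).map_isZero (hE i hi)))).of_iso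
      ((DerivedCategory.homologyFunctor (ModuleCat.{u} A) i).mapIso
        ((DRing.LTensor A M).mapIso e.symm ≪≫ ltensorIso M E hK)))
  · intro h
    let G := DerivedCategory.Q.objPreimage K
    let P := (resA A).obj G
    let e : DRing.toD P ≅ K := @asIso _ _ _ _ (DerivedCategory.Q.map ((resAπ A).app G))
      (isIso_Q_map _ (quasiIso_resAπ G)) ≪≫ DerivedCategory.Q.objObjPreimageIso K
    have hP : TensVanish P a b := fun M i hi =>
      (exactAt_iff_isZero_homologyFunctor _ _).2 ((ModuleCat.isZero_iff_subsingleton.2 (h M i hi)).of_iso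
        ((DerivedCategory.homologyFunctor (ModuleCat.{u} A) i).mapIso
          ((DRing.LTensor A M).mapIso e.symm ≪≫ ltensorIso M P (isKFlat_resA G)).symm))
    have hK : AboveZero (b + 1) K := fun i hi =>
      ((exactAt_iff_isZero_homologyFunctor _ _).1 (hP.exactAt i (Or.inr (by omega)))).of_iso
        ((DerivedCategory.homologyFunctor (ModuleCat.{u} A) i).mapIso e).symm
    obtain ⟨N, hb, hN, ⟨e'⟩⟩ := exists_proj_representative (n := b) hK
    refine amp_of_iso e' ((tensVanish_iff hb (termwiseFlat_of_projective hN) a b).2 fun M i hi => ?_)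
    obtain ⟨e''⟩ := nonempty_tensM_iso (isKFlat_resA G) (isKFlat_of_projective hb hN) (e ≪≫ e'.symm) M
    exact exactAt_of_toD_iso e'' i (hP M i hi)

end Groth.Agent.DRingLib

namespace Groth.Agent.DRingLib

open Groth.Agent.DCohLib

variable {A : Type u} [CommRing A]

theorem amp_of_isZero {K : Dual.D A} (h : IsZero K) (a b : ℤ) : DRing.HasTorAmplitudeIn A a b K :=
  ⟨HomologicalComplex.zero, fun i _ => isZero_zero _,
    fun i => by
      haveI : Subsingleton ((HomologicalComplex.zero : DRing.Cx A).X i) :=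
        ModuleCat.subsingleton_of_isZero (isZero_zero _)
      exact inferInstance,
    ⟨(DerivedCategory.Q.map_isZero HomologicalComplex.isZero_zero).iso h⟩⟩

theorem amp_of_bounded_terms {a b c d : ℤ} {K : DRing.Cx A} (hcd : DRing.VanishesOutside K c d)
    (hK : ∀ i : ℤ, DRing.HasTorAmplitudeIn A (a - i) (b - i) (Dual.inD A (K.X i))) :
    DRing.HasTorAmplitudeIn A a b (DRing.toD K) :=
  of_bounded_terms (P := fun L => DRing.HasTorAmplitudeIn A a b L) (fun e h => amp_of_iso e h)
    (fun h => amp_of_isZero h a b) (fun T hT h₁ h₃ => amp_obj₂ T hT h₁ h₃) hcd fun i => by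
      have h := amp_shift (hK i) (-i)
      rwa [sub_neg_eq_add, sub_neg_eq_add, sub_add_cancel, sub_add_cancel] at h

theorem amp_of_bounded_homology {a b c d : ℤ} {K : Dual.D A}
    (hcd : ∀ i : ℤ, (i < c ∨ d < i) → Subsingleton (Dual.HD A K i))
    (hK : ∀ i : ℤ, DRing.HasTorAmplitudeIn A (a - i) (b - i) (Dual.inD A (Dual.HD A K i))) :
    DRing.HasTorAmplitudeIn A a b K :=
  of_bounded_homology (P := fun L => DRing.HasTorAmplitudeIn A a b L) (fun e h => amp_of_iso e h)
    (fun h => amp_of_isZero h a b) (fun T hT h₁ h₃ => amp_obj₂ T hT h₁ h₃) (d + 1 - c).toNat c K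
    ((DerivedCategory.isGE_iff K c).2 fun i hi =>
      ModuleCat.isZero_iff_subsingleton.2 (hcd i (Or.inl hi)))
    (fun i hi => ModuleCat.isZero_iff_subsingleton.2 (hcd i (Or.inr (by omega))))
    fun i => by
      have h := amp_shift (hK i) (-i)
      rwa [sub_neg_eq_add, sub_neg_eq_add, sub_add_cancel, sub_add_cancel] at h

theorem amp_inD_of_projectiveDimension {M : ModuleCat.{u} A} {d : ℕ} (P : ProjectiveResolution M)
    (hP : ∀ i : ℕ, d < i → IsZero (P.complex.X i)) :
    DRing.HasTorAmplitudeIn A (-(d : ℤ)) 0 (Dual.inD A M) := by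
  refine ⟨P.cochainComplex, fun i hi => ?_, termwiseFlat_of_projective fun i => ?_,
    ⟨@asIso _ _ _ _ (DerivedCategory.Q.map P.π') (isIso_Q_map _ inferInstance) ≪≫ singleQZeroIso M⟩⟩
  · rcases hi with hi | hi
    · exact (hP i.natAbs (by omega)).of_iso (P.cochainComplexXIso i i.natAbs (by omega))
    · exact CochainComplex.isZero_of_isStrictlyLE _ 0 i hi
  · refine (IsProjective.iff_projective _).2 ?_
    by_cases hi : i ≤ 0
    · exact Projective.of_iso (P.cochainComplexXIso i i.natAbs (by omega)).symm (P.projective _)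
    · exact (CochainComplex.isZero_of_isStrictlyLE P.cochainComplex 0 i (by omega)).projective

end Groth.Agent.DRingLib
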