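import Groth.Agent.DRingLib.BaseChange
import Groth.Agent.DRingLib.PseudoCoherent
import Mathlib.CategoryTheory.Abelian.Projective.Dimension

/-!
# Splitting off truncations
-/

set_option autoImplicit false
set_option linter.style.haveILetI false
set_option backward.isDefEq.respectTransparency false

universe u

open CategoryTheory Limits Pretriangulated
attribute [local instance] HasDerivedCategory.standard

noncomputable section

namespace Groth.Agent.DRingLib

open Groth.Agent.DCohLib

variable {A : Type u} [CommRing A]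

variable (A) in
/-- The standard t-structure. -/
abbrev stdT : Triangulated.TStructure (Dual.D A) := DerivedCategory.TStructure.t

theorem aboveZero_truncGE {K : Dual.D A} {b n : ℤ} (h : AboveZero b K) :
    AboveZero b (((stdT A).truncGE n).obj K) := fun i hi => by
  let T := ((stdT A).triangleLTGE n).obj K
  have hT : T ∈ distTriang _ := (stdT A).triangleLTGE_distinguished n K
  haveI : DerivedCategory.IsLE T.obj₁ (n - 1) := inferInstanceAs ((stdT A).IsLE (((stdT A).truncLT n).obj K) (n - 1))
  haveI : DerivedCategory.IsGE T.obj₃ n := inferInstanceAs ((stdT A).IsGE (((stdT A).truncGE n).obj K) n)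
  rcases lt_or_ge i n with hin | hin
  · exact DerivedCategory.isZero_of_isGE T.obj₃ n i hin
  · exact (DerivedCategory.HomologySequence.exact₃ T hT i (i + 1) rfl).isZero_X₂
      ((h i hi).eq_of_src _ _) ((DerivedCategory.isZero_of_isLE T.obj₁ (n - 1) (i + 1) (by omega)).eq_of_tgt _ _)

theorem isGE_shift_inD (a : ℤ) (M : ModuleCat.{u} A) :
    (stdT A).IsGE ((shiftFunctor (Dual.D A) (-a)).obj (Dual.inD A M)) a := by
  haveI : (stdT A).IsGE (Dual.inD A M) 0 :=
    inferInstanceAs (((DerivedCategory.singleFunctor (ModuleCat.{u} A) 0).obj M).IsGE 0)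
  exact (stdT A).isGE_shift (Dual.inD A M) 0 (-a) a (by omega)

/-- Composition with the truncation map is injective on maps to modules in high degrees. -/
theorem eq_zero_of_truncGEπ_comp {K X : Dual.D A} {n m : ℤ} (hnm : n - 2 < m) [(stdT A).IsGE X m]
    (f : ((stdT A).truncGE n).obj K ⟶ X) (hf : ((stdT A).truncGEπ n).app K ≫ f = 0) : f = 0 := by
  obtain ⟨g, hg⟩ := Triangle.yoneda_exact₃ _ ((stdT A).triangleLTGE_distinguished n K) f hf
  haveI : (stdT A).IsLE ((((stdT A).triangleLTGE n).obj K).obj₁⟦(1 : ℤ)⟧) (n - 2) :=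
    haveI : (stdT A).IsLE (((stdT A).triangleLTGE n).obj K).obj₁ (n - 1) :=
      inferInstanceAs ((stdT A).IsLE (((stdT A).truncLT n).obj K) (n - 1))
    (stdT A).isLE_shift _ (n - 1) 1 (n - 2) (by omega)
  rw [hg, (stdT A).zero g (n - 2) m hnm, comp_zero]

/-- The comparison of a shifted module with a single complex. -/
def sngIso (a : ℤ) (M : ModuleCat.{u} A) :
    DRing.toD ((CochainComplex.singleFunctor (ModuleCat.{u} A) a).obj M) ≅
      (shiftFunctor (Dual.D A) (-a)).obj (Dual.inD A M) :=
  (singleQIso a M).symm ≪≫ (shiftFunctor (Dual.D A) (-a)).mapIso (singleQZeroIso M)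

theorem exists_retraction_of_hom_zero {N : DRing.Cx A} [CochainComplex.IsKProjective N] {a : ℤ}
    (hhom : ∀ (M : ModuleCat.{u} A)
      (φ : DRing.toD N ⟶ (shiftFunctor (Dual.D A) (-a)).obj (Dual.inD A M)), φ = 0) :
    ∃ h : N.X (a + 1) ⟶ N.opcycles a, N.fromOpcycles a (a + 1) ≫ h = 𝟙 _ := by
  let M := N.opcycles a
  let φ : N ⟶ (CochainComplex.singleFunctor (ModuleCat.{u} A) a).obj M :=
    HomologicalComplex.mkHomToSingle (N.pOpcycles a) fun i hi => by
      obtain rfl : i + 1 = a := hi
      exact N.d_pOpcycles _ _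
  have hφ : DerivedCategory.Q.map φ = 0 :=
    (cancel_mono (sngIso a M).hom).1 ((hhom M _).trans zero_comp.symm)
  obtain ⟨H⟩ := homotopic_zero N φ hφ
  have hc := H.comm a
  rw [HomologicalComplex.zero_f, add_zero, dNext_eq _ (show (ComplexShape.up ℤ).Rel a (a + 1) from rfl),
    prevD_eq _ (show (ComplexShape.up ℤ).Rel (a - 1) a by simp),
    (HomologicalComplex.isZero_single_obj_X (ComplexShape.up ℤ) a M (a - 1) (by omega)).eq_of_tgt (H.hom a (a - 1)) 0,
    zero_comp, add_zero, HomologicalComplex.mkHomToSingle_f] at hc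
  refine ⟨H.hom (a + 1) a ≫ (HomologicalComplex.singleObjXSelf (ComplexShape.up ℤ) a M).hom, ?_⟩
  rw [← cancel_epi (N.pOpcycles a), N.p_fromOpcycles_assoc, Category.comp_id, ← reassoc_of% hc,
    Iso.inv_hom_id, Category.comp_id]

theorem isZero_homology_of_hom_zero {N : DRing.Cx A} [CochainComplex.IsKProjective N] {a : ℤ}
    (hhom : ∀ (M : ModuleCat.{u} A)
      (φ : DRing.toD N ⟶ (shiftFunctor (Dual.D A) (-a)).obj (Dual.inD A M)), φ = 0) : IsZero (N.homology a) := by
  obtain ⟨h, hh⟩ := exists_retraction_of_hom_zero hhom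
  rw [IsZero.iff_id_eq_zero, ← cancel_mono (N.homologyι a), zero_comp, Category.id_comp, ← Category.comp_id (N.homologyι a),
    ← hh, HomologicalComplex.homologyι_comp_fromOpcycles_assoc, zero_comp]

theorem isProjective_opcycles_of_hom_zero {N : DRing.Cx A} [CochainComplex.IsKProjective N]
    (hN : ∀ i, Module.Projective A (N.X i)) {a : ℤ}
    (hhom : ∀ (M : ModuleCat.{u} A)
      (φ : DRing.toD N ⟶ (shiftFunctor (Dual.D A) (-a)).obj (Dual.inD A M)), φ = 0) :
    Projective (N.opcycles (a + 1)) := by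
  obtain ⟨h, hh'⟩ := exists_retraction_of_hom_zero hhom
  have hh : N.d a (a + 1) ≫ h = N.pOpcycles a := by
    rw [← N.p_fromOpcycles, Category.assoc, hh', Category.comp_id]
  let e : N.X (a + 1) ⟶ N.X (a + 1) := 𝟙 _ - h ≫ N.fromOpcycles a (a + 1)
  have he : N.d a (a + 1) ≫ e = 0 := by
    simp [e, Preadditive.comp_sub, reassoc_of% hh]
  let s : N.opcycles (a + 1) ⟶ N.X (a + 1) := N.descOpcycles e a (CochainComplex.prev ℤ (a + 1) |>.trans (by omega)) he
  haveI : Epi (N.pOpcycles a) := inferInstance
  have h0 : N.fromOpcycles a (a + 1) ≫ N.pOpcycles (a + 1) = 0 := by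
    rw [← cancel_epi (N.pOpcycles a), N.p_fromOpcycles_assoc, N.d_pOpcycles, comp_zero]
  have hs : s ≫ N.pOpcycles (a + 1) = 𝟙 _ := by
    rw [← cancel_epi (N.pOpcycles (a + 1)), HomologicalComplex.p_descOpcycles_assoc, Category.comp_id]
    simp [e, Preadditive.sub_comp, h0]
  haveI : Projective (N.X (a + 1)) := by
    haveI := hN (a + 1)
    exact ModuleCat.projective_of_categoryTheory_projective (N.X (a + 1))
  exact (Retract.mk s (N.pOpcycles (a + 1)) hs).projective

/-- A truncation with projective opcycles is a complex of projectives. -/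
theorem exists_proj_truncation {N : DRing.Cx A} {m b : ℤ} (hb : DRing.VanishesAbove N b)
    (hN : ∀ i, Module.Projective A (N.X i)) (hGE : N.IsGE m) (hop : Projective (N.opcycles m)) :
    ∃ P : DRing.Cx A, DRing.VanishesOutside P m (max m b) ∧ (∀ i, Module.Projective A (P.X i)) ∧
      Nonempty (DRing.toD P ≅ DRing.toD N) := by
  haveI : QuasiIso (N.πTruncGE m) := (CochainComplex.quasiIso_πTruncGE_iff N m).2 hGE
  haveI : IsIso (DerivedCategory.Q.map (N.πTruncGE m)) := isIso_Q_map _ inferInstance
  refine ⟨N.truncGE m, fun i hi => ?_, fun i => ?_, ⟨(asIso (DerivedCategory.Q.map (N.πTruncGE m))).symm⟩⟩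
  · rcases hi with hi | hi
    · exact CochainComplex.isZero_of_isStrictlyGE _ m i hi
    · exact (hb i (by omega)).of_iso (CochainComplex.truncGEXIso N m i (by omega))
  · rcases lt_trichotomy i m with hi | rfl | hi
    · haveI := ModuleCat.subsingleton_of_isZero (CochainComplex.isZero_of_isStrictlyGE (N.truncGE m) m i hi)
      infer_instance
    · haveI : Projective ((N.truncGE i).X i) := Projective.of_iso (CochainComplex.truncGEXIsoOpcycles N i).symm hop
      exact (IsProjective.iff_projective _).2 inferInstance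
    · haveI := hN i
      exact Module.Projective.of_equiv (CochainComplex.truncGEXIso N m i hi).toLinearEquiv.symm

/-- An object without cohomology and maps to modules in a degree is represented by projectives above it. -/
theorem exists_proj_of_hom_zero {B : Dual.D A} {a b : ℤ} (hb : AboveZero (b + 1) B) [hGE : (stdT A).IsGE B (a + 1)]
    (hhom : ∀ (M : ModuleCat.{u} A) (φ : B ⟶ (shiftFunctor (Dual.D A) (-a)).obj (Dual.inD A M)), φ = 0) :
    ∃ (P : DRing.Cx A) (b' : ℤ), DRing.VanishesOutside P (a + 1) b' ∧ (∀ i, Module.Projective A (P.X i)) ∧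
      Nonempty (DRing.toD P ≅ B) := by
  obtain ⟨N, hNb, hN, ⟨e⟩⟩ := exists_proj_representative (n := b) hb
  haveI : CochainComplex.IsKProjective N := isKProjective_of_vanishesAbove hNb hN
  haveI : (stdT A).IsGE (DRing.toD N) (a + 1) := (stdT A).isGE_of_iso e.symm (a + 1)
  have hNGE : N.IsGE (a + 1) := (DerivedCategory.isGE_Q_obj_iff N (a + 1)).1 inferInstance
  obtain ⟨P, hP, hPp, ⟨e'⟩⟩ := exists_proj_truncation hNb hN hNGE
    (isProjective_opcycles_of_hom_zero hN fun M φ =>
      (cancel_epi e.inv).1 ((hhom M _).trans comp_zero.symm))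
  exact ⟨P, _, hP, hPp, ⟨e' ≪≫ e⟩⟩

/-- Maps out of complexes of projectives to objects lying lower vanish. -/
theorem eq_zero_of_proj {P : DRing.Cx A} {a b : ℤ} (hP : DRing.VanishesOutside P a b)
    (hp : ∀ i, Module.Projective A (P.X i)) {B C : Dual.D A} (e : DRing.toD P ≅ B) (hC : AboveZero a C)
    (f : B ⟶ C) : f = 0 := by
  haveI : CochainComplex.IsKProjective P := isKProjective_of_vanishesAbove (b := b) (fun i hi => hP i (Or.inr hi)) hp
  exact (cancel_epi e.hom).1 ((hom_eq_zero (fun i hi => hP i (Or.inl hi)) hC _).trans comp_zero.symm)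

/-- Maps to injective modules in a degree without cohomology vanish. -/
theorem eq_zero_of_injective {B : Dual.D A} {a b : ℤ} (hb : AboveZero (b + 1) B) [hGE : (stdT A).IsGE B (a + 1)]
    (J : ModuleCat.{u} A) [Injective J] (f : B ⟶ (shiftFunctor (Dual.D A) (-a)).obj (Dual.inD A J)) : f = 0 := by
  obtain ⟨N, hNb, hN, ⟨e⟩⟩ := exists_proj_representative (n := b) hb
  haveI : CochainComplex.IsKProjective N := isKProjective_of_vanishesAbove hNb hN
  haveI : (stdT A).IsGE (DRing.toD N) (a + 1) := (stdT A).isGE_of_iso e.symm (a + 1)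
  haveI hNGE : N.IsGE (a + 1) := (DerivedCategory.isGE_Q_obj_iff N (a + 1)).1 inferInstance
  obtain ⟨φ, hφ⟩ := Q_map_surjective N _ (e.hom ≫ f ≫ (sngIso a J).inv)
  haveI : Mono (N.fromOpcycles a (a + 1)) := by
    rw [Preadditive.mono_iff_cancel_zero]
    intro Z k hk
    let l := (N.homologyIsKernel a (a + 1) (by simp)).lift (KernelFork.ofι k hk)
    have hl : l ≫ N.homologyι a = k :=
      (N.homologyIsKernel a (a + 1) (by simp)).fac (KernelFork.ofι k hk) WalkingParallelPair.zero
    rw [← hl, ((N.exactAt_of_isGE (a + 1) a).isZero_homology.eq_of_tgt l 0), zero_comp]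
  let c : N.X a ⟶ J := φ.f a ≫ (HomologicalComplex.singleObjXSelf (ComplexShape.up ℤ) a J).hom
  have hc : N.d (a - 1) a ≫ c = 0 := by
    show N.d (a - 1) a ≫ φ.f a ≫ _ = 0
    rw [← φ.comm_assoc]
    show φ.f (a - 1) ≫ ((HomologicalComplex.single (ModuleCat.{u} A) (ComplexShape.up ℤ) a).obj J).d (a - 1) a ≫ _ = 0
    simp
  let h : N.X (a + 1) ⟶ J := Injective.factorThru (N.descOpcycles c (a - 1) (by simp) hc) (N.fromOpcycles a (a + 1))
  have hh : N.d a (a + 1) ≫ h = c := by
    rw [← N.p_fromOpcycles, Category.assoc, Injective.comp_factorThru, HomologicalComplex.p_descOpcycles]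
  let η : ∀ i j, (ComplexShape.up ℤ).Rel j i →
      (N.X i ⟶ ((CochainComplex.singleFunctor (ModuleCat.{u} A) a).obj J).X j) := fun i j hij =>
    if hj : j = a then (N.XIsoOfEq (show i = a + 1 by
      have : j + 1 = i := hij
      omega)).hom ≫ h ≫ (HomologicalComplex.singleObjXIsoOfEq (ComplexShape.up ℤ) a J j hj).inv
    else 0
  have hφη : φ = Homotopy.nullHomotopicMap' η := HomologicalComplex.to_single_hom_ext (by
    rw [Homotopy.nullHomotopicMap'_f (show (ComplexShape.up ℤ).Rel (a - 1) a by simp)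
      (show (ComplexShape.up ℤ).Rel a (a + 1) from rfl)]
    simp only [η, dif_pos, dif_neg (show ¬ a - 1 = a by omega), zero_comp, add_zero, HomologicalComplex.XIsoOfEq_rfl,
      Iso.refl_hom, Category.id_comp]
    rw [reassoc_of% hh]
    simp [c, HomologicalComplex.singleObjXSelf])
  have h0 : DerivedCategory.Q.map φ = 0 := by
    rw [DerivedCategory.Q_map_eq_of_homotopy (C := ModuleCat.{u} A) (Homotopy.ofEq hφη |>.trans (Homotopy.nullHomotopy' η)), Functor.map_zero]
  rw [h0] at hφ
  exact (cancel_epi e.hom).1 ((cancel_mono (sngIso a J).inv).1 (by rw [Category.assoc, ← hφ, comp_zero, zero_comp]))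

/-- The truncation triangle splits when the upper truncation maps trivially downwards. -/
theorem exists_split {K : Dual.D A} {n m : ℤ} (hnm : n ≤ m) (hgap : ∀ i, n ≤ i → i < m → IsZero ((DerivedCategory.homologyFunctor (ModuleCat.{u} A) i).obj K))
    (hzero : ∀ (C : Dual.D A), AboveZero (n - 1) C → ∀ f : ((stdT A).truncGE m).obj K ⟶ C, f = 0)
    [HasBinaryBiproduct (((stdT A).truncLT n).obj K) (((stdT A).truncGE m).obj K)] :
    ∃ e : K ≅ ((stdT A).truncLT n).obj K ⊞ ((stdT A).truncGE m).obj K,
      ((stdT A).truncLTι n).app K ≫ e.hom = biprod.inl ∧ e.hom ≫ biprod.snd = ((stdT A).truncGEπ m).app K := by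
  let π : ((stdT A).truncGE n).obj K ⟶ ((stdT A).truncGE m).obj K := ((stdT A).natTransTruncGEOfLE n m hnm).app K
  have hπ : ((stdT A).truncGEπ n).app K ≫ π = ((stdT A).truncGEπ m).app K := (stdT A).π_natTransTruncGEOfLE_app n m hnm K
  haveI : IsIso π := by
    have key : ∀ i, IsIso ((DerivedCategory.homologyFunctor (ModuleCat.{u} A) i).map π) := fun i => by
      let H := DerivedCategory.homologyFunctor (ModuleCat.{u} A) i
      haveI : (stdT A).IsGE (((stdT A).truncGE n).obj K) n := inferInstance
      haveI : (stdT A).IsGE (((stdT A).truncGE m).obj K) m := inferInstance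
      have hiso : ∀ k, k ≤ i → IsIso (H.map (((stdT A).truncGEπ k).app K)) := fun k hk => by
        let T := ((stdT A).triangleLTGE k).obj K
        have hT : T ∈ distTriang _ := (stdT A).triangleLTGE_distinguished k K
        haveI : DerivedCategory.IsLE T.obj₁ (k - 1) := inferInstanceAs ((stdT A).IsLE (((stdT A).truncLT k).obj K) (k - 1))
        haveI : Mono (H.map T.mor₂) := (DerivedCategory.HomologySequence.mono_homologyMap_mor₂_iff T hT i).2
          ((DerivedCategory.isZero_of_isLE T.obj₁ (k - 1) i (by omega)).eq_of_src _ _)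
        haveI : Epi (H.map T.mor₂) := (DerivedCategory.HomologySequence.epi_homologyMap_mor₂_iff T hT i (i + 1) rfl).2
          ((DerivedCategory.isZero_of_isLE T.obj₁ (k - 1) (i + 1) (by omega)).eq_of_tgt _ _)
        exact isIso_of_mono_of_epi (H.map T.mor₂)
      rcases lt_or_ge i n with hi | hi
      · exact (DerivedCategory.isZero_of_isGE _ n i hi).isIso (DerivedCategory.isZero_of_isGE _ m i (by omega)) _
      haveI := hiso n hi
      rcases lt_or_ge i m with him | him
      · have hz : IsZero (H.obj (((stdT A).truncGE n).obj K)) :=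
          (hgap i hi him).of_iso (asIso (H.map (((stdT A).truncGEπ n).app K))).symm
        exact hz.isIso (DerivedCategory.isZero_of_isGE _ m i him) _
      · haveI := hiso m him
        haveI : IsIso (H.map (((stdT A).truncGEπ n).app K) ≫ H.map π) := by
          rw [← Functor.map_comp, hπ]
          infer_instance
        exact IsIso.of_isIso_comp_left (H.map (((stdT A).truncGEπ n).app K)) _
    exact (DerivedCategory.isIso_iff (ModuleCat.{u} A) π).2 key
  let T := ((stdT A).triangleLTGE n).obj K
  have hT : T ∈ distTriang _ := (stdT A).triangleLTGE_distinguished n K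
  have hδ : T.mor₃ = 0 := by
    haveI : (stdT A).IsLE ((((stdT A).truncLT n).obj K)⟦(1 : ℤ)⟧) (n - 2) := (stdT A).isLE_shift _ (n - 1) 1 (n - 2) (by omega)
    have := hzero ((((stdT A).truncLT n).obj K)⟦(1 : ℤ)⟧) (fun i hi => DerivedCategory.isZero_of_isLE _ (n - 2) i (by omega))
      (inv π ≫ T.mor₃)
    exact (cancel_epi (inv π)).1 (this.trans comp_zero.symm)
  obtain ⟨e, he₁, he₂⟩ := exists_iso_binaryBiproduct_of_distTriang T hT hδ
  refine ⟨e ≪≫ biprod.mapIso (Iso.refl _) (asIso π), ?_, ?_⟩
  · show T.mor₁ ≫ e.hom ≫ biprod.map (𝟙 _) π = _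
    rw [reassoc_of% he₁, biprod.inl_map]
    exact Category.id_comp _
  · show (e.hom ≫ biprod.map (𝟙 _) π) ≫ biprod.snd = _
    rw [Category.assoc, biprod.map_snd, ← Category.assoc, ← he₂]
    exact hπ

end Groth.Agent.DRingLib
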