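import Groth.Agent.DRingLib.CompactObj
import Groth.Agent.DRingLib.Split
import Groth.Agent.DRingLib.TensorAmp

/-!
# Compact objects of the derived category of a ring are perfect
-/

set_option autoImplicit false
set_option linter.style.haveILetI false
set_option backward.isDefEq.respectTransparency false

universe u

open CategoryTheory Limits Pretriangulated
attribute [local instance] HasDerivedCategory.standard

noncomputable section

namespace Groth.Agent.DRingLib

open Groth.Agent.DCohLib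

variable {A : Type u} [CommRing A]

section Opcycles

variable (G : DRing.Cx A)

/-- The projection of a complex to the opcycles in a degree. -/
def toOp (m : ℤ) : G ⟶ (CochainComplex.singleFunctor (ModuleCat.{u} A) m).obj (G.opcycles m) :=
  HomologicalComplex.mkHomToSingle (G.pOpcycles m) fun i hi => by
    obtain rfl : i + 1 = m := hi
    exact G.d_pOpcycles _ _

/-- The opcycles with zero differential. -/
def opSum : DRing.Cx A where
  X n := G.opcycles n
  d _ _ := 0

/-- The inclusions into the opcycles with zero differential. -/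
def opInj (m : ℤ) : (CochainComplex.singleFunctor (ModuleCat.{u} A) m).obj (G.opcycles m) ⟶ opSum G :=
  HomologicalComplex.mkHomFromSingle (K := opSum G) (𝟙 (G.opcycles m)) fun _ _ => comp_zero

/-- The family of the opcycles placed in their degrees. -/
abbrev opFam : ULift.{u + 1} (ULift.{u} ℤ) → DRing.Cx A := fun i =>
  (CochainComplex.singleFunctor (ModuleCat.{u} A) i.down.down).obj (G.opcycles i.down.down)

/-- The opcycles with zero differential as a sum. -/
def opCofan : Cofan (opFam G) := Cofan.mk (opSum G) fun i => opInj G i.down.down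

theorem opInj_f_self (m : ℤ) : (opInj G m).f m =
    (HomologicalComplex.singleObjXSelf (ComplexShape.up ℤ) m (G.opcycles m)).hom := by
  rw [opInj, HomologicalComplex.mkHomFromSingle_f]
  exact Category.comp_id _

/-- It is their coproduct. -/
def isColimitOpCofan : IsColimit (opCofan G) :=
  mkCofanColimit _
    (fun s =>
      { f := fun n => (HomologicalComplex.singleObjXSelf (ComplexShape.up ℤ) n (G.opcycles n)).inv ≫
          (s.inj ⟨⟨n⟩⟩).f n
        comm' := fun n n' _ => by
          show _ = (0 : _ ⟶ _) ≫ _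
          rw [zero_comp]
          erw [Category.assoc, (s.inj ⟨⟨n⟩⟩).comm n n', HomologicalComplex.single_obj_d]
          rw [zero_comp, comp_zero] })
    (fun s i => by
      obtain ⟨⟨m⟩⟩ := i
      refine HomologicalComplex.from_single_hom_ext ?_
      show (opInj G m).f m ≫ _ = _
      rw [opInj_f_self]
      exact Iso.hom_inv_id_assoc _ _)
    fun s g hg => by
      ext n : 1
      have h := congrArg (fun k : _ ⟶ s.pt => k.f n) (hg ⟨⟨n⟩⟩)
      show g.f n = _ ≫ _
      rw [← h]
      show g.f n = _ ≫ (opInj G n).f n ≫ g.f n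
      rw [opInj_f_self, Iso.inv_hom_id_assoc]

/-- All projections to opcycles at once. -/
def toOpSum : G ⟶ opSum G where
  f n := G.pOpcycles n
  comm' i j _ := by
    show _ ≫ (0 : _ ⟶ _) = _
    rw [comp_zero, G.d_pOpcycles]

/-- For a compact object almost all projections to opcycles vanish. -/
theorem exists_finset_toOp (h : Cpt (DRing.toD G)) :
    ∃ T : Finset ℤ, ∀ m, m ∉ T → DerivedCategory.Q.map (toOp G m) = 0 := by
  classical
  obtain ⟨hQ⟩ := nonempty_isColimit_Q_cofan (isColimitOpCofan G)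
  obtain ⟨T, hT⟩ := h _ _ _ hQ (DerivedCategory.Q.map (toOpSum G))
  refine ⟨T.image fun i => i.down.down, fun m hm => ?_⟩
  let i : ULift.{u + 1} (ULift.{u} ℤ) := ⟨⟨m⟩⟩
  have hi : i ∉ T := fun hi => hm (Finset.mem_image.2 ⟨i, hi, rfl⟩)
  let π : (opCofan G).pt ⟶ opFam G i := sigmaProj (isColimitOpCofan G) i
  have h1 : toOpSum G ≫ π = toOp G m := by
    refine HomologicalComplex.to_single_hom_ext ?_
    have h2 := congrArg (fun k : opFam G i ⟶ opFam G i => k.f m) (inj_sigmaProj_self (isColimitOpCofan G) i)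
    change (opInj G m).f m ≫ π.f m = 𝟙 _ at h2
    rw [opInj_f_self, ← Iso.eq_inv_comp, Category.comp_id] at h2
    show G.pOpcycles m ≫ π.f m = _
    rw [h2, toOp, HomologicalComplex.mkHomToSingle_f]
  have h3 : sigmaTrunc (isColimitOpCofan G) T ≫ π = 0 := Cofan.IsColimit.hom_ext (isColimitOpCofan G) _ _ fun j => by
    rw [← Category.assoc, inj_sigmaTrunc, comp_zero]
    split_ifs with hj
    · exact inj_sigmaProj_ne _ (fun e => hi (e ▸ hj))
    · exact zero_comp
  rw [← h1, Functor.map_comp, ← hT, ← Q_map_sigmaTrunc, Category.assoc, ← Functor.map_comp, h3, Functor.map_zero,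
    comp_zero]

theorem exactAt_of_toOp_eq_zero {m : ℤ} (h : DerivedCategory.Q.map (toOp G m) = 0) : G.ExactAt m := by
  have h1 : HomologicalComplex.homologyMap (toOp G m) m = 0 := by
    rw [← cancel_epi (Groth.Agent.DComplLib.hQIso G m).hom, ← Groth.Agent.DComplLib.hQIso_natural, h,
      Functor.map_zero, zero_comp, comp_zero]
  let S := (CochainComplex.singleFunctor (ModuleCat.{u} A) m).obj (G.opcycles m)
  haveI : IsIso (S.homologyπ m) := S.isIso_homologyπ (m - 1) m (by simp)
    ((HomologicalComplex.isZero_single_obj_X (ComplexShape.up ℤ) m (G.opcycles m) (m - 1) (by omega)).eq_of_src _ _)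
  have h2 : HomologicalComplex.cyclesMap (toOp G m) m = 0 := by
    rw [← cancel_mono (S.homologyπ m), ← HomologicalComplex.homologyπ_naturality, h1, comp_zero, zero_comp]
  have h3 : G.iCycles m ≫ G.pOpcycles m = 0 := by
    have h4 := HomologicalComplex.cyclesMap_i (toOp G m) m
    rw [h2, zero_comp, toOp, HomologicalComplex.mkHomToSingle_f] at h4
    rw [← cancel_mono (HomologicalComplex.singleObjXSelf (ComplexShape.up ℤ) m (G.opcycles m)).inv,
      Category.assoc, zero_comp]
    exact h4.symm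
  rw [HomologicalComplex.exactAt_iff_isZero_homology, IsZero.iff_id_eq_zero, ← cancel_mono (G.homologyι m),
    ← cancel_epi (G.homologyπ m)]
  simp [h3]

theorem hom_eq_zero_of_toOp {N : DRing.Cx A} [CochainComplex.IsKProjective N] {a : ℤ}
    (h : DerivedCategory.Q.map (toOp N a) = 0) (M : ModuleCat.{u} A)
    (φ : DRing.toD N ⟶ (shiftFunctor (Dual.D A) (-a)).obj (Dual.inD A M)) : φ = 0 := by
  obtain ⟨ψ, hψ⟩ := Q_map_surjective N _ (φ ≫ (sngIso a M).inv)
  let S := (CochainComplex.singleFunctor (ModuleCat.{u} A) a).obj M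
  let k : N.opcycles a ⟶ M := N.descOpcycles (ψ.f a ≫ (HomologicalComplex.singleObjXSelf (ComplexShape.up ℤ) a M).hom)
    (a - 1) (by simp) (by
      rw [← ψ.comm_assoc]
      simp)
  have hk : ψ = toOp N a ≫ (CochainComplex.singleFunctor (ModuleCat.{u} A) a).map k :=
    HomologicalComplex.to_single_hom_ext (by
      rw [HomologicalComplex.comp_f, toOp, HomologicalComplex.mkHomToSingle_f]
      show _ = (N.pOpcycles a ≫ _) ≫ ((HomologicalComplex.single _ _ a).map k).f a
      rw [HomologicalComplex.single_map_f_self]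
      simp [k])
  rw [← cancel_mono (sngIso a M).inv, ← hψ, hk, Functor.map_comp, h, zero_comp, zero_comp]

end Opcycles

/-- A compact object is represented by a bounded complex of projectives. -/
theorem exists_bounded_projective {K : Dual.D A} (hK : Cpt K) :
    ∃ (P : DRing.Cx A) (a b : ℤ), DRing.VanishesOutside P a b ∧ (∀ i, Module.Projective A (P.X i)) ∧
      Nonempty (DRing.toD P ≅ K) := by
  classical
  let e := DerivedCategory.Q.objObjPreimageIso K
  obtain ⟨T, hT⟩ := exists_finset_toOp _ (hK.of_iso e.symm)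
  have hz : ∀ i, i ∉ T → IsZero ((DerivedCategory.homologyFunctor (ModuleCat.{u} A) i).obj K) := fun i hi =>
    ((exactAt_iff_isZero_homologyFunctor _ i).1 (exactAt_of_toOp_eq_zero _ (hT i hi))).of_iso
      ((DerivedCategory.homologyFunctor (ModuleCat.{u} A) i).mapIso e.symm)
  obtain ⟨b, hb⟩ : ∃ b : ℤ, ∀ i ∈ T, i ≤ b := T.bddAbove
  have hab : AboveZero (b + 1) K := fun i hi => hz i fun hi' => absurd (hb i hi') (by omega)
  obtain ⟨N, hNb, hN, ⟨eN⟩⟩ := exists_proj_representative (n := b) hab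
  haveI : CochainComplex.IsKProjective N := isKProjective_of_vanishesAbove hNb hN
  obtain ⟨T', hT'⟩ := exists_finset_toOp N (hK.of_iso eN.symm)
  obtain ⟨a₀, ha₀⟩ : ∃ a₀ : ℤ, ∀ i ∈ T ∪ T', a₀ ≤ i := (T ∪ T').bddBelow
  have hout : ∀ i, i < a₀ → i ∉ T ∪ T' := fun i hi hi' => absurd (ha₀ i hi') (by omega)
  haveI : (stdT A).IsGE K (a₀ - 1 + 1) := (DerivedCategory.isGE_iff K _).2 fun i hi =>
    hz i fun hi' => hout i (by omega) (Finset.mem_union_left _ hi')
  obtain ⟨P, b', hP, hPp, hPK⟩ := exists_proj_of_hom_zero (a := a₀ - 1) hab fun M φ =>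
    (cancel_epi eN.hom).1 ((hom_eq_zero_of_toOp
      (hT' (a₀ - 1) fun hi' => hout (a₀ - 1) (by omega) (Finset.mem_union_right _ hi')) M _).trans comp_zero.symm)
  exact ⟨P, _, b', hP, hPp, hPK⟩

section Factor

/-- A map factors through a perfect object. -/
def Fac {X Y : Dual.D A} (f : X ⟶ Y) : Prop :=
  ∃ (V : Dual.D A) (_ : Perf FProj V) (p : X ⟶ V) (q : V ⟶ Y), p ≫ q = f

/-- Maps from compact objects factor through perfect objects. -/
def FacTo (Y : Dual.D A) : Prop := ∀ X : Dual.D A, Cpt X → ∀ f : X ⟶ Y, Fac f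

theorem perf_biprod {V W : Dual.D A} (hV : Perf FProj V) (hW : Perf FProj W) : Perf FProj (V ⊞ W) :=
  Perf.obj₂ projClass_fProj _ (binaryBiproductTriangle_distinguished V W) hV hW

theorem fac_zero (X Y : Dual.D A) : Fac (0 : X ⟶ Y) :=
  ⟨HasZeroObject.zero' _ |>.1, perf_of_isZero projClass_fProj (isZero_zero _), 0, 0, comp_zero⟩

theorem Fac.add {X Y : Dual.D A} {f g : X ⟶ Y} (hf : Fac f) (hg : Fac g) : Fac (f + g) := by
  obtain ⟨V, hV, p, q, rfl⟩ := hf
  obtain ⟨V', hV', p', q', rfl⟩ := hg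
  exact ⟨_, perf_biprod hV hV', biprod.lift p p', biprod.desc q q', biprod.lift_desc⟩

theorem Fac.comp {X Y Y' : Dual.D A} {f : X ⟶ Y} (hf : Fac f) (g : Y ⟶ Y') : Fac (f ≫ g) := by
  obtain ⟨V, hV, p, q, rfl⟩ := hf
  exact ⟨V, hV, p, q ≫ g, (Category.assoc _ _ _).symm⟩

theorem FacTo.of_iso {Y Y' : Dual.D A} (h : FacTo Y) (e : Y ≅ Y') : FacTo Y' := fun X hX f => by
  have := (h X hX (f ≫ e.inv)).comp e.hom
  rwa [Category.assoc, e.inv_hom_id, Category.comp_id] at this

theorem facTo_obj₂ (T : Triangle (Dual.D A)) (hT : T ∈ distTriang _) (h₁ : FacTo T.obj₁)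
    (h₁' : FacTo (T.obj₁⟦(1 : ℤ)⟧)) (h₃ : FacTo T.obj₃) : FacTo T.obj₂ := fun X hX f => by
  obtain ⟨W₃, hW₃, g, h, hgh⟩ := h₃ X hX (f ≫ T.mor₂)
  obtain ⟨V, hV, p, q, hpq⟩ := h₁' W₃ (cpt_of_perf hW₃) (h ≫ T.mor₃)
  have hk : (g ≫ p) ≫ q = 0 := by
    rw [Category.assoc, hpq, reassoc_of% hgh, comp_distTriang_mor_zero₂₃ T hT, comp_zero]
  obtain ⟨C, l, _, hC⟩ := distinguished_cocone_triangle (g ≫ p)
  obtain ⟨q', hq'⟩ := Triangle.yoneda_exact₂ _ hC q hk
  obtain ⟨V', hV', p', q'', rfl⟩ := h₁' C (Cpt.obj₃ _ hC hX (cpt_of_perf hV)) q'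
  let P : W₃ ⟶ V' := p ≫ l ≫ p'
  have hgP : g ≫ P = 0 := by
    have := comp_distTriang_mor_zero₁₂ _ hC
    simp only [Triangle.mk_mor₁, Triangle.mk_mor₂] at this
    show g ≫ p ≫ l ≫ p' = 0
    rw [← Category.assoc g, ← Category.assoc, this, zero_comp]
  have hPq : P ≫ q'' = h ≫ T.mor₃ := by
    rw [← hpq, hq']
    simp [P]
  obtain ⟨W₂, m, _, hW⟩ := distinguished_cocone_triangle₁ P
  have hW₂ : Perf FProj W₂ := Perf.obj₁ projClass_fProj _ hW hW₃ hV'
  obtain ⟨g', hg'⟩ := Triangle.coyoneda_exact₂ _ hW g hgP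
  have hm : (m ≫ h) ≫ T.mor₃ = 0 := by
    have := comp_distTriang_mor_zero₁₂ _ hW
    simp only [Triangle.mk_mor₁, Triangle.mk_mor₂] at this
    rw [Category.assoc, ← hPq, reassoc_of% this, zero_comp]
  obtain ⟨m₂, hm₂⟩ := Triangle.coyoneda_exact₃ T hT (m ≫ h) hm
  simp only [Triangle.mk_mor₁] at hg'
  have h0 : (f - g' ≫ m₂) ≫ T.mor₂ = 0 := by
    rw [Preadditive.sub_comp, Category.assoc, ← hm₂, ← Category.assoc, ← hg', hgh, sub_self]
  obtain ⟨e, he⟩ := Triangle.coyoneda_exact₂ T hT _ h0
  have := Fac.add (⟨W₂, hW₂, g', m₂, rfl⟩ : Fac (g' ≫ m₂)) ((h₁ X hX e).comp T.mor₁)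
  rwa [← he, add_sub_cancel] at this

/-- Finite sums of maps through shifts of the ring. -/
theorem facTo_free (a : ℤ) (S : Type u) :
    FacTo (DRing.toD ((CochainComplex.singleFunctor (ModuleCat.{u} A) a).obj (ModuleCat.of A (S →₀ A)))) := by
  classical
  intro X hX f
  let F : ULift.{u + 1} S → DRing.Cx A := fun _ =>
    (CochainComplex.singleFunctor (ModuleCat.{u} A) a).obj (ModuleCat.of A A)
  let c : Cofan F := Cofan.mk _ fun s =>
    (CochainComplex.singleFunctor (ModuleCat.{u} A) a).map (ModuleCat.ofHom (Finsupp.lsingle s.down))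
  let σ := HomologicalComplex.singleObjXSelf (ComplexShape.up ℤ) a (ModuleCat.of A A)
  let val : ∀ t : Cofan F, S → t.pt.X a := fun t s => (σ.inv ≫ (t.inj ⟨s⟩).f a).hom (1 : A)
  have hd : ∀ (t : Cofan F) (j : ℤ) (s : S), (t.pt.d a j).hom (val t s) = 0 := fun t j s => by
    have h := congr((σ.inv ≫ $((t.inj ⟨s⟩).comm a j)).hom (1 : A))
    rw [show (F ⟨s⟩).d a j = 0 from HomologicalComplex.single_obj_d _ _ _ _ _, zero_comp, comp_zero] at h
    exact h
  let hc : IsColimit c := mkCofanColimit c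
    (fun t => HomologicalComplex.mkHomFromSingle (ModuleCat.ofHom (Finsupp.linearCombination A (val t)))
      fun j _ => ModuleCat.hom_ext (Finsupp.lhom_ext fun s r => by
        show (t.pt.d a j).hom (Finsupp.linearCombination A (val t) (Finsupp.single s r)) = 0
        rw [Finsupp.linearCombination_single, map_smul, hd, smul_zero]))
    (fun t s => by
      refine HomologicalComplex.from_single_hom_ext ?_
      show ((HomologicalComplex.single _ _ a).map _).f a ≫ _ = _
      rw [HomologicalComplex.single_map_f_self, HomologicalComplex.mkHomFromSingle_f, ← cancel_epi σ.inv]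
      simp only [σ, Category.assoc, Iso.inv_hom_id_assoc]
      refine ModuleCat.hom_ext (LinearMap.ext_ring ?_)
      show Finsupp.linearCombination A (val t) (Finsupp.single s.down (1 : A)) = _
      rw [Finsupp.linearCombination_single, one_smul])
    fun t g hg => by
      refine HomologicalComplex.from_single_hom_ext ?_
      rw [HomologicalComplex.mkHomFromSingle_f,
        ← cancel_epi (HomologicalComplex.singleObjXSelf (ComplexShape.up ℤ) a (ModuleCat.of A (S →₀ A))).inv,
        Iso.inv_hom_id_assoc]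
      refine ModuleCat.hom_ext (Finsupp.lhom_ext fun s r => ?_)
      show _ = Finsupp.linearCombination A (val t) (Finsupp.single s r)
      rw [← mul_one r, ← smul_eq_mul, ← Finsupp.smul_single, map_smul, map_smul, Finsupp.linearCombination_single,
        one_smul]
      refine congrArg (r • ·) ?_
      have h := congr((σ.inv ≫ ($(hg ⟨s⟩)).f a).hom (1 : A))
      rw [HomologicalComplex.comp_f] at h
      refine Eq.trans ?_ h
      show _ = (g.f a).hom ((σ.inv ≫ ((HomologicalComplex.single _ _ a).map _).f a).hom (1 : A))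
      rw [HomologicalComplex.single_map_f_self]
      simp [σ]
      rfl
  obtain ⟨hQ⟩ := nonempty_isColimit_Q_cofan hc
  obtain ⟨T, hT⟩ := hX _ _ _ hQ f
  rw [← hT, sigmaTrunc, Preadditive.comp_sum]
  refine Finset.sum_induction _ (fun g => Fac g) (fun _ _ => Fac.add) (fac_zero _ _) fun i _ => ?_
  exact ⟨_, perf_singleQ projClass_fProj a (M := ModuleCat.of A A) ⟨inferInstance, inferInstance⟩,
    f ≫ sigmaProj hQ i, (Cofan.mk (f := fun i => DRing.toD (F i)) (DRing.toD c.pt)
      fun i => DerivedCategory.Q.map (c.inj i)).inj i, Category.assoc _ _ _⟩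

theorem facTo_single (a : ℤ) (M : ModuleCat.{u} A) [Module.Projective A M] :
    FacTo (DRing.toD ((CochainComplex.singleFunctor (ModuleCat.{u} A) a).obj M)) := fun X hX f => by
  obtain ⟨s, hs⟩ := Module.projective_def.1 (inferInstance : Module.Projective A M)
  let G := CochainComplex.singleFunctor (ModuleCat.{u} A) a ⋙ DerivedCategory.Q
  let i : M ⟶ ModuleCat.of A (M →₀ A) := ModuleCat.ofHom s
  let r : ModuleCat.of A (M →₀ A) ⟶ M := ModuleCat.ofHom (Finsupp.linearCombination A id)
  have hir : i ≫ r = 𝟙 M := ModuleCat.hom_ext (LinearMap.ext fun m => hs m)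
  have := (facTo_free a M X hX (f ≫ G.map i)).comp (G.map r)
  rw [Category.assoc, ← Functor.map_comp, hir, CategoryTheory.Functor.map_id] at this
  have h1 : f ≫ 𝟙 _ = f := Category.comp_id f
  exact h1 ▸ this

theorem facTo_of_bounded {E : DRing.Cx A} {a b : ℤ} (hE : DRing.VanishesOutside E a b)
    (hp : ∀ i, Module.Projective A (E.X i)) : FacTo (DRing.toD E) := by
  have h := of_bounded_terms (P := fun Y : Dual.D A => ∀ n : ℤ, FacTo (Y⟦n⟧))
    (fun e h n => (h n).of_iso ((shiftFunctor (Dual.D A) n).mapIso e))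
    (fun hZ n X _ f => by
      rw [(Functor.map_isZero (shiftFunctor (Dual.D A) n) hZ).eq_of_tgt f 0]
      exact fac_zero _ _)
    (fun T hT h₁ h₃ n => facTo_obj₂ _ (Triangle.shift_distinguished T hT n) (h₁ n)
      ((h₁ (n + 1)).of_iso ((shiftFunctorAdd' (Dual.D A) n 1 (n + 1) rfl).app T.obj₁)) (h₃ n))
    hE (fun i n => by
      haveI := hp i
      exact (facTo_single (i - n) (E.X i)).of_iso (sngIso (i - n) (E.X i) ≪≫
        (shiftFunctorAdd' (Dual.D A) (-i) n (-(i - n)) (by omega)).app _))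
    0
  exact h.of_iso ((shiftFunctorZero (Dual.D A) ℤ).app _)

end Factor

/-- Compact objects are perfect. -/
theorem perf_of_cpt {K : Dual.D A} (hK : Cpt K) : Perf FProj K := by
  obtain ⟨E, a, b, hE, hp, ⟨e⟩⟩ := exists_bounded_projective hK
  obtain ⟨V, hV, p, q, hpq⟩ := facTo_of_bounded hE hp K hK e.inv
  obtain ⟨C, v, w, hT⟩ := distinguished_cocone_triangle p
  have hw : w = 0 := by
    have h := comp_distTriang_mor_zero₃₁ _ hT
    simp only [Triangle.mk_mor₁, Triangle.mk_mor₃] at h
    have h' := congrArg (· ≫ (shiftFunctor (Dual.D A) (1 : ℤ)).map (q ≫ e.hom)) h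
    simp only [zero_comp, Category.assoc, ← Functor.map_comp] at h'
    rw [← Category.assoc, hpq, e.inv_hom_id] at h'
    exact (Category.comp_id w).symm.trans ((congrArg (w ≫ ·) ((shiftFunctor (Dual.D A) (1 : ℤ)).map_id K).symm).trans h')
  obtain ⟨e', -, -⟩ := exists_iso_binaryBiproduct_of_distTriang _ hT hw
  exact (Perf.summands (hV.of_iso e')).1

theorem isPerfect_iff_cpt (K : Dual.D A) : DRing.IsPerfect A K ↔ Cpt K := by
  rw [isPerfect_iff]
  exact ⟨cpt_of_perf, perf_of_cpt⟩

end Groth.Agent.DRingLib
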