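import Groth.Agent.DRingLib.Split
import Groth.Agent.S0563
import Groth.Agent.S5791
import Groth.Agent.S5804

/-!
# Regular rings of finite dimension
-/

set_option autoImplicit false
set_option linter.style.haveILetI false
set_option backward.isDefEq.respectTransparency false

universe u

open CategoryTheory Limits
attribute [local instance] HasDerivedCategory.standard

noncomputable section

namespace Groth.Agent.DRingLib

open Groth.Agent.DCohLib

variable {A : Type u} [CommRing A]

theorem hasProjectiveDimensionLT_of_regular (R : Type u) [CommRing R] [IsNoetherianRing R]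
    (hreg : ∀ p : PrimeSpectrum R, IsRegularLocalRing (Localization.AtPrime p.asIdeal)) (d : ℕ)
    (hd : ringKrullDim R = d) (M : Type u) [AddCommGroup M] [Module R M] :
    HasProjectiveDimensionLT (ModuleCat.of R M) (d + 1) := by
  refine Groth.Agent.S5804.result R d (fun I => (Groth.Agent.S5791.result R (R ⧸ I) d).2 fun p => ?_) M
  haveI := hreg p
  have h := (Ideal.height_le_ringKrullDim_of_ne_top (I := p.asIdeal) p.isPrime.ne_top).trans hd.le
  obtain ⟨e, he⟩ : ∃ e : ℕ, p.asIdeal.height = e := by
    refine ⟨p.asIdeal.height.toNat, (ENat.coe_toNat ?_).symm⟩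
    intro htop
    rw [htop] at h
    exact absurd (WithBot.coe_le_coe.1 h) (by simp)
  have he' : ringKrullDim (Localization.AtPrime p.asIdeal) = e := by
    rw [IsLocalization.AtPrime.ringKrullDim_eq_height p.asIdeal, he]
    rfl
  haveI := Groth.Agent.S0563.result (Localization.AtPrime p.asIdeal) e he'
    (LocalizedModule p.asIdeal.primeCompl (R ⧸ I))
  have hed : e ≤ d := by
    rw [he] at h
    exact_mod_cast h
  exact hasProjectiveDimensionLT_of_ge _ (e + 1) (d + 1) (by omega)

/-- Opcycles in a range without cohomology are syzygies. -/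
theorem projectiveDimensionLT_opcycles {N : DRing.Cx A} (hN : ∀ i, Module.Projective A (N.X i)) {m : ℤ}
    (hGE : ∀ i, i < m → N.ExactAt i) (d : ℕ) (hd : HasProjectiveDimensionLT (N.opcycles m) (d + 1)) :
    ∀ k : ℕ, k ≤ d → HasProjectiveDimensionLT (N.opcycles (m - k)) (d + 1 - k) := by
  intro k
  induction k with
  | zero => intro _; simpa using hd
  | succ k ih =>
    intro hk
    obtain ⟨j, hj⟩ : ∃ j, j = m - (k + 1 : ℕ) := ⟨_, rfl⟩
    rw [← hj]
    have hm : j + 1 = m - k := by omega
    have ih' := ih (by omega)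
    rw [← hm] at ih'
    let S : ShortComplex (ModuleCat.{u} A) := ShortComplex.mk (N.fromOpcycles j (j + 1)) (N.pOpcycles (j + 1)) (by
      rw [← cancel_epi (N.pOpcycles j), N.p_fromOpcycles_assoc, N.d_pOpcycles, comp_zero])
    haveI : Mono S.f := by
      rw [Preadditive.mono_iff_cancel_zero]
      intro Z l hl
      have hz := (hGE j (by omega)).isZero_homology
      refine ((N.homologyIsKernel j (j + 1) (by simp)).fac (KernelFork.ofι l hl) WalkingParallelPair.zero).symm.trans ?_
      exact (congrArg (· ≫ N.homologyι j) (hz.eq_of_tgt _ 0)).trans zero_comp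
    have hS : S.ShortExact :=
      { exact := ShortComplex.exact_of_g_is_cokernel _ (CokernelCofork.IsColimit.ofπ _ _
          (fun {Z} g hg => (N.opcyclesIsCokernel j (j + 1) (by simp)).desc (CokernelCofork.ofπ g (by
            rw [← N.p_fromOpcycles, Category.assoc, hg, comp_zero])))
          (fun {Z} g hg => (N.opcyclesIsCokernel j (j + 1) (by simp)).fac _ WalkingParallelPair.one)
          (fun {Z} g hg l hl => (cancel_epi (N.pOpcycles (j + 1))).1 (hl.trans
            ((N.opcyclesIsCokernel j (j + 1) (by simp)).fac (CokernelCofork.ofπ g _) WalkingParallelPair.one).symm)))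
        mono_f := inferInstance
        epi_g := inferInstanceAs (Epi (N.pOpcycles (j + 1))) }
    haveI : Projective S.X₂ := by
      haveI := hN (j + 1)
      exact ModuleCat.projective_of_categoryTheory_projective (N.X (j + 1))
    obtain ⟨e, he⟩ : ∃ e, d + 1 - k = e + 2 := ⟨d + 1 - k - 2, by omega⟩
    rw [he] at ih'
    have := (hS.hasProjectiveDimensionLT_X₃_iff e inferInstance).1 ih'
    exact (show d + 1 - (k + 1) = e + 1 by omega) ▸ this

/-- An object with cohomology from degree `n` is represented by projectives from degree `n - d`. -/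
theorem exists_proj_of_finite_gl (d : ℕ)
    (hgl : ∀ (M : Type u) [AddCommGroup M] [Module A M], HasProjectiveDimensionLT (ModuleCat.of A M) (d + 1))
    {B : Dual.D A} {n b : ℤ} (hb : AboveZero (b + 1) B) [(stdT A).IsGE B n] :
    ∃ (P : DRing.Cx A) (b' : ℤ), DRing.VanishesOutside P (n - d) b' ∧ (∀ i, Module.Projective A (P.X i)) ∧
      Nonempty (DRing.toD P ≅ B) := by
  obtain ⟨N, hNb, hN, ⟨e⟩⟩ := exists_proj_representative (n := b) hb
  haveI : (stdT A).IsGE (DRing.toD N) n := (stdT A).isGE_of_iso e.symm n
  haveI hNGE : N.IsGE n := (DerivedCategory.isGE_Q_obj_iff N n).1 inferInstance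
  have h := projectiveDimensionLT_opcycles hN (fun i hi => N.exactAt_of_isGE n i hi) d (hgl (N.opcycles n)) d le_rfl
  rw [show d + 1 - d = 1 by omega] at h
  obtain ⟨P, hP, hPp, ⟨e'⟩⟩ := exists_proj_truncation hNb hN
    (m := n - d) ((CochainComplex.isGE_iff N (n - d)).2 fun i hi => N.exactAt_of_isGE n i (by omega))
    ((projective_iff_hasProjectiveDimensionLT_one (X := N.opcycles (n - d))).2 h)
  exact ⟨P, _, hP, hPp, ⟨e' ≪≫ e⟩⟩

end Groth.Agent.DRingLib
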