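import Groth.Agent.DRingLib.PerfTor
import Groth.Agent.DTenLib.BaseFlat
import Groth.Agent.DCohLib.LeftDer
import Groth.Agent.KFlat.BddResolution
import Mathlib.RingTheory.Flat.Stability

/-!
# Derived base change
-/

set_option autoImplicit false
set_option linter.style.haveILetI false
set_option backward.isDefEq.respectTransparency false

universe u

open CategoryTheory Limits
attribute [local instance] HasDerivedCategory.standard

noncomputable section

namespace Groth.Agent.DRingLib

open Groth.Agent.DCohLib Groth.Agent.DTenLib CochainComplex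

section Resolution

variable (A : Type u) [CommRing A]

theorem resClassProj : Groth.Agent.KFlat.ResClass (fun M : ModuleCat.{u} A => CategoryTheory.Projective M) where
  iso e h := Projective.of_iso e h
  zero h := h.projective
  biprod hM hM' := by
    haveI := hM
    haveI := hM'
    infer_instance
  sum Y hY :=
    { factors := fun {E X} f e he =>
        ⟨Limits.Sigma.desc fun b => @Projective.factorThru _ _ _ _ _ (hY b) (Limits.Sigma.ι Y b ≫ f) e he,
          Limits.Sigma.hom_ext _ _ fun b => by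
            rw [Limits.Sigma.ι_desc_assoc]
            exact @Projective.factorThru_comp _ _ _ _ _ (hY b) (Limits.Sigma.ι Y b ≫ f) e he⟩ }
  cover X := ⟨Projective.over X, Projective.π X, inferInstance, inferInstance⟩

variable {A}

theorem exists_proj_resolution (G : DRing.Cx A) (b : ℤ) (hG : DRing.VanishesAbove G b) :
    ∃ (N : DRing.Cx A) (c : N ⟶ G), QuasiIso c ∧ (∀ n, Module.Projective A (N.X n)) ∧
      DRing.VanishesAbove N b := by
  obtain ⟨Z, hZ⟩ : ∃ Z : DRing.Cx A, IsZero Z := HasZeroObject.zero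
  have hZX : ∀ i, IsZero (Z.X i) := fun i =>
    (HomologicalComplex.eval (ModuleCat.{u} A) (ComplexShape.up ℤ) i).map_isZero hZ
  obtain ⟨N, β, c, hc, -, hβ, hN⟩ := Groth.Agent.KFlat.exists_split_factor (resClassProj A) (0 : Z ⟶ G) b
    (fun i _ => hZX i) hG
  exact ⟨N, c, hc, fun n => (IsProjective.iff_projective _).2
    (Groth.Agent.KFlat.SplitInj.source (resClassProj A).iso (resClassProj A).biprod (hβ n)
      ((resClassProj A).zero (hZX n))), hN⟩

theorem exists_proj_representative {K : Dual.D A} {n : ℤ} (h : AboveZero (n + 1) K) :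
    ∃ N : DRing.Cx A, DRing.VanishesAbove N n ∧ (∀ i, Module.Projective A (N.X i)) ∧
      Nonempty (DRing.toD N ≅ K) := by
  let G := DerivedCategory.Q.objPreimage K
  let e : DRing.toD G ≅ K := DerivedCategory.Q.objObjPreimageIso K
  haveI : G.IsLE n := (CochainComplex.isLE_iff _ _).2 fun i hi =>
    (HomologicalComplex.exactAt_iff_isZero_homology _ _).2
      (((h.of_iso e) i (by omega)).of_iso ((DerivedCategory.homologyFunctorFactors _ i).app G).symm)
  haveI : IsIso (DerivedCategory.Q.map (G.ιTruncLE n)) := isIso_Q_map _ inferInstance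
  obtain ⟨N, c, hc, hN, hNb⟩ := exists_proj_resolution (G.truncLE n) n
    fun i hi => CochainComplex.isZero_of_isStrictlyLE _ n i hi
  haveI := isIso_Q_map c hc
  exact ⟨N, hNb, hN, ⟨asIso (DerivedCategory.Q.map c) ≪≫ asIso (DerivedCategory.Q.map (G.ιTruncLE n)) ≪≫ e⟩⟩

theorem isKFlat_of_projective {K : DRing.Cx A} {b : ℤ} (hb : DRing.VanishesAbove K b)
    (h : ∀ i, Module.Projective A (K.X i)) : DRing.IsKFlat A K :=
  isKFlat_of_vanishesAbove hb (termwiseFlat_of_projective h)

end Resolution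

variable {A B : Type u} [CommRing A] [CommRing B] (φ : A →+* B)

theorem isIso_baseChangeKh_map {P Q : DRing.Cx A} (α : P ⟶ Q) (hα : QuasiIso α) (hP : DRing.IsKFlat A P)
    (hQ : DRing.IsKFlat A Q) :
    IsIso ((HomotopyCategory.quotient (ModuleCat.{u} A) (ComplexShape.up ℤ) ⋙ DRing.baseChangeKh φ).map α) :=
  Localization.inverts DerivedCategory.Qh (HomotopyCategory.quasiIso (ModuleCat.{u} B) (ComplexShape.up ℤ)) _
    ((HomotopyCategory.quotient_map_mem_quasiIso_iff _).2 ((HomologicalComplex.mem_quasiIso_iff _).2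
      (quasiIso_extCx_map φ α hα hP hQ)))

/-- The resolution adapted to extension of scalars on homotopy categories. -/
def adaptedBC : Adapted (HomologicalComplex.quasiIso (ModuleCat.{u} A) (ComplexShape.up ℤ))
    (HomotopyCategory.quotient (ModuleCat.{u} A) (ComplexShape.up ℤ) ⋙ DRing.baseChangeKh φ) where
  P := resA A
  ψ := resAπ A
  hψ X := (HomologicalComplex.mem_quasiIso_iff _).2 (quasiIso_resAπ X)
  inverts _ _ f hf := isIso_baseChangeKh_map φ _
    (quasiIso_resA_map _ ((HomologicalComplex.mem_quasiIso_iff _).1 hf)) (isKFlat_resA _) (isKFlat_resA _)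
  isIso_map X := isIso_baseChangeKh_map φ _ (quasiIso_resAπ _) (isKFlat_resA _) (isKFlat_resA _)

instance isLocalization_quotient_Qh :
    (HomotopyCategory.quotient (ModuleCat.{u} A) (ComplexShape.up ℤ) ⋙ DerivedCategory.Qh).IsLocalization
      (HomologicalComplex.quasiIso (ModuleCat.{u} A) (ComplexShape.up ℤ)) :=
  Functor.IsLocalization.of_iso _ (DerivedCategory.quotientCompQhIso (ModuleCat.{u} A)).symm

theorem hasLBaseChange : DRing.HasLBaseChange φ :=
  Adapted.hasLeftDerivedFunctor_of_comp (W' := HomotopyCategory.quasiIso (ModuleCat.{u} A) (ComplexShape.up ℤ))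
    (HomotopyCategory.quotient (ModuleCat.{u} A) (ComplexShape.up ℤ)) (adaptedBC φ) DerivedCategory.Qh

variable [DRing.HasLBaseChange φ]

/-- The counit of derived base change. -/
abbrev lbcCounit : DerivedCategory.Qh ⋙ DRing.LBaseChange φ ⟶ DRing.baseChangeKh φ :=
  (DRing.baseChangeKh φ).totalLeftDerivedCounit DerivedCategory.Qh
    (HomotopyCategory.quasiIso (ModuleCat.{u} A) (ComplexShape.up ℤ))

theorem isIso_lbcCounit_app (K : DRing.Cx A) (hK : DRing.IsKFlat A K) :
    IsIso ((lbcCounit φ).app ((HomotopyCategory.quotient (ModuleCat.{u} A) (ComplexShape.up ℤ)).obj K)) :=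
  (adaptedBC φ).isIso_app_of_comp (W' := HomotopyCategory.quasiIso (ModuleCat.{u} A) (ComplexShape.up ℤ))
    (HomotopyCategory.quotient (ModuleCat.{u} A) (ComplexShape.up ℤ))
    DerivedCategory.Qh (DRing.LBaseChange φ) (lbcCounit φ) K
    (isIso_baseChangeKh_map φ _ (quasiIso_resAπ K) (isKFlat_resA K) hK)

/-- Derived base change of a K-flat complex is computed termwise. -/
def lbcIso (K : DRing.Cx A) (hK : DRing.IsKFlat A K) :
    (DRing.LBaseChange φ).obj (DRing.toD K) ≅ DRing.toD ((DTen.extCx φ).obj K) :=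
  (DRing.LBaseChange φ).mapIso ((DerivedCategory.quotientCompQhIso (ModuleCat.{u} A)).app K).symm ≪≫
    @asIso _ _ _ _ _ (isIso_lbcCounit_app φ K hK) ≪≫
    DerivedCategory.Qh.mapIso (((ModuleCat.extendScalars.{u, u, u} φ).mapHomotopyCategoryFactors
      (ComplexShape.up ℤ)).app K) ≪≫
    (DerivedCategory.quotientCompQhIso (ModuleCat.{u} B)).app _

omit [DRing.HasLBaseChange φ] in
theorem fFree_extend {M : ModuleCat.{u} A} (h : FFree M) :
    FFree ((ModuleCat.extendScalars.{u, u, u} φ).obj M) := by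
  letI := φ.toAlgebra
  haveI := h.1
  haveI := h.2
  exact ⟨inferInstanceAs (Module.Finite B (TensorProduct A B M)),
    inferInstanceAs (Module.Free B (TensorProduct A B M))⟩

omit [DRing.HasLBaseChange φ] in
theorem fProj_extend {M : ModuleCat.{u} A} (h : FProj M) :
    FProj ((ModuleCat.extendScalars.{u, u, u} φ).obj M) := by
  letI := φ.toAlgebra
  haveI := h.1
  haveI := h.2
  exact ⟨inferInstanceAs (Module.Finite B (TensorProduct A B M)),
    inferInstanceAs (Module.Projective B (TensorProduct A B M))⟩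

omit [DRing.HasLBaseChange φ] in
theorem flat_extend {M : ModuleCat.{u} A} (h : Module.Flat A M) :
    Module.Flat B ((ModuleCat.extendScalars.{u, u, u} φ).obj M) := by
  letI := φ.toAlgebra
  haveI := h
  exact inferInstanceAs (Module.Flat B (TensorProduct A B M))

omit [DRing.HasLBaseChange φ] in
theorem isZero_extCx_X {K : DRing.Cx A} {i : ℤ} (h : IsZero (K.X i)) :
    IsZero (((DTen.extCx φ).obj K).X i) :=
  (ModuleCat.extendScalars.{u, u, u} φ).map_isZero h

omit [DRing.HasLBaseChange φ] in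
theorem bdd_extCx {Φ : ModuleCat.{u} A → Prop} {Ψ : ModuleCat.{u} B → Prop}
    (h : ∀ M, Φ M → Ψ ((ModuleCat.extendScalars.{u, u, u} φ).obj M)) {E : DRing.Cx A} (hE : Bdd Φ E) :
    Bdd Ψ ((DTen.extCx φ).obj E) := by
  obtain ⟨⟨a, b, hab⟩, hEΦ⟩ := hE
  exact ⟨⟨a, b, fun i hi => isZero_extCx_X φ (hab i hi)⟩, fun i => h _ (hEΦ i)⟩

theorem perf_lbc {K : Dual.D A} (hK : Perf FProj K) : Perf FProj ((DRing.LBaseChange φ).obj K) := by
  obtain ⟨E, ⟨⟨a, b, hab⟩, hE⟩, ⟨e⟩⟩ := hK
  exact ⟨_, bdd_extCx φ (fun M => fProj_extend φ) ⟨⟨a, b, hab⟩, hE⟩,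
    ⟨(lbcIso φ E (isKFlat_of_projective (b := b) (fun i hi => hab i (Or.inr hi)) fun i => (hE i).2)).symm ≪≫
      (DRing.LBaseChange φ).mapIso e⟩⟩

theorem hasTorAmplitudeIn_lbc {K : Dual.D A} {a b : ℤ} (hK : DRing.HasTorAmplitudeIn A a b K) :
    DRing.HasTorAmplitudeIn B a b ((DRing.LBaseChange φ).obj K) := by
  obtain ⟨E, hE, hflat, ⟨e⟩⟩ := hK
  exact ⟨_, fun i hi => isZero_extCx_X φ (hE i hi), fun i => flat_extend φ (hflat i),
    ⟨(lbcIso φ E (isKFlat_of_vanishesAbove (b := b) (fun i hi => hE i (Or.inr hi)) hflat)).symm ≪≫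
      (DRing.LBaseChange φ).mapIso e⟩⟩

theorem aboveZero_lbc {K : Dual.D A} {n : ℤ} (h : AboveZero n K) :
    AboveZero n ((DRing.LBaseChange φ).obj K) := by
  obtain ⟨N, hNb, hN, ⟨e⟩⟩ := exists_proj_representative (n := n - 1) (by simpa using h)
  exact (aboveZero_toD fun i hi => isZero_extCx_X φ (hNb i (by omega))).of_iso
    ((DRing.LBaseChange φ).mapIso e.symm ≪≫ lbcIso φ N (isKFlat_of_projective hNb hN))

theorem pc_lbc {m : ℤ} {K : Dual.D A} (hK : PC FFree m K) :
    PC FFree m ((DRing.LBaseChange φ).obj K) := by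
  obtain ⟨n, hn⟩ := hK.exists_aboveZero
  obtain ⟨N, hNb, hN, ⟨e⟩⟩ := exists_proj_representative (n := n - 1) (by simpa using hn)
  obtain ⟨E, α, hE, hα⟩ := hK.of_iso e.symm
  haveI := hE.isKProjective projClass_fFree
  obtain ⟨a, ha⟩ := Q_map_surjective E N α
  obtain ⟨⟨a₀, b, hab⟩, hEΦ⟩ := id hE
  have hEp : ∀ i, Module.Projective A (E.X i) := fun i => (fFree_imp_fProj (hEΦ i)).2
  let C := mappingCone a
  have hCb : DRing.VanishesAbove C (max b (n - 1)) := fun i hi =>
    ((biprod_isZero_iff _ _).2 ⟨hab (i + 1) (Or.inr (by omega)), hNb i (by omega)⟩).of_iso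
      (HomologicalComplex.homotopyCofiber.XIsoBiprod a i (i + 1) rfl)
  have hC : ∀ i, Module.Projective A (C.X i) := fun i =>
    projClass_aProj.iso (HomologicalComplex.homotopyCofiber.XIsoBiprod a i (i + 1) rfl).symm
      (projClass_aProj.biprod (hEp (i + 1)) (hN i))
  have hA : AboveZero m (DRing.toD C) := by
    rw [← ha] at hα
    exact hα.cone _ (DerivedCategory.mappingCone_triangle_distinguished a)
  have hA' : AboveZero m (DRing.toD (mappingCone ((DTen.extCx φ).map a))) :=
    (aboveZero_lbc φ hA).of_iso (DerivedCategory.Q.mapIso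
      (CochainComplex.mappingCone.mapHomologicalComplexIso a (ModuleCat.extendScalars.{u, u, u} φ)).symm ≪≫
      (lbcIso φ C (isKFlat_of_projective hCb hC)).symm)
  have hP : PC FFree m (DRing.toD ((DTen.extCx φ).obj N)) :=
    ⟨_, DerivedCategory.Q.map ((DTen.extCx φ).map a), bdd_extCx φ (fun M => fFree_extend φ) hE,
      ⟨_, _, _, DerivedCategory.mappingCone_triangle_distinguished _, hA'⟩⟩
  exact hP.of_iso ((lbcIso φ N (isKFlat_of_projective hNb hN)).symm ≪≫ (DRing.LBaseChange φ).mapIso e)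

end Groth.Agent.DRingLib
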