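import Groth.Agent.DRingLib.FlatBC
import Mathlib.RingTheory.Flat.FaithfullyFlat.Basic

/-!
# Descent along faithfully flat families
-/

set_option autoImplicit false
set_option linter.style.haveILetI false
set_option backward.isDefEq.respectTransparency false

universe u

open CategoryTheory Limits MonoidalCategory TensorProduct
attribute [local instance] HasDerivedCategory.standard

noncomputable section

namespace Groth.Agent.DRingLib

open Groth.Agent.DCohLib Groth.Agent.DTenLib

variable {A : Type u} [CommRing A]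

/-- A flat family of ring maps detecting zero modules. -/
structure FFFamily {ι : Type} (B : ι → Type u) [∀ k, CommRing (B k)] (φ : ∀ k, A →+* B k) : Prop where
  flat : ∀ k, Module.Flat A (baseMod (φ k))
  zero : ∀ M : ModuleCat.{u} A, (∀ k, IsZero ((tensorLeft (baseMod (φ k))).obj M)) → IsZero M

theorem ffFamily_single {B : Type u} [CommRing B] [Algebra A B] [Module.FaithfullyFlat A B] :
    FFFamily (fun _ : Unit => B) (fun _ => algebraMap A B) := by
  let e : baseMod (algebraMap A B) ≃ₗ[A] B :=
    { (AddEquiv.refl B) with map_smul' := fun a (b : B) => (Algebra.smul_def a b).symm }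
  refine ⟨fun _ => Module.Flat.of_linearEquiv e, fun M h => ?_⟩
  haveI : Subsingleton (baseMod (algebraMap A B) ⊗[A] M) := ModuleCat.subsingleton_of_isZero (h ())
  haveI : Subsingleton (B ⊗[A] M) := (TensorProduct.congr e (LinearEquiv.refl A M)).symm.injective.subsingleton
  haveI := (Module.FaithfullyFlat.subsingleton_tensorProduct_iff_right A B).1 ‹_›
  exact ModuleCat.isZero_of_subsingleton M

theorem ffFamily_away {r : ℕ} (f : Fin r → A) (hf : Ideal.span (Set.range f) = ⊤) :
    FFFamily (fun k => Localization.Away (f k)) (fun k => algebraMap A (Localization.Away (f k))) := by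
  let e : ∀ k, baseMod (algebraMap A (Localization.Away (f k))) ≃ₗ[A] Localization.Away (f k) := fun k =>
    { (AddEquiv.refl (Localization.Away (f k))) with
      map_smul' := fun a (b : Localization.Away (f k)) => (Algebra.smul_def a b).symm }
  refine ⟨fun k => ?_, fun M h => ?_⟩
  · haveI : Module.Flat A (Localization.Away (f k)) := IsLocalization.flat _ (Submonoid.powers (f k))
    exact Module.Flat.of_linearEquiv (e k)
  · haveI : ∀ k, Subsingleton (Localization.Away (f k) ⊗[A] M) := fun k => by
      haveI : Subsingleton (baseMod (algebraMap A (Localization.Away (f k))) ⊗[A] M) :=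
        ModuleCat.subsingleton_of_isZero (h k)
      exact (TensorProduct.congr (e k) (LinearEquiv.refl A M)).symm.injective.subsingleton
    haveI : Subsingleton M := subsingleton_of_forall_eq 0 fun x => by
      let I : Ideal A := LinearMap.ker (LinearMap.toSpanSingleton A M x)
      have hI : I.radical = ⊤ := top_le_iff.1 (hf ▸ Ideal.span_le.2 (by
        rintro _ ⟨k, rfl⟩
        obtain ⟨⟨_, n, rfl⟩, hn⟩ := (IsLocalizedModule.eq_zero_iff (Submonoid.powers (f k))
          (TensorProduct.mk A (Localization.Away (f k)) M 1) (m := x)).1 (Subsingleton.elim _ _)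
        exact ⟨n, hn⟩))
      have h1 : (1 : A) ∈ I := (Ideal.radical_eq_top.1 hI) ▸ Submodule.mem_top
      simpa [I] using h1
    exact ModuleCat.isZero_of_subsingleton M

variable {ι : Type} {B : ι → Type u} [∀ k, CommRing (B k)] {φ : ∀ k, A →+* B k}

theorem FFFamily.exactAt (hB : FFFamily B φ) (K : DRing.Cx A) (i : ℤ)
    (h : ∀ k, ((tensM (baseMod (φ k))).obj K).ExactAt i) : K.ExactAt i := by
  rw [HomologicalComplex.exactAt_iff_isZero_homology]
  refine hB.zero _ fun k => ?_
  haveI := preservesHomology_tensorLeft_of_flat (baseMod (φ k)) (hB.flat k)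
  exact ((HomologicalComplex.exactAt_iff_isZero_homology _ _).1 (h k)).of_iso
    ((K.sc i).mapHomologyIso (tensorLeft (baseMod (φ k)))).symm

theorem FFFamily.exactAt_of_extCx (hB : FFFamily B φ) (K : DRing.Cx A) (i : ℤ)
    (h : ∀ k, ((DTen.extCx (φ k)).obj K).ExactAt i) : K.ExactAt i :=
  hB.exactAt K i fun k => by
    refine HomologicalComplex.ExactAt.of_iso ?_
      ((NatIso.mapHomologicalComplex (extResIso (φ k)) (ComplexShape.up ℤ)).app K)
    have h' := h k
    rw [HomologicalComplex.exactAt_iff] at h' ⊢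
    exact h'.map (ModuleCat.restrictScalars.{u} (φ k))

theorem FFFamily.finite [Finite ι] (hB : FFFamily B φ) (M : ModuleCat.{u} A)
    (h : ∀ k, Module.Finite (B k) ((ModuleCat.extendScalars.{u, u, u} (φ k)).obj M)) : Module.Finite A M := by
  classical
  haveI := Fintype.ofFinite ι
  have hs : ∀ k, ∃ N : Submodule A M, N.FG ∧
      Epi ((ModuleCat.extendScalars.{u, u, u} (φ k)).map (ModuleCat.ofHom N.subtype)) := fun k => by
    letI := (φ k).toAlgebra
    haveI : Module.Finite (B k) (B k ⊗[A] M) := h k
    have hspan : Submodule.span (B k) (Set.range fun m : M => (1 : B k) ⊗ₜ[A] m) = ⊤ := by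
      refine eq_top_iff.2 fun x hx => ?_
      clear hx
      induction x using TensorProduct.induction_on with
      | zero => exact zero_mem _
      | tmul b m =>
        have : b ⊗ₜ[A] m = b • ((1 : B k) ⊗ₜ[A] m) := by rw [TensorProduct.smul_tmul', smul_eq_mul, mul_one]
        rw [this]
        exact Submodule.smul_mem _ _ (Submodule.subset_span ⟨m, rfl⟩)
      | add x y hx hy => exact add_mem hx hy
    have hfg : (Submodule.span (B k) (Set.range fun m : M => (1 : B k) ⊗ₜ[A] m)).FG :=
      hspan ▸ Module.Finite.fg_top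
    obtain ⟨t, ht, htop⟩ := (Submodule.fg_span_iff_fg_span_finset_subset _).1 hfg
    choose g hg using fun y : t => ht y.2
    let N : Submodule A M := Submodule.span A (Set.range g)
    refine ⟨N, Submodule.fg_span (Set.finite_range g), (ModuleCat.epi_iff_surjective _).2 fun x => ?_⟩
    let L := ((ModuleCat.extendScalars.{u, u, u} (φ k)).map (ModuleCat.ofHom N.subtype)).hom
    suffices hL : x ∈ LinearMap.range L from hL
    have hx : x ∈ Submodule.span (B k) (t : Set (B k ⊗[A] M)) := by
      rw [← htop, hspan]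
      exact Submodule.mem_top
    refine Submodule.span_induction (p := fun z _ => z ∈ LinearMap.range L) (fun z hz => ?_) (zero_mem _)
      (fun _ _ _ _ ha hb => add_mem ha hb) (fun c _ _ hz => Submodule.smul_mem _ c hz) hx
    exact ⟨(1 : B k) ⊗ₜ[A] (⟨g ⟨z, hz⟩, Submodule.subset_span ⟨_, rfl⟩⟩ : N), hg ⟨z, hz⟩⟩
  choose N hN hepi using hs
  let S : Submodule A M := ⨆ k, N k
  have hS : S.FG := Submodule.fg_iSup N hN
  let q : M ⟶ ModuleCat.of A (M ⧸ S) := ModuleCat.ofHom S.mkQ
  haveI : Epi q := (ModuleCat.epi_iff_surjective _).2 S.mkQ_surjective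
  have hz : IsZero (ModuleCat.of A (M ⧸ S)) := hB.zero _ fun k => by
    let F := tensorLeft (baseMod (φ k))
    haveI := hepi k
    haveI : Epi (F.map (ModuleCat.ofHom (N k).subtype)) :=
      ((MorphismProperty.epimorphisms _).arrow_mk_iso_iff (((Functor.mapArrowFunctor _ _).mapIso
        (extResIso (φ k))).app (Arrow.mk (ModuleCat.ofHom (N k).subtype)))).1
        (inferInstanceAs (Epi ((ModuleCat.restrictScalars.{u} (φ k)).map
          ((ModuleCat.extendScalars.{u, u, u} (φ k)).map (ModuleCat.ofHom (N k).subtype)))))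
    haveI : Epi (F.map q) :=
      (ModuleCat.epi_iff_surjective _).2 (LinearMap.lTensor_surjective _ S.mkQ_surjective)
    refine IsZero.of_epi_eq_zero (F.map q) ?_
    rw [← cancel_epi (F.map (ModuleCat.ofHom (N k).subtype)), ← F.map_comp,
      show ModuleCat.ofHom (N k).subtype ≫ q = 0 from ModuleCat.hom_ext (LinearMap.ext fun x =>
        (Submodule.Quotient.mk_eq_zero S).2 (Submodule.mem_iSup_of_mem k x.2)), Functor.map_zero, comp_zero]
  haveI := ModuleCat.subsingleton_of_isZero hz
  exact ⟨(Submodule.Quotient.subsingleton_iff.1 ‹_›) ▸ hS⟩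

theorem FFFamily.amp [∀ k, DRing.HasLBaseChange (φ k)] (hB : FFFamily B φ) (K : Dual.D A) {a b : ℤ}
    (h : ∀ k, DRing.HasTorAmplitudeIn (B k) a b ((DRing.LBaseChange (φ k)).obj K)) :
    DRing.HasTorAmplitudeIn A a b K := by
  obtain ⟨P, hP, -, ⟨e⟩⟩ := exists_kflat_representative K
  refine amp_of_iso e (amp_of_tensVanish hP fun M i hi => hB.exactAt _ i fun k => ?_)
  refine HomologicalComplex.ExactAt.of_iso ?_
    ((NatIso.mapHomologicalComplex (tensorLeftTensor (baseMod (φ k)) M) (ComplexShape.up ℤ)).app P)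
  refine (exactAt_tensM_restrict (φ k) (fun M' => tensVanish_extCx (φ k) hP e (h k) M' i hi)
    ((ModuleCat.extendScalars.{u, u, u} (φ k)).obj M)).of_iso
    ((NatIso.mapHomologicalComplex ((tensoringLeft (ModuleCat.{u} A)).mapIso ((extResIso (φ k)).app M))
      (ComplexShape.up ℤ)).app P)

theorem FFFamily.aboveZero (hB : FFFamily B φ) [∀ k, DRing.HasLBaseChange (φ k)] (K : Dual.D A) {n : ℤ}
    (h : ∀ k, AboveZero n ((DRing.LBaseChange (φ k)).obj K)) : AboveZero n K := by
  obtain ⟨P, hP, -, ⟨e⟩⟩ := exists_kflat_representative K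
  intro i hi
  refine ((exactAt_iff_isZero_homologyFunctor P i).1 (hB.exactAt_of_extCx P i fun k => ?_)).of_iso
    ((DerivedCategory.homologyFunctor (ModuleCat.{u} A) i).mapIso e.symm)
  exact (exactAt_iff_isZero_homologyFunctor _ i).2
    (((h k).of_iso ((lbcIso (φ k) P hP).symm ≪≫ (DRing.LBaseChange (φ k)).mapIso e)) i hi)

theorem FFFamily.pc [Finite ι] (hB : FFFamily B φ) [∀ k, DRing.HasLBaseChange (φ k)] (K : Dual.D A) {m : ℤ}
    (h : ∀ k, PC FFree m ((DRing.LBaseChange (φ k)).obj K)) : PC FFree m K := by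
  classical
  haveI := Fintype.ofFinite ι
  choose n hn using fun k => (h k).exists_aboveZero
  obtain ⟨c, hc⟩ : ∃ c : ℤ, ∀ k, n k ≤ c := ⟨∑ k, |n k|, fun k => (le_abs_self _).trans
    (Finset.single_le_sum (f := fun k => |n k|) (fun j _ => abs_nonneg _) (Finset.mem_univ k))⟩
  have hK : AboveZero c K := hB.aboveZero K fun k => (hn k).mono (hc k)
  obtain ⟨N, hb, hN, ⟨e⟩⟩ := exists_proj_representative (n := c - 1) (K := K) (by simpa using hK)
  exact (pc_of_pc_extCx B φ (fun M hM => hB.finite M hM) m (c - m).toNat N hN (fun i hi => hb i (by omega))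
    fun k => (h k).of_iso ((DRing.LBaseChange (φ k)).mapIso e.symm ≪≫
      lbcIso (φ k) N (isKFlat_of_projective hb hN))).of_iso e

theorem FFFamily.perf [Finite ι] (hB : FFFamily B φ) [∀ k, DRing.HasLBaseChange (φ k)] (K : Dual.D A)
    (h : ∀ k, Perf FProj ((DRing.LBaseChange (φ k)).obj K)) : Perf FProj K := by
  classical
  haveI := Fintype.ofFinite ι
  choose hpc a b hamp using fun k => (perf_iff _).1 (h k)
  obtain ⟨c, hc⟩ : ∃ c : ℤ, ∀ k, -c ≤ a k ∧ b k ≤ c := ⟨∑ k, (|a k| + |b k|), fun k => by
    have := Finset.single_le_sum (f := fun k => |a k| + |b k|)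
      (fun j _ => add_nonneg (abs_nonneg _) (abs_nonneg _)) (Finset.mem_univ k)
    have := abs_nonneg (a k)
    have := abs_nonneg (b k)
    have := le_abs_self (b k)
    have := neg_abs_le (a k)
    omega⟩
  exact (perf_iff K).2 ⟨(isPseudoCoherent'_iff K).2 fun m =>
      hB.pc K fun k => (isPseudoCoherent'_iff _).1 (hpc k) m,
    -c, c, hB.amp K fun k => hasTorAmplitudeIn_mono (hc k).1 (hc k).2 (hamp k)⟩

end Groth.Agent.DRingLib
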