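import Groth.Agent.DRingLib.Descent

/-!
# Descent of pseudo-coherence along thickenings
-/

set_option autoImplicit false
set_option linter.style.haveILetI false
set_option backward.isDefEq.respectTransparency false

universe u

open CategoryTheory Limits Pretriangulated
attribute [local instance] HasDerivedCategory.standard

noncomputable section

namespace Groth.Agent.DRingLib

open Groth.Agent.DCohLib Groth.Agent.DTenLib CochainComplex

variable {A : Type u} [CommRing A]

theorem exists_lift_generators {M Q : Type u} [AddCommGroup M] [Module A M] [AddCommGroup Q] [Module A Q]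
    [Module.Finite A Q] (π : M →ₗ[A] Q) (hπ : Function.Surjective π) :
    ∃ (r : ℕ) (g : (Fin r → A) →ₗ[A] M), Function.Surjective (π ∘ₗ g) := by
  obtain ⟨r, f, hf⟩ := Module.Finite.exists_fin' A Q
  obtain ⟨g, hg⟩ := Module.projective_lifting_property π f hπ
  exact ⟨r, g, by rwa [hg]⟩

theorem exists_fg_sup_of_finite_extend {B : Type u} [CommRing B] (φ : A →+* B) (hφ : Function.Surjective φ)
    (M : ModuleCat.{u} A) (h : Module.Finite B ((ModuleCat.extendScalars.{u, u, u} φ).obj M)) :
    ∃ N : Submodule A M, N.FG ∧ ⊤ ≤ N ⊔ RingHom.ker φ • ⊤ := by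
  letI := φ.toAlgebra
  haveI : Module.Finite B (TensorProduct A B M) := h
  let eB : (A ⧸ RingHom.ker φ) ≃ₐ[A] B := Ideal.quotientKerAlgEquivOfSurjective (f := Algebra.ofId A B) hφ
  haveI : Module.Finite A B := Module.Finite.equiv eB.toLinearEquiv
  haveI : Module.Finite A (TensorProduct A B M) := Module.Finite.trans B _
  let e : TensorProduct A B M ≃ₗ[A] (M ⧸ (RingHom.ker φ • ⊤ : Submodule A M)) :=
    (TensorProduct.congr eB.toLinearEquiv.symm (LinearEquiv.refl A M)).trans
      (TensorProduct.quotTensorEquivQuotSMul M (RingHom.ker φ))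
  haveI := Module.Finite.equiv e
  obtain ⟨r, g, hg⟩ := exists_lift_generators (RingHom.ker φ • ⊤ : Submodule A M).mkQ (Submodule.mkQ_surjective _)
  refine ⟨LinearMap.range g, Module.Finite.iff_fg.1 (Module.Finite.range g), fun x _ => ?_⟩
  obtain ⟨y, hy⟩ := hg (Submodule.mkQ _ x)
  refine Submodule.mem_sup.2 ⟨g y, ⟨y, rfl⟩, x - g y, ?_, by abel⟩
  rw [← Submodule.Quotient.mk_eq_zero, Submodule.Quotient.mk_sub]
  exact sub_eq_zero.2 hy.symm

theorem finite_of_nilpotent {B : Type u} [CommRing B] (φ : A →+* B) (hφ : Function.Surjective φ)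
    (hnil : IsNilpotent (RingHom.ker φ)) (M : ModuleCat.{u} A)
    (h : Module.Finite B ((ModuleCat.extendScalars.{u, u, u} φ).obj M)) : Module.Finite A M := by
  obtain ⟨N, hN, hsup⟩ := exists_fg_sup_of_finite_extend φ hφ M h
  obtain ⟨n, hn⟩ := hnil
  have key : ∀ k : ℕ, ⊤ ≤ N ⊔ (RingHom.ker φ ^ k) • (⊤ : Submodule A M) := fun k => by
    induction k with
    | zero => simp
    | succ k ih =>
      refine hsup.trans (sup_le le_sup_left ?_)
      refine (Submodule.smul_mono le_rfl ih).trans ?_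
      rw [Submodule.smul_sup, pow_succ', mul_smul]
      exact sup_le_sup_right Submodule.smul_le_right _
  have h' := key n
  rw [hn, Submodule.zero_eq_bot, Submodule.bot_smul, sup_bot_eq] at h'
  exact ⟨(top_le_iff.1 h') ▸ hN⟩

theorem finite_of_mul_eq_bot {B C : Type u} [CommRing B] [CommRing C] (φ : A →+* B) (ψ : A →+* C)
    (hφ : Function.Surjective φ) (hψ : Function.Surjective ψ) (hmul : RingHom.ker φ * RingHom.ker ψ = ⊥)
    (M : ModuleCat.{u} A) (hB : Module.Finite B ((ModuleCat.extendScalars.{u, u, u} φ).obj M))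
    (hC : Module.Finite C ((ModuleCat.extendScalars.{u, u, u} ψ).obj M)) : Module.Finite A M := by
  obtain ⟨N₁, hN₁, h₁⟩ := exists_fg_sup_of_finite_extend φ hφ M hB
  obtain ⟨N₂, hN₂, h₂⟩ := exists_fg_sup_of_finite_extend ψ hψ M hC
  have h : (⊤ : Submodule A M) ≤ N₁ ⊔ N₂ := by
    refine h₁.trans (sup_le le_sup_left ?_)
    refine (Submodule.smul_mono le_rfl h₂).trans ?_
    rw [Submodule.smul_sup, ← mul_smul, hmul, Submodule.bot_smul, sup_bot_eq]
    exact Submodule.smul_le_right.trans le_sup_right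
  exact ⟨(top_le_iff.1 h) ▸ hN₁.sup hN₂⟩

theorem finite_extend_coker {B : Type u} [CommRing B] (φ : A →+* B) {N : DRing.Cx A} {n : ℤ}
    (hb : DRing.VanishesAbove N n) (h : PC FFree n (DRing.toD ((DTen.extCx φ).obj N))) :
    Module.Finite B ((ModuleCat.extendScalars.{u, u, u} φ).obj
      (ModuleCat.of A (N.X n ⧸ LinearMap.range (N.d (n - 1) n).hom))) := by
  let E := (DTen.extCx φ).obj N
  have hz : IsZero (E.X (n + 1)) := isZero_extCx_X φ (hb (n + 1) (by omega))
  haveI := finite_HD h (aboveZero_toD fun i hi => isZero_extCx_X φ (hb i (by omega)))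
  haveI : Module.Finite B ((DerivedCategory.Q ⋙ DerivedCategory.homologyFunctor (ModuleCat.{u} B) n).obj E) :=
    ‹Module.Finite B (Dual.HD B (DRing.toD E) n)›
  haveI : Module.Finite B (E.homology n) :=
    Module.Finite.equiv ((DerivedCategory.homologyFunctorFactors _ n).app E).toLinearEquiv
  haveI := E.isIso_homologyι n (n + 1) (by simp) (hz.eq_of_tgt _ _)
  haveI : Module.Finite B (E.opcycles n) := Module.Finite.equiv (asIso (E.homologyι n)).toLinearEquiv
  let π : N.X n ⟶ ModuleCat.of A (N.X n ⧸ LinearMap.range (N.d (n - 1) n).hom) :=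
    ModuleCat.ofHom (LinearMap.range (N.d (n - 1) n).hom).mkQ
  haveI : Epi π := (ModuleCat.epi_iff_surjective _).2 (Submodule.mkQ_surjective _)
  have hπ : N.d (n - 1) n ≫ π = 0 :=
    ModuleCat.hom_ext (LinearMap.exact_map_mkQ_range _).linearMap_comp_eq_zero
  let q := E.descOpcycles ((ModuleCat.extendScalars.{u, u, u} φ).map π) (n - 1) (by simp) (by
    show (ModuleCat.extendScalars.{u, u, u} φ).map (N.d (n - 1) n) ≫ _ = 0
    rw [← Functor.map_comp, hπ, Functor.map_zero])
  haveI : Epi (E.pOpcycles n ≫ q) := by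
    rw [HomologicalComplex.p_descOpcycles]
    haveI := (ModuleCat.extendRestrictScalarsAdj.{u, u, u} φ).leftAdjoint_preservesColimits
    exact inferInstanceAs (Epi ((ModuleCat.extendScalars.{u, u, u} φ).map π))
  haveI : Epi q := epi_of_epi (E.pOpcycles n) q
  exact Module.Finite.of_surjective q.hom ((ModuleCat.epi_iff_surjective q).1 inferInstance)

theorem pc_extCx_of_iso {B : Type u} [CommRing B] (φ : A →+* B) {N N' : DRing.Cx A}
    (hN : DRing.IsKFlat A N) (hN' : DRing.IsKFlat A N') (e : DRing.toD N ≅ DRing.toD N') {m : ℤ}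
    (h : PC FFree m (DRing.toD ((DTen.extCx φ).obj N))) :
    PC FFree m (DRing.toD ((DTen.extCx φ).obj N')) := by
  haveI := hasLBaseChange φ
  exact h.of_iso ((lbcIso φ N hN).symm ≪≫ (DRing.LBaseChange φ).mapIso e ≪≫ lbcIso φ N' hN')

theorem pc_of_pc_extCx {ι : Type} (B : ι → Type u) [∀ k, CommRing (B k)] (φ : ∀ k, A →+* B k)
    (hfin : ∀ M : ModuleCat.{u} A,
      (∀ k, Module.Finite (B k) ((ModuleCat.extendScalars.{u, u, u} (φ k)).obj M)) → Module.Finite A M)
    (m : ℤ) : ∀ (d : ℕ) (N : DRing.Cx A), (∀ i, Module.Projective A (N.X i)) →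
      DRing.VanishesAbove N (m + d - 1) →
      (∀ k, PC FFree m (DRing.toD ((DTen.extCx (φ k)).obj N))) → PC FFree m (DRing.toD N) := by
  intro d
  induction d with
  | zero =>
    intro N _ hb _
    exact pc_of_aboveZero projClass_fFree (aboveZero_toD fun i hi => hb i (by push_cast; omega))
  | succ d ih =>
    intro N hN hb h
    obtain ⟨n, hn⟩ : ∃ n : ℤ, n = m + d := ⟨_, rfl⟩
    have hb : DRing.VanishesAbove N n := fun i hi => hb i (by push_cast; omega)
    haveI := hfin _ fun k => finite_extend_coker (φ k) hb ((h k).mono (by omega))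
    obtain ⟨r, g, hg⟩ := exists_lift_generators
      (Q := N.X n ⧸ LinearMap.range (N.d (n - 1) n).hom) (LinearMap.range (N.d (n - 1) n).hom).mkQ
      (Submodule.mkQ_surjective _)
    let S : DRing.Cx A := (HomologicalComplex.single (ModuleCat.{u} A) (ComplexShape.up ℤ) n).obj
      (ModuleCat.of A (Fin r → A))
    let a : S ⟶ N := HomologicalComplex.mkHomFromSingle (ModuleCat.ofHom g) fun j hj =>
      (hb j (by simp at hj; omega)).eq_of_tgt _ _
    have hS : Bdd FFree S := by
      refine ⟨⟨n, n, fun i hi => HomologicalComplex.isZero_single_obj_X _ _ _ _ (by omega)⟩, fun i => ?_⟩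
      by_cases hi : i = n
      · subst hi
        exact projClass_fFree.iso (HomologicalComplex.singleObjXSelf (ComplexShape.up ℤ) i _).symm
          ⟨inferInstanceAs (Module.Finite A (Fin r → A)), inferInstanceAs (Module.Free A (Fin r → A))⟩
      · exact projClass_fFree.zero (HomologicalComplex.isZero_single_obj_X _ _ _ _ hi)
    let C := mappingCone a
    have hD := DerivedCategory.mappingCone_triangle_distinguished a
    have hCb : DRing.VanishesAbove C n := fun i hi =>
      ((biprod_isZero_iff _ _).2 ⟨HomologicalComplex.isZero_single_obj_X _ _ _ _ (by omega), hb i hi⟩).of_iso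
        (HomologicalComplex.homotopyCofiber.XIsoBiprod a i (i + 1) rfl)
    have hCp : ∀ i, Module.Projective A (C.X i) := fun i =>
      projClass_aProj.iso (HomologicalComplex.homotopyCofiber.XIsoBiprod a i (i + 1) rfl).symm
        (projClass_aProj.biprod (fFree_imp_fProj (hS.2 (i + 1))).2 (hN i))
    have hsurj : C.ExactAt n := by
      rw [C.exactAt_iff' (n - 1) n (n + 1) (by simp) (by simp), ShortComplex.moduleCat_exact_iff]
      intro x _
      obtain ⟨y, hy⟩ : ∃ y, ((mappingCone.inr a).f n).hom y = x := by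
        refine ⟨((mappingCone.snd a).v n n (add_zero n)).hom x, ?_⟩
        have h1 := congrArg (fun f => f.hom x) (mappingCone.id_X a n (n + 1) rfl)
        rw [(HomologicalComplex.isZero_single_obj_X (ComplexShape.up ℤ) n _ (n + 1) (by omega)).eq_of_tgt
          ((mappingCone.fst a).1.v n (n + 1) rfl) 0] at h1
        simp only [zero_comp, zero_add, ModuleCat.hom_comp, LinearMap.comp_apply, ModuleCat.hom_id,
          LinearMap.id_apply] at h1
        exact h1
      obtain ⟨s, hs⟩ := hg (Submodule.mkQ _ y)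
      obtain ⟨w, hw⟩ := (Submodule.Quotient.eq _).1 hs.symm
      refine ⟨((mappingCone.inl a).v n (n - 1) (by omega)).hom
        ((HomologicalComplex.singleObjXSelf (ComplexShape.up ℤ) n (ModuleCat.of A (Fin r → A))).inv.hom s) +
        ((mappingCone.inr a).f (n - 1)).hom w, ?_⟩
      have h2 := congrArg (fun f => f.hom
        ((HomologicalComplex.singleObjXSelf (ComplexShape.up ℤ) n (ModuleCat.of A (Fin r → A))).inv.hom s))
        (mappingCone.inl_v_d a n (n - 1) (n + 1) (by omega) (by omega))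
      have h3 := congrArg (fun f => f.hom w) ((mappingCone.inr a).comm (n - 1) n)
      have h4 : (a.f n).hom ((HomologicalComplex.singleObjXSelf (ComplexShape.up ℤ) n
          (ModuleCat.of A (Fin r → A))).inv.hom s) = g s := by
        simp [a, HomologicalComplex.mkHomFromSingle_f]
        exact congrArg g (congrArg (fun f => f.hom s)
          (HomologicalComplex.singleObjXSelf (ComplexShape.up ℤ) n (ModuleCat.of A (Fin r → A))).inv_hom_id)
      rw [(HomologicalComplex.isZero_single_obj_X (ComplexShape.up ℤ) n (ModuleCat.of A (Fin r → A)) (n + 1)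
        (by omega)).eq_of_tgt (S.d n (n + 1)) 0, zero_comp, sub_zero] at h2
      simp only [ModuleCat.hom_comp, LinearMap.comp_apply] at h2 h3
      show (C.d (n - 1) n).hom _ = x
      rw [map_add, h2, h3, h4, hw, ← map_add, add_sub_cancel, hy]
    have hC : AboveZero n (DRing.toD C) := fun i hi => by
      rcases eq_or_lt_of_le hi with rfl | hi'
      · exact (exactAt_iff_isZero_homologyFunctor C _).1 hsurj
      · exact aboveZero_toD (n := n + 1) (fun j hj => hCb j (by omega)) i (by omega)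
    obtain ⟨N', hb', hN', ⟨e⟩⟩ := exists_proj_representative (K := DRing.toD C) (n := n - 1) (by simpa using hC)
    have hPC : PC FFree m (DRing.toD C) := (ih N' hN' (fun i hi => hb' i (by omega)) fun k => by
      refine pc_extCx_of_iso (φ k) (isKFlat_of_projective hCb hCp) (isKFlat_of_projective hb' hN') e.symm ?_
      refine PC.of_iso ?_ (DerivedCategory.Q.mapIso (CochainComplex.mappingCone.mapHomologicalComplexIso a
        (ModuleCat.extendScalars.{u, u, u} (φ k))).symm)
      exact PC.obj₃ projClass_fFree _ (DerivedCategory.mappingCone_triangle_distinguished _)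
        (Perf.pc ⟨_, bdd_extCx (φ k) (fun M => fFree_extend (φ k)) hS, ⟨Iso.refl _⟩⟩ _) (h k)).of_iso e
    exact PC.obj₂ projClass_fFree _ hD (Perf.pc ⟨S, hS, ⟨Iso.refl _⟩⟩ _) hPC

theorem aboveZero_of_exactAt {P : DRing.Cx A} {b : ℤ} (h : ∀ (M : ModuleCat.{u} A) (i : ℤ), b < i →
    ((tensM M).obj P).ExactAt i) : AboveZero (b + 1) (DRing.toD P) := fun i hi =>
  (exactAt_iff_isZero_homologyFunctor P i).1 ((h _ i (by omega)).of_iso (tensUnitIso P))

theorem exactAt_ext_of_aboveZero {B : Type u} [CommRing B] (φ : A →+* B) [DRing.HasLBaseChange φ]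
    {P : DRing.Cx A} (hP : DRing.IsKFlat A P) {K : Dual.D A} (e : DRing.toD P ≅ K) {b : ℤ}
    (h : AboveZero (b + 1) ((DRing.LBaseChange φ).obj K)) (M : ModuleCat.{u} B) (i : ℤ) (hi : b < i) :
    ((tensM M).obj ((DTen.extCx φ).obj P)).ExactAt i := by
  obtain ⟨N, hb, hN, ⟨e'⟩⟩ := exists_proj_representative (n := b) h
  obtain ⟨e''⟩ := nonempty_tensM_iso (isKFlat_of_projective hb hN) (isKFlat_extCx φ hP)
    (e' ≪≫ (DRing.LBaseChange φ).mapIso e.symm ≪≫ lbcIso φ P hP) M
  exact exactAt_of_toD_iso e'' i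
    (ShortComplex.exact_of_isZero_X₂ _ ((MonoidalCategory.tensorLeft M).map_isZero (hb i hi)))

theorem pc_of_pc_lbc {ι : Type} (B : ι → Type u) [∀ k, CommRing (B k)] (φ : ∀ k, A →+* B k)
    [∀ k, DRing.HasLBaseChange (φ k)]
    (hfin : ∀ M : ModuleCat.{u} A,
      (∀ k, Module.Finite (B k) ((ModuleCat.extendScalars.{u, u, u} (φ k)).obj M)) → Module.Finite A M)
    {K : Dual.D A} {b : ℤ} (hK : AboveZero (b + 1) K)
    (h : ∀ k m, PC FFree m ((DRing.LBaseChange (φ k)).obj K)) (m : ℤ) : PC FFree m K := by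
  obtain ⟨N, hb, hN, ⟨e⟩⟩ := exists_proj_representative (n := b) hK
  exact (pc_of_pc_extCx B φ hfin m (b + 1 - m).toNat N hN (fun i hi => hb i (by omega))
    fun k => (h k m).of_iso ((DRing.LBaseChange (φ k)).mapIso e.symm ≪≫
      lbcIso (φ k) N (isKFlat_of_projective hb hN))).of_iso e

theorem isPseudoCoherent'_of_lbc_nilpotent {B : Type u} [CommRing B] (φ : A →+* B) (hφ : Function.Surjective φ)
    (hnil : IsNilpotent (RingHom.ker φ)) [DRing.HasLBaseChange φ] {K : Dual.D A}
    (h : DRing.IsPseudoCoherent' B ((DRing.LBaseChange φ).obj K)) : DRing.IsPseudoCoherent' A K := by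
  rw [isPseudoCoherent'_iff] at h ⊢
  obtain ⟨c, hc⟩ := (h 0).exists_aboveZero
  obtain ⟨P, hP, hflat, ⟨e⟩⟩ := exists_kflat_representative K
  have hK : AboveZero (c - 1 + 1) K :=
    (aboveZero_of_exactAt (P := P) (b := c - 1) fun M i hi => exactAt_tensM_of_nilpotent hφ hnil hflat
      (fun M' => exactAt_ext_of_aboveZero φ hP e (b := c - 1) (by simpa using hc) M' i hi) M).of_iso e.symm
  exact pc_of_pc_lbc (fun _ : Unit => B) (fun _ => φ)
    (fun M hM => finite_of_nilpotent φ hφ hnil M (hM ())) hK (fun _ m => h m)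

end Groth.Agent.DRingLib

namespace Groth.Agent.DRingLib

open Groth.Agent.DCohLib Groth.Agent.DTenLib

variable {A B C : Type u} [CommRing A] [CommRing B] [CommRing C]

/-- Extension of scalars in two steps, on complexes. -/
def extCxComp (φ : A →+* B) (ψ : B →+* C) (P : DRing.Cx A) :
    (DTen.extCx ψ).obj ((DTen.extCx φ).obj P) ≅ (DTen.extCx (ψ.comp φ)).obj P :=
  HomologicalComplex.Hom.isoOfComponents
    (fun i => (ModuleCat.extendScalarsComp φ ψ).symm.app (P.X i))
    fun i j _ => ((ModuleCat.extendScalarsComp φ ψ).symm.hom.naturality (P.d i j)).symm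

theorem nonempty_lbc_comp (φ : A →+* B) (ψ : B →+* C) [DRing.HasLBaseChange φ] [DRing.HasLBaseChange ψ]
    [DRing.HasLBaseChange (ψ.comp φ)] (K : Dual.D A) :
    Nonempty ((DRing.LBaseChange ψ).obj ((DRing.LBaseChange φ).obj K) ≅ (DRing.LBaseChange (ψ.comp φ)).obj K) := by
  obtain ⟨P, hP, -, ⟨e⟩⟩ := exists_kflat_representative K
  exact ⟨(DRing.LBaseChange ψ).mapIso ((DRing.LBaseChange φ).mapIso e.symm ≪≫ lbcIso φ P hP) ≪≫
    lbcIso ψ _ (isKFlat_extCx φ hP) ≪≫
    DerivedCategory.Q.mapIso (extCxComp φ ψ P) ≪≫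
    (lbcIso (ψ.comp φ) P hP).symm ≪≫ (DRing.LBaseChange (ψ.comp φ)).mapIso e⟩

/-- Two rings as a family. -/
def pairRing (B C : Type u) [CommRing B] [CommRing C] : Bool → CommRingCat.{u}
  | true => CommRingCat.of B
  | false => CommRingCat.of C

/-- Two maps as a family. -/
def pairHom (φ : A →+* B) (ψ : A →+* C) : ∀ k : Bool, A →+* pairRing B C k
  | true => φ
  | false => ψ

theorem isPerfect_of_mul_eq_bot (φ : A →+* B) (ψ : A →+* C) [DRing.HasLBaseChange φ] [DRing.HasLBaseChange ψ]
    (hφ : Function.Surjective φ) (hψ : Function.Surjective ψ) (hmul : RingHom.ker φ * RingHom.ker ψ = ⊥)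
    {K : Dual.D A} (h₁ : Perf FProj ((DRing.LBaseChange φ).obj K))
    (h₂ : Perf FProj ((DRing.LBaseChange ψ).obj K)) : Perf FProj K := by
  obtain ⟨P, hP, hflat, ⟨e⟩⟩ := exists_kflat_representative K
  obtain ⟨p₁, a₁, b₁, t₁⟩ := (perf_iff _).1 h₁
  obtain ⟨p₂, a₂, b₂, t₂⟩ := (perf_iff _).1 h₂
  have u₁ := tensVanish_extCx φ hP e (hasTorAmplitudeIn_mono (min_le_left a₁ a₂) (le_max_left b₁ b₂) t₁)
  have u₂ := tensVanish_extCx ψ hP e (hasTorAmplitudeIn_mono (min_le_right a₁ a₂) (le_max_right b₁ b₂) t₂)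
  have hamp : DRing.HasTorAmplitudeIn A (min a₁ a₂) (max b₁ b₂) K :=
    amp_of_iso e (amp_of_tensVanish hP fun M i hi =>
      exactAt_tensM_of_mul_eq_bot hφ hψ hmul hflat (fun M' => u₁ M' i hi) (fun M' => u₂ M' i hi) M)
  refine (perf_iff K).2 ⟨(isPseudoCoherent'_iff K).2 fun m => ?_, _, _, hamp⟩
  obtain ⟨N, hb, hN, ⟨e'⟩⟩ := exists_proj_representative (n := max b₁ b₂) (aboveZero_of_amplitude hamp)
  refine (pc_of_pc_extCx (fun k => (pairRing B C k : Type u)) (pairHom φ ψ)
    (fun M hM => finite_of_mul_eq_bot φ ψ hφ hψ hmul M (hM true) (hM false))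
    m (max b₁ b₂ + 1 - m).toNat N hN (fun i hi => hb i (by omega)) fun k => ?_).of_iso e'
  cases k
  · exact ((isPseudoCoherent'_iff _).1 p₂ m).of_iso ((DRing.LBaseChange ψ).mapIso e'.symm ≪≫
      lbcIso ψ N (isKFlat_of_projective hb hN))
  · exact ((isPseudoCoherent'_iff _).1 p₁ m).of_iso ((DRing.LBaseChange φ).mapIso e'.symm ≪≫
      lbcIso φ N (isKFlat_of_projective hb hN))

end Groth.Agent.DRingLib
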