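import Groth.Agent.DRingLib.Perfect

/-!
# Classes containing the ring
-/

set_option autoImplicit false
set_option linter.style.haveILetI false

universe u

open CategoryTheory Limits Pretriangulated
attribute [local instance] HasDerivedCategory.standard

noncomputable section

namespace Groth.Agent.DRingLib

variable {A : Type u} [CommRing A] {P : Dual.D A → Prop}
  (hiso : ∀ {K L : Dual.D A}, (K ≅ L) → P K → P L)
  (hext : ∀ T : Triangle (Dual.D A), T ∈ distTriang _ → P T.obj₁ → P T.obj₃ → P T.obj₂)
  (hsum : ∀ (X Y : Dual.D A) [HasBinaryBiproduct X Y], P (X ⊞ Y) → P X)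
  (hR : P (Dual.inD A A))

include hiso hsum hR in
theorem class_zero {K : Dual.D A} (h : IsZero K) : P K := by
  haveI : HasBinaryBiproduct K (Dual.inD A A) := inferInstance
  exact hsum K (Dual.inD A A) (hiso (isoZeroBiprod h) hR)

include hiso hext hsum hR in
theorem class_free (r : ℕ) : P (Dual.inD A (Fin r → A)) := by
  induction r with
  | zero =>
    exact class_zero hiso hsum hR (Functor.map_isZero _ (ModuleCat.isZero_of_subsingleton _))
  | succ r ih =>
    let S := DerivedCategory.singleFunctor (ModuleCat.{u} A) 0
    haveI := preservesBinaryBiproducts_of_preservesBiproducts S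
    exact hiso ((S.mapBiprod (ModuleCat.of A A) (ModuleCat.of A (Fin r → A))).symm ≪≫
      S.mapIso (ModuleCat.biprodIsoProd _ _ ≪≫
        (Fin.consLinearEquiv A (fun _ : Fin (r + 1) => A)).toModuleIso))
      (hext _ (binaryBiproductTriangle_distinguished _ _) hR ih)

include hiso hext hsum hR in
theorem class_projective (M : ModuleCat.{u} A) (hM : FProj M) : P (Dual.inD A M) := by
  obtain ⟨hf, hp⟩ := hM
  obtain ⟨n, f, g, -, -, hfg⟩ := Module.Finite.exists_comp_eq_id_of_projective A M
  let S := DerivedCategory.singleFunctor (ModuleCat.{u} A) 0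
  haveI := preservesBinaryBiproducts_of_preservesBiproducts S
  let e' : (M × LinearMap.ker f) ≃ₗ[A] (Fin n → A) :=
    LinearEquiv.ofLinear (LinearMap.coprod g (LinearMap.ker f).subtype)
      (LinearMap.prod f (LinearMap.codRestrict _ (LinearMap.id - g ∘ₗ f) fun y => by
        have h1 := LinearMap.congr_fun hfg (f y)
        simp only [LinearMap.comp_apply, LinearMap.id_apply] at h1
        simp [LinearMap.mem_ker, h1]))
      (LinearMap.ext fun y => by simp)
      (LinearMap.ext fun y => by
        have h1 := LinearMap.congr_fun hfg y.1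
        simp only [LinearMap.comp_apply, LinearMap.id_apply] at h1
        refine Prod.ext ?_ (Subtype.ext ?_) <;> simp [h1, LinearMap.mem_ker.1 y.2.2])
  exact hsum _ _ (hiso (S.mapIso ((ModuleCat.biprodIsoProd M (ModuleCat.of A (LinearMap.ker f))) ≪≫
    e'.toModuleIso).symm ≪≫ S.mapBiprod _ _) (class_free hiso hext hsum hR n))

include hiso hext hsum hR in
/-- Perfect objects lie in every such class stable under shifts. -/
theorem class_of_perf (hshift : ∀ (K : Dual.D A) (n : ℤ), P K → P (K⟦n⟧)) {K : Dual.D A}
    (hK : Perf FProj K) : P K := by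
  obtain ⟨E, ⟨⟨a, b, hab⟩, hE⟩, ⟨e⟩⟩ := hK
  exact hiso e (of_bounded_terms hiso (class_zero hiso hsum hR) hext hab
    fun i => hshift _ _ (class_projective hiso hext hsum hR _ (hE i)))

end Groth.Agent.DRingLib
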