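import Groth.Agent.DRingLib.FlatCoker
import Groth.Agent.DRingLib.PerfMisc
import Groth.Agent.FlatCx.Cochain
import Groth.Agent.CAlgBasics.FlatAux
import Mathlib.Algebra.Module.FinitePresentation
import Mathlib.RingTheory.Flat.EquationalCriterion
import Mathlib.CategoryTheory.Abelian.Projective.Extend

/-!
# Perfect amplitude
-/

set_option autoImplicit false
set_option linter.style.haveILetI false

universe u

open CategoryTheory Limits
attribute [local instance] HasDerivedCategory.standard

noncomputable section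

namespace Groth.Agent.DRingLib

open Groth.Agent.DCohLib CochainComplex

variable {A : Type u} [CommRing A]

theorem isIso_Q_map {E F : DRing.Cx A} (f : E ⟶ F) (h : QuasiIso f) : IsIso (DerivedCategory.Q.map f) :=
  Localization.inverts DerivedCategory.Q (HomologicalComplex.quasiIso _ _) f
    ((HomologicalComplex.mem_quasiIso_iff f).2 h)

theorem aboveZero_toD {E : DRing.Cx A} {n : ℤ} (hE : ∀ i, n ≤ i → IsZero (E.X i)) :
    AboveZero n (DRing.toD E) := fun i hi =>
  ((HomologicalComplex.exactAt_iff_isZero_homology _ _).1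
    (ShortComplex.exact_of_isZero_X₂ _ (hE i hi))).of_iso
      ((DerivedCategory.homologyFunctorFactors _ i).app E)

/-- A stage of the construction with a vanishing top degree. -/
theorem exists_stage {F : DRing.Cx A} (b : ℤ) (hb : AboveZero b (DRing.toD F)) :
    ∀ k : ℕ, PC FFree (b - k) (DRing.toD F) →
      ∃ s : PStage F b (b - k), ∀ i, b ≤ i → IsZero (s.E.X i) := by
  intro k
  induction k with
  | zero =>
    intro _
    refine ⟨{ E := HomologicalComplex.zero
              f := 0
              bdd := bdd_zero projClass_fFree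
              above := fun i _ => isZero_zero _
              mIso := ?_ }, fun i _ => isZero_zero _⟩
    have h0 : AboveZero b (DRing.toD (HomologicalComplex.zero : DRing.Cx A)) :=
      aboveZero_zero b (DerivedCategory.Q.map_isZero HomologicalComplex.isZero_zero)
    rw [show (b - ((0 : ℕ) : ℤ)) = b by simp, mIso_iff]
    refine ⟨fun i hi => (h0 i hi.le).isIso (hb i hi.le) _, ?_⟩
    haveI := (h0 b le_rfl).isIso (hb b le_rfl) ((DerivedCategory.homologyFunctor (ModuleCat.{u} A) b).map
      (DerivedCategory.Q.map (0 : (HomologicalComplex.zero : DRing.Cx A) ⟶ F)))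
    infer_instance
  | succ k ih =>
    intro h
    rw [show (b - ((k + 1 : ℕ) : ℤ)) = b - k - 1 by push_cast; omega] at h ⊢
    obtain ⟨s, hs⟩ := ih (h.mono (by omega))
    obtain ⟨t, ι, -, hι⟩ := exists_cell (by omega) h s
    refine ⟨t, fun i hi => ?_⟩
    haveI := hι i (by omega)
    exact (hs i hi).of_iso (asIso (ι.f i)).symm

/-- The cokernel of an approximation of a bounded flat complex is flat. -/
theorem flat_coker_of_approx {E F : DRing.Cx A} (f : E ⟶ F) {m n : ℤ} (hE : ∀ i, Module.Flat A (E.X i))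
    (hEn : ∀ i, n < i → IsZero (E.X i)) (hF : DRing.VanishesOutside F m n) (hFflat : DRing.TermwiseFlat F)
    (hf : MIso (m - 1) (DerivedCategory.Q.map f)) :
    Module.Flat A (E.X m ⧸ LinearMap.range (E.d (m - 1) m).hom) := by
  let C := mappingCone f
  have hA : AboveZero (m - 1) (DRing.toD C) := hf.cone _ (DerivedCategory.mappingCone_triangle_distinguished f)
  have hC : ∀ i, m - 1 ≤ i → C.ExactAt i := fun i hi =>
    (HomologicalComplex.exactAt_iff_isZero_homology _ _).2
      ((hA i hi).of_iso ((DerivedCategory.homologyFunctorFactors _ i).app C).symm)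
  have hCflat : ∀ i, Module.Flat A (C.X i) := fun i => by
    haveI := hE (i + 1)
    haveI := hFflat i
    haveI : Module.Flat A (E.X (i + 1) × F.X i) :=
      Groth.Agent.CAlgBasics.flat_of_exact (f := LinearMap.inl A (E.X (i + 1)) (F.X i))
        (g := LinearMap.snd A (E.X (i + 1)) (F.X i)) LinearMap.inl_injective Function.Exact.inl_snd
        LinearMap.snd_surjective
    exact Module.Flat.of_linearEquiv (HomologicalComplex.homotopyCofiber.XIsoBiprod f i (i + 1) rfl ≪≫
      ModuleCat.biprodIsoProd _ _).toLinearEquiv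
  haveI hZ := Groth.Agent.FlatCx.flat_ker_of_exact_above C hCflat n (fun i hi =>
    ((biprod_isZero_iff _ _).2 ⟨hEn (i + 1) (by omega), hF i (Or.inr hi)⟩).of_iso
      (HomologicalComplex.homotopyCofiber.XIsoBiprod f i (i + 1) rfl)) (m - 1)
    (fun p hp => hC p (by omega)) m (by omega)
  let a := (mappingCone.inl f).v m (m - 1) (by omega)
  let φ := a ≫ C.d (m - 1) m
  have hF1 : IsZero (F.X (m - 1)) := hF _ (Or.inl (by omega))
  have hfst : a ≫ (mappingCone.fst f).1.v (m - 1) m (by omega) = 𝟙 _ := by simp [a]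
  have hid : (mappingCone.fst f).1.v (m - 1) m (by omega) ≫ a = 𝟙 (C.X (m - 1)) := by
    have h := mappingCone.id_X f (m - 1) m (by omega)
    rw [hF1.eq_of_tgt ((mappingCone.snd f).v (m - 1) (m - 1) (add_zero _)) 0, zero_comp, add_zero] at h
    exact h
  have hker : LinearMap.ker φ.hom = LinearMap.range (E.d (m - 1) m).hom := by
    apply le_antisymm
    · intro x hx
      have h := hC (m - 1) le_rfl
      rw [C.exactAt_iff' (m - 1 - 1) (m - 1) m (by simp) (by simp), ShortComplex.moduleCat_exact_iff] at h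
      obtain ⟨z, hz⟩ := h (a.hom x) hx
      change (C.d (m - 1 - 1) (m - 1)).hom z = a.hom x at hz
      refine ⟨-((mappingCone.fst f).1.v (m - 1 - 1) (m - 1) (by omega)).hom z, ?_⟩
      have h1 := congrArg (fun g => g.hom z)
        (mappingCone.d_fst_v f (m - 1 - 1) (m - 1) m (by omega) (by omega))
      have h2 := congrArg (fun g => g.hom x) hfst
      simp only [ModuleCat.hom_comp, LinearMap.comp_apply, ModuleCat.hom_neg, LinearMap.neg_apply,
        ModuleCat.hom_id, LinearMap.id_apply] at h1 h2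
      rw [hz, h2] at h1
      rw [map_neg, h1]
    · rintro _ ⟨w, rfl⟩
      show (C.d (m - 1) m).hom (a.hom ((E.d (m - 1) m).hom w)) = 0
      have h := mappingCone.inl_v_d f (m - 1) (m - 1 - 1) m (by omega) (by omega)
      rw [hF1.eq_of_tgt (f.f (m - 1)) 0, zero_comp, zero_sub] at h
      have hdd : ∀ z, (C.d (m - 1) m).hom ((C.d (m - 1 - 1) (m - 1)).hom z) = 0 := fun z =>
        congrArg (fun g => g.hom z) (C.d_comp_d (m - 1 - 1) (m - 1) m)
      have h1 := (congrArg (fun g => (C.d (m - 1) m).hom (g.hom w)) h).symm.trans (hdd _)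
      simp only [ModuleCat.hom_comp, LinearMap.comp_apply, ModuleCat.hom_neg, LinearMap.neg_apply, map_neg,
        neg_eq_zero] at h1
      exact h1
  have hran : LinearMap.range φ.hom = LinearMap.ker (C.d m (m + 1)).hom := by
    rw [← Groth.Agent.FlatCx.range_eq_ker_of_exactAt C (m - 1) m (m + 1) (by omega) rfl (hC m (by omega))]
    refine le_antisymm (LinearMap.range_comp_le_range _ _) ?_
    rintro _ ⟨z, rfl⟩
    exact ⟨((mappingCone.fst f).1.v (m - 1) m (by omega)).hom z,
      congrArg (C.d (m - 1) m).hom (congrArg (fun g => g.hom z) hid)⟩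
  exact Module.Flat.of_linearEquiv
    ((Submodule.quotEquivOfEq _ _ hker.symm).trans (φ.hom.quotKerEquivRange.trans (LinearEquiv.ofEq _ _ hran)))

theorem fProj_opcycles {E : DRing.Cx A} {m : ℤ} (h₁ : FProj (E.X (m - 1))) (h₂ : FProj (E.X m))
    (h : Module.Flat A (E.X m ⧸ LinearMap.range (E.d (m - 1) m).hom)) : FProj (E.opcycles m) := by
  haveI := h₁.1
  haveI := h₂.1
  haveI := h₂.2
  haveI := h
  haveI := Module.finitePresentation_of_projective A (E.X m)
  haveI : Module.FinitePresentation A (E.X m ⧸ LinearMap.range (E.d (m - 1) m).hom) :=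
    Module.finitePresentation_of_surjective (LinearMap.range (E.d (m - 1) m).hom).mkQ
      (Submodule.mkQ_surjective _) (by
      rw [Submodule.ker_mkQ]
      exact Module.Finite.iff_fg.1 (Module.Finite.range _))
  haveI := Module.Flat.projective_of_finitePresentation (R := A) (M := E.X m ⧸ LinearMap.range (E.d (m - 1) m).hom)
  obtain ⟨e⟩ := opcycles_equiv E m
  exact ⟨Module.Finite.equiv e, Module.Projective.of_equiv e⟩

/-- Approximable objects with tor amplitude in an interval have perfect amplitude there. -/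
theorem exists_fProj_of_amplitude {K : Dual.D A} {m n : ℤ} (hmn : m ≤ n + 1) (hK : PC FFree (m - 1) K)
    (hamp : DRing.HasTorAmplitudeIn A m n K) :
    ∃ E : DRing.Cx A, DRing.VanishesOutside E m n ∧ (∀ i, FProj (E.X i)) ∧ Nonempty (DRing.toD E ≅ K) := by
  obtain ⟨F, hF, hFflat, ⟨e⟩⟩ := hamp
  obtain ⟨k, hk⟩ : ∃ k : ℕ, n + 1 - (k : ℤ) = m - 1 := ⟨(n + 1 - (m - 1)).toNat, by omega⟩
  obtain ⟨s, hs⟩ := exists_stage (F := F) (n + 1) (aboveZero_toD fun i hi => hF i (Or.inr (by omega))) k
    (by rw [hk]; exact hK.of_iso e.symm)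
  have hf : MIso (m - 1) (DerivedCategory.Q.map s.f) := hk ▸ s.mIso
  have hE : ∀ i, FProj (s.E.X i) := fun i => fFree_imp_fProj (s.bdd.2 i)
  have hflat : ∀ i, Module.Flat A (s.E.X i) := fun i => by
    haveI := (hE i).2
    exact Module.Flat.of_projective
  have hcoker := flat_coker_of_approx s.f hflat (fun i hi => hs i (by omega)) hF hFflat hf
  haveI : F.IsStrictlyGE m := (CochainComplex.isStrictlyGE_iff _ _).2 fun i hi => hF i (Or.inl hi)
  haveI : IsIso (DerivedCategory.Q.map (truncGEMap s.f m)) := by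
    rw [DerivedCategory.isIso_Q_map_iff_quasiIso, CochainComplex.quasiIso_truncGEMap_iff]
    intro i hi
    rw [quasiIsoAt_iff_isIso_homologyMap]
    exact (NatIso.isIso_map_iff (DerivedCategory.homologyFunctorFactors (ModuleCat.{u} A) i) s.f).1
      (((mIso_iff _ _).1 hf).1 i (by omega))
  refine ⟨s.E.truncGE m, fun i hi => ?_, fun i => ?_,
    ⟨asIso (DerivedCategory.Q.map (truncGEMap s.f m)) ≪≫
      DerivedCategory.Q.mapIso (asIso (F.πTruncGE m)).symm ≪≫ e⟩⟩
  · rcases hi with hi | hi
    · exact CochainComplex.isZero_of_isStrictlyGE _ m i hi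
    · rcases eq_or_lt_of_le (show m ≤ i by omega) with rfl | h'
      · exact (IsZero.of_epi (s.E.pOpcycles m) (hs m (by omega))).of_iso (s.E.truncGEXIsoOpcycles m)
      · exact (hs i (by omega)).of_iso (s.E.truncGEXIso m i h')
  · rcases lt_trichotomy i m with h' | rfl | h'
    · exact projClass_fProj.zero (CochainComplex.isZero_of_isStrictlyGE _ m i h')
    · exact projClass_fProj.iso (s.E.truncGEXIsoOpcycles i).symm (fProj_opcycles (hE _) (hE _) hcoker)
    · exact projClass_fProj.iso (s.E.truncGEXIso m i h').symm (hE i)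

theorem termwiseFlat_of_projective {E : DRing.Cx A} (h : ∀ i, Module.Projective A (E.X i)) :
    DRing.TermwiseFlat E := fun i => by
  haveI := h i
  exact Module.Flat.of_projective

theorem hasTorAmplitudeIn_mono {a b a' b' : ℤ} {K : Dual.D A} (ha : a' ≤ a) (hb : b ≤ b')
    (h : DRing.HasTorAmplitudeIn A a b K) : DRing.HasTorAmplitudeIn A a' b' K := by
  obtain ⟨E, hE, hflat, e⟩ := h
  exact ⟨E, fun i hi => hE i (by omega), hflat, e⟩

/-- Perfect means pseudo-coherent of finite tor dimension. -/
theorem perf_iff (K : Dual.D A) :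
    Perf FProj K ↔ DRing.IsPseudoCoherent' A K ∧ DRing.HasFiniteTorDimCx A K := by
  refine ⟨fun h => ⟨pcPrime_of_perf h, ?_⟩, ?_⟩
  · obtain ⟨E, ⟨⟨a, b, hab⟩, hE⟩, e⟩ := h
    exact ⟨a, b, E, hab, termwiseFlat_of_projective fun i => (hE i).2, e⟩
  · rintro ⟨hpc, a, b, hamp⟩
    obtain ⟨E, hE, hEp, e⟩ := exists_fProj_of_amplitude (m := a) (n := max a b) (by omega)
      ((isPseudoCoherent'_iff K).1 hpc (a - 1)) (hasTorAmplitudeIn_mono le_rfl (le_max_right _ _) hamp)
    exact ⟨E, ⟨⟨_, _, hE⟩, hEp⟩, e⟩

end Groth.Agent.DRingLib
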