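import Groth.Agent.DRingLib.TensorAmp

/-!
# Descent along nilpotent thickenings
-/

set_option autoImplicit false
set_option linter.style.haveILetI false
set_option backward.isDefEq.respectTransparency false

universe u

open CategoryTheory Limits MonoidalCategory Pretriangulated
attribute [local instance] HasDerivedCategory.standard

noncomputable section

namespace Groth.Agent.DRingLib

open Groth.Agent.DCohLib Groth.Agent.DTenLib CochainComplex

variable {A : Type u} [CommRing A]

theorem flat_resA (K : DRing.Cx A) (n : ℤ) : Module.Flat A (((resA A).obj K).X n) :=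
  Groth.Agent.DCohLib.res_X_flat (covF A) (covFπ A) (KFlat.flatClass A) flat_covF K n

theorem exists_kflat_representative (K : Dual.D A) :
    ∃ P : DRing.Cx A, DRing.IsKFlat A P ∧ DRing.TermwiseFlat P ∧ Nonempty (DRing.toD P ≅ K) :=
  ⟨(resA A).obj (DerivedCategory.Q.objPreimage K), isKFlat_resA _, flat_resA _,
    ⟨@asIso _ _ _ _ (DerivedCategory.Q.map ((resAπ A).app _)) (isIso_Q_map _ (quasiIso_resAπ _)) ≪≫
      DerivedCategory.Q.objObjPreimageIso K⟩⟩

theorem amp_of_tensVanish {P : DRing.Cx A} (hP : DRing.IsKFlat A P) {a b : ℤ} (h : TensVanish P a b) :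
    DRing.HasTorAmplitudeIn A a b (DRing.toD P) := by
  obtain ⟨N, hb, hN, ⟨e⟩⟩ := exists_proj_representative (K := DRing.toD P) (n := b)
    fun i hi => (exactAt_iff_isZero_homologyFunctor P i).1 (h.exactAt i (Or.inr (by omega)))
  refine amp_of_iso e ((tensVanish_iff hb (termwiseFlat_of_projective hN) a b).2 fun M i hi => ?_)
  obtain ⟨e'⟩ := nonempty_tensM_iso hP (isKFlat_of_projective hb hN) e.symm M
  exact exactAt_of_toD_iso e' i (h M i hi)

theorem exactAt_tensM_of_shortExact {S : ShortComplex (ModuleCat.{u} A)} (hS : S.ShortExact) {P : DRing.Cx A}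
    (hP : DRing.TermwiseFlat P) (i : ℤ) (h₁ : ((tensM S.X₁).obj P).ExactAt i)
    (h₃ : ((tensM S.X₃).obj P).ExactAt i) : ((tensM S.X₂).obj P).ExactAt i := by
  let α : tensM S.X₁ ⟶ tensM S.X₂ :=
    NatTrans.mapHomologicalComplex ((tensoringLeft (ModuleCat.{u} A)).map S.f) (ComplexShape.up ℤ)
  let β : tensM S.X₂ ⟶ tensM S.X₃ :=
    NatTrans.mapHomologicalComplex ((tensoringLeft (ModuleCat.{u} A)).map S.g) (ComplexShape.up ℤ)
  let T : ShortComplex (DRing.Cx A) := ShortComplex.mk (α.app P) (β.app P) (by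
    ext n : 1
    show S.f ▷ P.X n ≫ S.g ▷ P.X n = 0
    rw [← MonoidalCategory.comp_whiskerRight, S.zero, MonoidalPreadditive.zero_whiskerRight])
  have hT : T.ShortExact := HomologicalComplex.shortExact_of_degreewise_shortExact _ fun n => by
    haveI := hP n
    haveI : (tensorRight (P.X n)).Additive := inferInstance
    exact ShortComplex.ShortExact.mk'
      ((ShortComplex.ShortExact.moduleCat_exact_iff_function_exact _).2
        (Module.Flat.rTensor_exact (P.X n) ((ShortComplex.ShortExact.moduleCat_exact_iff_function_exact S).1 hS.exact)))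
      ((ModuleCat.mono_iff_injective _).2 (Module.Flat.rTensor_preserves_injective_linearMap S.f.hom
        ((ModuleCat.mono_iff_injective S.f).1 hS.mono_f)))
      ((ModuleCat.epi_iff_surjective _).2 (LinearMap.rTensor_surjective (P.X n)
        ((ModuleCat.epi_iff_surjective S.g).1 hS.epi_g)))
  rw [HomologicalComplex.exactAt_iff_isZero_homology] at h₁ h₃ ⊢
  exact (hT.homology_exact₂ i).isZero_of_both_zeros (h₁.eq_of_src _ _) (h₃.eq_of_tgt _ _)

section Killed

variable {B : Type u} [CommRing B] (φ : A →+* B)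

/-- Tensoring with a restricted module, after extension of scalars. -/
def tensMExtIso (M : ModuleCat.{u} B) (P : DRing.Cx A) :
    ((ModuleCat.restrictScalars.{u} φ).mapHomologicalComplex (ComplexShape.up ℤ)).obj
      ((tensM M).obj ((DTen.extCx φ).obj P)) ≅ (tensM ((ModuleCat.restrictScalars.{u} φ).obj M)).obj P :=
  HomologicalComplex.Hom.isoOfComponents (fun i => ((cancelBiIso φ).app M).app (P.X i))
    fun i j _ => (((cancelBiIso φ).app M).hom.naturality (P.d i j)).symm

theorem exactAt_tensM_restrict {P : DRing.Cx A} {i : ℤ}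
    (h : ∀ M : ModuleCat.{u} B, ((tensM M).obj ((DTen.extCx φ).obj P)).ExactAt i) (M : ModuleCat.{u} B) :
    ((tensM ((ModuleCat.restrictScalars.{u} φ).obj M)).obj P).ExactAt i := by
  refine HomologicalComplex.ExactAt.of_iso ?_ (tensMExtIso φ M P)
  have h' := h M
  rw [HomologicalComplex.exactAt_iff] at h' ⊢
  exact h'.map (ModuleCat.restrictScalars.{u} φ)

theorem exists_module_of_killed (hφ : Function.Surjective φ) (M : Type u) [AddCommGroup M] [Module A M]
    (hM : ∀ r ∈ RingHom.ker φ, ∀ m : M, r • m = 0) :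
    ∃ M' : ModuleCat.{u} B, Nonempty ((ModuleCat.restrictScalars.{u} φ).obj M' ≅ ModuleCat.of A M) := by
  letI : Module (A ⧸ RingHom.ker φ) M := Module.IsTorsionBySet.module (fun m r => hM r r.2 m)
  letI : Module B M := Module.compHom M (RingHom.quotientKerEquivOfSurjective hφ).symm.toRingHom
  refine ⟨ModuleCat.of B M, ⟨LinearEquiv.toModuleIso
    (X₁ := (ModuleCat.restrictScalars.{u} φ).obj (ModuleCat.of B M)) (X₂ := M)
    { (AddEquiv.refl M) with map_smul' := fun r m => ?_ }⟩⟩
  show (RingHom.quotientKerEquivOfSurjective hφ).symm (φ r) • (show M from m) = r • (show M from m)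
  rw [show φ r = RingHom.quotientKerEquivOfSurjective hφ (Ideal.Quotient.mk _ r) from rfl,
    RingEquiv.symm_apply_apply]
  rfl

theorem exactAt_tensM_of_killed (hφ : Function.Surjective φ) {P : DRing.Cx A} {i : ℤ}
    (h : ∀ M : ModuleCat.{u} B, ((tensM M).obj ((DTen.extCx φ).obj P)).ExactAt i) (M : Type u) [AddCommGroup M]
    [Module A M] (hM : ∀ r ∈ RingHom.ker φ, ∀ m : M, r • m = 0) :
    ((tensM (ModuleCat.of A M)).obj P).ExactAt i := by
  obtain ⟨M', ⟨e⟩⟩ := exists_module_of_killed φ hφ M hM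
  exact (exactAt_tensM_restrict φ h M').of_iso
    ((NatIso.mapHomologicalComplex ((tensoringLeft (ModuleCat.{u} A)).mapIso e) (ComplexShape.up ℤ)).app P)

theorem tensVanish_extCx [DRing.HasLBaseChange φ] {P : DRing.Cx A} (hP : DRing.IsKFlat A P) {K : Dual.D A}
    (e : DRing.toD P ≅ K) {a b : ℤ} (h : DRing.HasTorAmplitudeIn B a b ((DRing.LBaseChange φ).obj K)) :
    TensVanish ((DTen.extCx φ).obj P) a b :=
  tensVanish_of_amplitude (isKFlat_extCx φ hP)
    (amp_of_iso ((DRing.LBaseChange φ).mapIso e.symm ≪≫ lbcIso φ P hP) h)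

end Killed

theorem exactAt_tensM_of_submodule {P : DRing.Cx A} (hP : DRing.TermwiseFlat P) (M : Type u) [AddCommGroup M]
    [Module A M] (N : Submodule A M) (i : ℤ) (h₁ : ((tensM (ModuleCat.of A N)).obj P).ExactAt i)
    (h₃ : ((tensM (ModuleCat.of A (M ⧸ N))).obj P).ExactAt i) : ((tensM (ModuleCat.of A M)).obj P).ExactAt i := by
  let S : ShortComplex (ModuleCat.{u} A) :=
    ShortComplex.mk (ModuleCat.ofHom N.subtype) (ModuleCat.ofHom N.mkQ)
      (ModuleCat.hom_ext (LinearMap.ext fun x => (Submodule.Quotient.mk_eq_zero N).2 x.2))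
  have hS : S.ShortExact :=
    { exact := (ShortComplex.ShortExact.moduleCat_exact_iff_function_exact S).2 (LinearMap.exact_subtype_mkQ N)
      mono_f := (ModuleCat.mono_iff_injective _).2 Subtype.val_injective
      epi_g := (ModuleCat.epi_iff_surjective _).2 N.mkQ_surjective }
  exact exactAt_tensM_of_shortExact hS hP i h₁ h₃

theorem quotient_killed (I : Ideal A) (M : Type u) [AddCommGroup M] [Module A M] :
    ∀ r ∈ I, ∀ m : M ⧸ (I • ⊤ : Submodule A M), r • m = 0 := fun r hr m => by
  obtain ⟨x, rfl⟩ := Submodule.mkQ_surjective _ m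
  rw [← map_smul]
  exact (Submodule.Quotient.mk_eq_zero _).2 (Submodule.smul_mem_smul hr Submodule.mem_top)

theorem exactAt_tensM_of_nilpotent {B : Type u} [CommRing B] {φ : A →+* B} (hφ : Function.Surjective φ)
    (hnil : IsNilpotent (RingHom.ker φ)) {P : DRing.Cx A} (hP : DRing.TermwiseFlat P) {i : ℤ}
    (h : ∀ M : ModuleCat.{u} B, ((tensM M).obj ((DTen.extCx φ).obj P)).ExactAt i) (M : ModuleCat.{u} A) :
    ((tensM M).obj P).ExactAt i := by
  obtain ⟨n, hn⟩ := hnil
  suffices key : ∀ (k : ℕ) (M : Type u) [AddCommGroup M] [Module A M],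
      (∀ r ∈ RingHom.ker φ ^ k, ∀ m : M, r • m = 0) → ((tensM (ModuleCat.of A M)).obj P).ExactAt i by
    refine key n M (fun r hr m => ?_)
    rw [hn] at hr
    rw [Submodule.zero_eq_bot, Submodule.mem_bot] at hr
    rw [hr, zero_smul]
  intro k
  induction k with
  | zero =>
    intro M _ _ hM
    haveI : Subsingleton M := subsingleton_of_forall_eq 0 fun m => by
      simpa using hM 1 (by simp) m
    exact ShortComplex.exact_of_isZero_X₂ _
      (((tensorRight (P.X i)).map_isZero (ModuleCat.isZero_of_subsingleton (ModuleCat.of A M))))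
  | succ k ih =>
    intro M _ _ hM
    let N : Submodule A M := RingHom.ker φ • ⊤
    refine exactAt_tensM_of_submodule hP M N i (ih N (fun r hr x => ?_))
      (exactAt_tensM_of_killed φ hφ h _ (quotient_killed _ M))
    refine Subtype.ext ?_
    show r • (x : M) = 0
    refine Submodule.smul_induction_on x.2 (fun s hs m _ => ?_) (fun y z hy hz => by rw [smul_add, hy, hz, add_zero])
    rw [smul_smul]
    exact hM _ (by rw [pow_succ]; exact Ideal.mul_mem_mul hr hs) m

theorem amp_of_lbc_nilpotent {B : Type u} [CommRing B] (φ : A →+* B) (hφ : Function.Surjective φ)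
    (hnil : IsNilpotent (RingHom.ker φ)) [DRing.HasLBaseChange φ] {K : Dual.D A} {a b : ℤ}
    (h : DRing.HasTorAmplitudeIn B a b ((DRing.LBaseChange φ).obj K)) : DRing.HasTorAmplitudeIn A a b K := by
  obtain ⟨P, hP, hflat, ⟨e⟩⟩ := exists_kflat_representative K
  exact amp_of_iso e (amp_of_tensVanish hP fun M i hi =>
    exactAt_tensM_of_nilpotent hφ hnil hflat (fun M' => tensVanish_extCx φ hP e h M' i hi) M)

theorem exactAt_tensM_of_mul_eq_bot {B C : Type u} [CommRing B] [CommRing C] {φ : A →+* B} {ψ : A →+* C}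
    (hφ : Function.Surjective φ) (hψ : Function.Surjective ψ) (hmul : RingHom.ker φ * RingHom.ker ψ = ⊥)
    {P : DRing.Cx A} (hP : DRing.TermwiseFlat P) {i : ℤ}
    (hB : ∀ M : ModuleCat.{u} B, ((tensM M).obj ((DTen.extCx φ).obj P)).ExactAt i)
    (hC : ∀ M : ModuleCat.{u} C, ((tensM M).obj ((DTen.extCx ψ).obj P)).ExactAt i) (M : ModuleCat.{u} A) :
    ((tensM M).obj P).ExactAt i := by
  let N : Submodule A M := RingHom.ker φ • ⊤
  refine exactAt_tensM_of_submodule hP M N i
    (exactAt_tensM_of_killed ψ hψ hC N (fun r hr x => Subtype.ext ?_))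
    (exactAt_tensM_of_killed φ hφ hB _ (quotient_killed _ M))
  show r • (x : M) = 0
  refine Submodule.smul_induction_on x.2 (fun s hs m _ => ?_) (fun y z hy hz => by rw [smul_add, hy, hz, add_zero])
  have h0 : s * r = 0 := by
    have := Ideal.mul_mem_mul hs hr
    rwa [hmul, Submodule.mem_bot] at this
  rw [smul_smul, mul_comm, h0, zero_smul]

end Groth.Agent.DRingLib
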