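import Groth.Agent.DRingLib.TensorAmp
import Groth.Agent.DRingLib.Descent
import Groth.Agent.DRingLib.FlatBC
import Mathlib.RingTheory.Flat.EquationalCriterion
import Mathlib.RingTheory.Etale.Weakly

/-!
# Tor amplitude along weakly étale ring maps
-/

set_option autoImplicit false
set_option backward.isDefEq.respectTransparency false
set_option linter.style.haveILetI false

universe u

open CategoryTheory CategoryTheory.Limits MonoidalCategory
open scoped TensorProduct

attribute [local instance] HasDerivedCategory.standard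

noncomputable section

namespace Groth.Agent.DRingLib

open Groth.Agent.DTenLib

section Separable

variable (A B : Type u) [CommRing A] [CommRing B] [Algebra A B]

/-- The ideal of the diagonal. -/
abbrev diagI : Ideal (B ⊗[A] B) := RingHom.ker (Algebra.TensorProduct.lmul' A (S := B))

theorem exists_one_sub_mul_eq_zero [Algebra.WeaklyEtale A B] {t : B ⊗[A] B} (ht : t ∈ diagI A B) :
    ∃ e ∈ diagI A B, (1 - e) * t = 0 := by
  let μ := Algebra.TensorProduct.lmul' A (S := B)
  have hs : Function.Surjective μ := fun b => ⟨b ⊗ₜ 1, by simp [μ]⟩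
  letI : Algebra (B ⊗[A] B) B := μ.toRingHom.toAlgebra
  haveI : Module.Flat (B ⊗[A] B) B := Algebra.WeaklyEtale.flat_lmul' A B
  have h0 : ∑ _i : Fin 1, t • (1 : B) = 0 := by
    simp only [Finset.univ_unique, Finset.sum_singleton, Algebra.smul_def, mul_one]
    exact ht
  obtain ⟨k, c, y, hx, hc⟩ := Module.Flat.isTrivialRelation_of_sum_smul_eq_zero
    (f := fun _ : Fin 1 => t) (x := fun _ => (1 : B)) h0
  choose z hz using fun j => hs (y j)
  refine ⟨1 - ∑ j, c 0 j * z j, ?_, ?_⟩
  · show μ _ = 0
    rw [map_sub, map_one, map_sum, sub_eq_zero]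
    refine (hx 0).trans (Finset.sum_congr rfl fun j _ => ?_)
    rw [map_mul, hz j]
    rfl
  · rw [sub_sub_cancel, Finset.sum_mul]
    refine Finset.sum_eq_zero fun j _ => ?_
    have h := hc j
    simp only [Finset.univ_unique, Finset.sum_singleton] at h
    rw [show c 0 j * z j * t = (t * c 0 j) * z j by ring]
    rw [show t * c 0 j = 0 from h, zero_mul]

variable {A B} {M M' N : Type u} [AddCommGroup M] [Module A M] [Module B M] [IsScalarTower A B M]
  [AddCommGroup M'] [Module A M'] [Module B M'] [IsScalarTower A B M']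
  [AddCommGroup N] [Module A N] [Module B N] [IsScalarTower A B N]

variable (A B N M) in
/-- The action of `B ⊗ B` on `N ⊗ M`. -/
def pairAct : B ⊗[A] B →ₐ[A] Module.End A (N ⊗[A] M) :=
  Algebra.TensorProduct.lift
    ((Module.End.rTensorAlgHom A N M).comp (Algebra.lsmul A A N))
    ((Module.End.lTensorAlgHom A M N).comp (Algebra.lsmul A A M))
    (fun b c => by
      show _ = _
      ext n m
      rfl)

theorem pairAct_tmul (b c : B) (n : N) (m : M) :
    pairAct A B M N (b ⊗ₜ[A] c) (n ⊗ₜ[A] m) = (b • n) ⊗ₜ[A] (c • m) := by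
  rw [pairAct, Algebra.TensorProduct.lift_tmul]
  rfl

variable (A B N M) in
/-- The canonical map to the tensor product over `B`. -/
def toOver : N ⊗[A] M →ₗ[A] N ⊗[B] M := TensorProduct.lift
  (LinearMap.mk₂ A (fun n m => n ⊗ₜ[B] m) (fun n n' m => TensorProduct.add_tmul n n' m)
    (fun a n m => (TensorProduct.smul_tmul' a n m).symm)
    (fun n m m' => TensorProduct.tmul_add n m m')
    (fun a n m => by rw [TensorProduct.tmul_smul]))

theorem toOver_surjective : Function.Surjective (toOver A B M N) := fun z => by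
  induction z with
  | zero => exact ⟨0, map_zero _⟩
  | tmul n m => exact ⟨n ⊗ₜ m, rfl⟩
  | add x y hx hy =>
    obtain ⟨x', rfl⟩ := hx
    obtain ⟨y', rfl⟩ := hy
    exact ⟨x' + y', map_add _ _ _⟩

theorem toOver_pairAct (t : B ⊗[A] B) (x : N ⊗[A] M) :
    toOver A B M N (pairAct A B M N t x) =
      Algebra.TensorProduct.lmul' A (S := B) t • toOver A B M N x := by
  induction t with
  | zero => simp
  | add s s' hs hs' => simp only [map_add, LinearMap.add_apply, hs, hs', add_smul]
  | tmul b c =>
    induction x with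
    | zero => simp
    | add x y hx hy => simp only [map_add, hx, hy, smul_add]
    | tmul n m =>
      rw [pairAct_tmul, Algebra.TensorProduct.lmul'_apply_tmul]
      show (b • n) ⊗ₜ[B] (c • m) = (b * c) • (n ⊗ₜ[B] m)
      rw [TensorProduct.tmul_smul, TensorProduct.smul_tmul', TensorProduct.smul_tmul', smul_smul,
        mul_comm]

theorem exists_kill_of_toOver_eq_zero [Algebra.WeaklyEtale A B] {x : N ⊗[A] M}
    (hx : toOver A B M N x = 0) : ∃ e ∈ diagI A B, pairAct A B M N (1 - e) x = 0 := by
  let S : Submodule A (N ⊗[A] M) :=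
    { carrier := {x | ∃ e ∈ diagI A B, pairAct A B M N (1 - e) x = 0}
      zero_mem' := ⟨0, Ideal.zero_mem _, map_zero _⟩
      add_mem' := by
        rintro x y ⟨e, he, hx⟩ ⟨e', he', hy⟩
        refine ⟨1 - (1 - e) * (1 - e'), ?_, ?_⟩
        · have : 1 - (1 - e) * (1 - e') = e + e' * (1 - e) := by ring
          rw [this]
          exact Ideal.add_mem _ he (Ideal.mul_mem_right _ _ he')
        · rw [sub_sub_cancel, map_add]
          conv_lhs => arg 1; rw [mul_comm, map_mul]
          conv_lhs => arg 2; rw [map_mul]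
          simp only [Module.End.mul_apply, hx, hy, map_zero, add_zero]
      smul_mem' := by
        rintro a x ⟨e, he, hx⟩
        exact ⟨e, he, by rw [map_smul, hx, smul_zero]⟩ }
  have hb : ∀ (b : B) (n : N) (m : M), (b • n) ⊗ₜ[A] m - n ⊗ₜ[A] (b • m) ∈ S := fun b n m => by
    obtain ⟨e, he, h⟩ := exists_one_sub_mul_eq_zero A B (t := b ⊗ₜ 1 - 1 ⊗ₜ b) (by
      show Algebra.TensorProduct.lmul' A (S := B) _ = 0
      simp [sub_eq_zero])
    refine ⟨e, he, ?_⟩
    have h' : pairAct A B M N (b ⊗ₜ 1 - 1 ⊗ₜ b) (n ⊗ₜ m) = (b • n) ⊗ₜ[A] m - n ⊗ₜ[A] (b • m) := by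
      rw [map_sub, LinearMap.sub_apply, pairAct_tmul, pairAct_tmul, one_smul, one_smul]
    rw [← h', ← Module.End.mul_apply, ← map_mul, h, map_zero, LinearMap.zero_apply]
  let back : N ⊗[B] M →+ (N ⊗[A] M) ⧸ S := TensorProduct.liftAddHom
    (AddMonoidHom.mk' (fun n => AddMonoidHom.mk' (fun m => S.mkQ (n ⊗ₜ[A] m))
      (fun m m' => by rw [TensorProduct.tmul_add, map_add]))
      (fun n n' => AddMonoidHom.ext fun m => by
        show S.mkQ ((n + n') ⊗ₜ[A] m) = S.mkQ (n ⊗ₜ[A] m) + S.mkQ (n' ⊗ₜ[A] m)
        rw [TensorProduct.add_tmul, map_add]))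
    (fun b n m => (Submodule.Quotient.eq S).mpr (hb b n m))
  have key : ∀ y : N ⊗[A] M, back (toOver A B M N y) = S.mkQ y := fun y => by
    induction y with
    | zero => simp
    | add y y' hy hy' => simp only [map_add, hy, hy']
    | tmul n m => rfl
  have := key x
  rw [hx, map_zero] at this
  exact (Submodule.Quotient.mk_eq_zero S).mp this.symm

theorem pairAct_lTensor (f : M →ₗ[B] M') (t : B ⊗[A] B) (x : N ⊗[A] M) :
    (f.restrictScalars A).lTensor N (pairAct A B M N t x) =
      pairAct A B M' N t ((f.restrictScalars A).lTensor N x) := by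
  induction t with
  | zero => simp
  | add s s' hs hs' => simp only [map_add, LinearMap.add_apply, hs, hs']
  | tmul b c =>
    induction x with
    | zero => simp
    | add x y hx hy => simp only [map_add, hx, hy]
    | tmul n m =>
      rw [pairAct_tmul, LinearMap.lTensor_tmul, LinearMap.lTensor_tmul, pairAct_tmul]
      simp

theorem toOver_lTensor (f : M →ₗ[B] M') (x : N ⊗[A] M) :
    toOver A B M' N ((f.restrictScalars A).lTensor N x) = f.lTensor N (toOver A B M N x) := by
  induction x with
  | zero => simp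
  | add x y hx hy => simp only [map_add, hx, hy]
  | tmul n m => rfl

theorem exact_lTensor_of_weaklyEtale [Algebra.WeaklyEtale A B] {M'' : Type u} [AddCommGroup M'']
    [Module A M''] [Module B M''] [IsScalarTower A B M''] (f : M →ₗ[B] M') (g : M' →ₗ[B] M'')
    (hfg : g ∘ₗ f = 0)
    (h : Function.Exact ((f.restrictScalars A).lTensor N) ((g.restrictScalars A).lTensor N)) :
    Function.Exact (f.lTensor N) (g.lTensor N) := by
  intro z
  constructor
  · intro hz
    obtain ⟨x, rfl⟩ := toOver_surjective (A := A) z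
    rw [← toOver_lTensor] at hz
    obtain ⟨e, he, h0⟩ := exists_kill_of_toOver_eq_zero hz
    rw [← pairAct_lTensor] at h0
    obtain ⟨w, hw⟩ := (h _).mp h0
    refine ⟨toOver A B M N w, ?_⟩
    rw [← toOver_lTensor, hw, toOver_pairAct, map_sub, map_one, show _ = (0 : B) from he, sub_zero,
      one_smul]
  · rintro ⟨y, rfl⟩
    rw [← LinearMap.comp_apply, ← LinearMap.lTensor_comp, hfg, LinearMap.lTensor_zero, LinearMap.zero_apply]

end Separable

theorem flat_of_surjective_comp {R S C : Type u} [CommRing R] [CommRing S] [AddCommGroup C]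
    [Algebra R S] [Module R C] [Module S C] [IsScalarTower R S C]
    (hs : Function.Surjective (algebraMap R S)) [Module.Flat R C] : Module.Flat S C := by
  let f : S ⊗[R] C →ₗ[S] C := TensorProduct.AlgebraTensorModule.lift
    ((LinearMap.lsmul S C).flip.restrictScalars R).flip
  have h1 : ∀ z : S ⊗[R] C, z = (1 : S) ⊗ₜ[R] f z := fun z => by
    induction z with
    | zero => simp
    | add x y hx hy =>
      rw [map_add, TensorProduct.tmul_add, ← hx, ← hy]
    | tmul s c =>
      obtain ⟨r, rfl⟩ := hs s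
      show algebraMap R S r ⊗ₜ[R] c = (1 : S) ⊗ₜ[R] (algebraMap R S r • c)
      rw [algebraMap_smul, ← TensorProduct.smul_tmul, Algebra.smul_def, mul_one]
  have hb : Function.Bijective f :=
    ⟨fun x y h => by rw [h1 x, h1 y, h], fun c => ⟨1 ⊗ₜ c, one_smul S c⟩⟩
  exact Module.Flat.of_linearEquiv (LinearEquiv.ofBijective f hb).symm

/-- Weakly étale algebras: cancellation. -/
theorem weaklyEtale_of_restrictScalars (A B C : Type u) [CommRing A] [CommRing B] [CommRing C]
    [Algebra A B] [Algebra A C] [Algebra B C] [IsScalarTower A B C] [Algebra.WeaklyEtale A B]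
    [Algebra.WeaklyEtale A C] : Algebra.WeaklyEtale B C := by
  haveI hfl : Module.Flat B C := Module.Flat.iff_lTensor_exact.mpr fun {N₁ N₂ N₃} _ _ _ _ _ _ f g h => by
    letI : Module A N₁ := Module.compHom _ (algebraMap A B)
    letI : Module A N₂ := Module.compHom _ (algebraMap A B)
    letI : Module A N₃ := Module.compHom _ (algebraMap A B)
    haveI : IsScalarTower A B N₁ := .of_algebraMap_smul fun _ _ => rfl
    haveI : IsScalarTower A B N₂ := .of_algebraMap_smul fun _ _ => rfl
    haveI : IsScalarTower A B N₃ := .of_algebraMap_smul fun _ _ => rfl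
    exact exact_lTensor_of_weaklyEtale f g h.linearMap_comp_eq_zero
      (Module.Flat.lTensor_exact C (f := f.restrictScalars A) (g := g.restrictScalars A) h)
  refine ⟨hfl, ?_⟩
  let q := Algebra.TensorProduct.mapOfCompatibleSMul B A A C C
  let μB := Algebra.TensorProduct.lmul' B (S := C)
  letI alg : Algebra (C ⊗[A] C) (C ⊗[B] C) := q.toRingHom.toAlgebra
  letI : Algebra (C ⊗[B] C) C := μB.toRingHom.toAlgebra
  letI : Algebra (C ⊗[A] C) C := (Algebra.TensorProduct.lmul' A (S := C)).toRingHom.toAlgebra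
  haveI : @IsScalarTower (C ⊗[A] C) (C ⊗[B] C) C alg.toSMul _ _ := .of_algebraMap_eq fun t => by
    show Algebra.TensorProduct.lmul' A (S := C) t = μB (q t)
    induction t with
    | zero => simp
    | add x y hx hy => simp only [map_add, hx, hy]
    | tmul c c' => simp [μB, q]
  haveI : Module.Flat (C ⊗[A] C) C := Algebra.WeaklyEtale.flat_lmul' A C
  show Module.Flat (C ⊗[B] C) C
  refine flat_of_surjective_comp (R := C ⊗[A] C) (fun z => ?_)
  show ∃ a, q a = z
  induction z with
    | zero => exact ⟨0, map_zero _⟩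
    | tmul c c' => exact ⟨c ⊗ₜ c', rfl⟩
    | add x y hx hy =>
      obtain ⟨x', rfl⟩ := hx
      obtain ⟨y', rfl⟩ := hy
      exact ⟨x' + y', map_add _ _ _⟩

variable {A B : Type u} [CommRing A] [CommRing B] (φ : A →+* B)

theorem isKFlat_resCx (hφ : Module.Flat A (baseMod φ)) {P : DRing.Cx B} (hP : DRing.IsKFlat B P) :
    DRing.IsKFlat A ((DTen.resCx φ).obj P) := by
  intro M hM i
  have hext : ∀ j, IsZero (((DTen.extCx φ).obj M).homology j) := fun j => by
    rw [← HomologicalComplex.exactAt_iff_isZero_homology, HomologicalComplex.exactAt_iff]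
    refine (ShortComplex.exact_map_iff_of_faithful _ (ModuleCat.restrictScalars.{u} φ)).1 ?_
    haveI := preservesHomology_tensorLeft_of_flat (baseMod φ) hφ
    refine (ShortComplex.exact_iff_of_iso ((M.sc j).mapNatIso (extResIso φ))).2 ?_
    exact ((M.exactAt_iff j).1 ((HomologicalComplex.exactAt_iff_isZero_homology _ _).2 (hM j))).map
      (tensorLeft (baseMod φ))
  have h1 : IsZero ((P ⊗ (DTen.extCx φ).obj M : DRing.Cx B).homology i) :=
    (hP _ hext i).of_iso ((HomologicalComplex.homologyFunctor _ _ i).mapIso (DTen.braidCx P _))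
  have h2 : IsZero (((DTen.resCx φ).obj (P ⊗ (DTen.extCx φ).obj M)).homology i) :=
    ((ModuleCat.restrictScalars.{u} φ).map_isZero h1).of_iso
      (ShortComplex.mapHomologyIso ((P ⊗ (DTen.extCx φ).obj M : DRing.Cx B).sc i) (ModuleCat.restrictScalars.{u} φ))
  exact (h2.of_iso ((HomologicalComplex.homologyFunctor _ _ i).mapIso (KFlat.mapTotIso (cancelBiIso φ) P M).symm)).of_iso
    ((HomologicalComplex.homologyFunctor _ _ i).mapIso (DTen.braidCx M ((DTen.resCx φ).obj P)))

theorem amp_restrict_of_flat (hφ : φ.Flat) {K : Dual.D B} {a b : ℤ}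
    (h : DRing.HasTorAmplitudeIn B a b K) : DRing.HasTorAmplitudeIn A a b ((DRing.restrictD φ).obj K) := by
  obtain ⟨E, hE, hflat, ⟨e⟩⟩ := h
  letI := φ.toAlgebra
  haveI : Module.Flat A B := hφ
  refine ⟨(DTen.resCx φ).obj E, fun i hi => (ModuleCat.restrictScalars.{u} φ).map_isZero (hE i hi),
    fun i => ?_, ⟨((DTen.resFactors φ).app E).symm ≪≫ (DRing.restrictD φ).mapIso e⟩⟩
  letI : Module A (E.X i) := Module.compHom _ φ
  haveI : IsScalarTower A B (E.X i) := .of_algebraMap_smul fun _ _ => rfl
  haveI := hflat i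
  exact (Module.Flat.trans A B (E.X i) :)

theorem amp_of_restrict_weaklyEtale [Algebra A B] [Algebra.WeaklyEtale A B] {K : Dual.D B} {a b : ℤ}
    (h : DRing.HasTorAmplitudeIn A a b ((DRing.restrictD (algebraMap A B)).obj K)) :
    DRing.HasTorAmplitudeIn B a b K := by
  let φ := algebraMap A B
  obtain ⟨P, hP, -, ⟨e⟩⟩ := exists_kflat_representative K
  refine amp_of_iso e (amp_of_tensVanish hP fun N i hi => ?_)
  have hR := tensVanish_of_amplitude (isKFlat_resCx φ (flat_baseMod A B) hP)
    (amp_of_iso (((DRing.restrictD φ).mapIso e).symm ≪≫ (DTen.resFactors φ).app P) h)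
    ((ModuleCat.restrictScalars.{u} φ).obj N) i hi
  rw [HomologicalComplex.exactAt_iff' _ (i - 1) i (i + 1) (by simp) (by simp)] at hR ⊢
  rw [ShortComplex.ShortExact.moduleCat_exact_iff_function_exact] at hR ⊢
  letI : Module A N := Module.compHom _ φ
  haveI : IsScalarTower A B N := .of_algebraMap_smul fun _ _ => rfl
  letI : ∀ j, Module A (P.X j) := fun j => Module.compHom _ φ
  haveI : ∀ j, IsScalarTower A B (P.X j) := fun j => .of_algebraMap_smul fun _ _ => rfl
  exact exact_lTensor_of_weaklyEtale (P.d (i - 1) i).hom (P.d i (i + 1)).hom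
    (by rw [← ModuleCat.hom_comp, P.d_comp_d]; rfl) hR

theorem amp_iff_of_weaklyEtale [Algebra A B] [Algebra.WeaklyEtale A B] (K : Dual.D B) (a b : ℤ) :
    DRing.HasTorAmplitudeIn A a b ((DRing.restrictD (algebraMap A B)).obj K) ↔
      DRing.HasTorAmplitudeIn B a b K :=
  ⟨amp_of_restrict_weaklyEtale, amp_restrict_of_flat _ ((RingHom.flat_algebraMap_iff).mpr inferInstance)⟩

end Groth.Agent.DRingLib
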