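import Groth.Agent.DRingLib.TensorAmp
import Groth.Agent.WEField.TorDim

/-!
# Tor dimension of modules and tor amplitude
-/

set_option autoImplicit false
set_option linter.style.haveILetI false
set_option backward.isDefEq.respectTransparency false

universe u

open CategoryTheory Limits Pretriangulated
attribute [local instance] HasDerivedCategory.standard

noncomputable section

namespace Groth.Agent.DRingLib

open Groth.Agent.DCohLib Groth.Agent.WEField

variable {A : Type u} [CommRing A]

theorem amp_inD_of_flat (M : ModuleCat.{u} A) (hM : Module.Flat A M) :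
    DRing.HasTorAmplitudeIn A 0 0 (Dual.inD A M) := by
  refine ⟨(HomologicalComplex.single (ModuleCat.{u} A) (ComplexShape.up ℤ) 0).obj M,
    fun i hi => HomologicalComplex.isZero_single_obj_X _ _ _ _ (by omega), fun i => ?_, ⟨singleQZeroIso M⟩⟩
  by_cases hi : i = 0
  · subst hi
    exact Module.Flat.of_linearEquiv (HomologicalComplex.singleObjXSelf (ComplexShape.up ℤ) 0 M).toLinearEquiv
  · haveI := ModuleCat.subsingleton_of_isZero
      (HomologicalComplex.isZero_single_obj_X (ComplexShape.up ℤ) 0 M i hi)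
    exact inferInstance

theorem flat_of_amp_inD (M : ModuleCat.{u} A) (h : DRing.HasTorAmplitudeIn A 0 0 (Dual.inD A M)) :
    Module.Flat A M := by
  obtain ⟨E, hE, hflat, ⟨e⟩⟩ := h
  haveI := hflat 0
  let e₁ : E.homology 0 ≅ M := ((DerivedCategory.homologyFunctorFactors _ 0).app E).symm ≪≫
    (DerivedCategory.homologyFunctor (ModuleCat.{u} A) 0).mapIso e ≪≫
    (nonempty_HD_inD M).some.toModuleIso
  haveI := E.isIso_iCycles 0 1 (by simp) ((hE 1 (by omega)).eq_of_tgt _ _)
  haveI := E.isIso_homologyπ (-1) 0 (by simp) ((hE (-1) (by omega)).eq_of_src _ _)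
  exact Module.Flat.of_linearEquiv (e₁.symm ≪≫ (asIso (E.homologyπ 0)).symm ≪≫ asIso (E.iCycles 0)).toLinearEquiv

theorem hasTorDimLE_iff_amp : ∀ (d : ℕ) (M : Type u) [AddCommGroup M] [Module A M],
    DRing.HasTorDimLE A d M ↔ DRing.HasTorAmplitudeIn A (-(d : ℤ)) 0 (Dual.inD A M) := by
  intro d
  induction d with
  | zero =>
    intro M _ _
    constructor
    · intro h
      obtain ⟨K, F, _, _, _, _, _, f, g, hf, hg, hex⟩ := exists_free_presentation (A := A) M
      simpa using amp_inD_of_flat (ModuleCat.of A M) (flat_of_torOne K F M f g hf hg hex h)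
    · intro h P _ _ p hp
      haveI : Module.Flat A M := flat_of_amp_inD (ModuleCat.of A M) (by simpa using h)
      obtain ⟨q, rfl⟩ := Nat.exists_eq_succ_of_ne_zero hp.ne'
      exact TorLib.subsingleton_tor_of_flat M P q
  | succ d ih =>
    intro M _ _
    let g := Finsupp.linearCombination A (id : M → M)
    have hg : Function.Surjective g := fun x => ⟨Finsupp.single x 1, by simp [g]⟩
    obtain ⟨T, hT, h₁, h₂, h₃⟩ := exists_triangle_of_surjective g hg
    have hF : DRing.HasTorAmplitudeIn A 0 0 (Dual.inD A (M →₀ A)) :=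
      amp_inD_of_flat (ModuleCat.of A (M →₀ A)) (inferInstanceAs (Module.Flat A (M →₀ A)))
    have hdn : DRing.HasTorDimLE A (d + 1) M ↔ DRing.HasTorDimLE A d (LinearMap.ker g) :=
      ⟨torDim_shift_down _ _ M (LinearMap.ker g).subtype g Subtype.val_injective hg
        (LinearMap.exact_subtype_ker_map _) d,
      torDim_shift_up _ _ M (LinearMap.ker g).subtype g Subtype.val_injective hg
        (LinearMap.exact_subtype_ker_map _) d⟩
    rw [hdn, ih (LinearMap.ker g), ← h₁, ← h₃]
    rw [← h₂] at hF
    constructor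
    · intro h
      exact amp_obj₃ T hT (hasTorAmplitudeIn_mono (by push_cast; omega) (by omega) h)
        (hasTorAmplitudeIn_mono (by omega) le_rfl hF)
    · intro h
      refine hasTorAmplitudeIn_of_aboveZero (b := 0 + 1) (by omega) ?_ ?_
      · have h' := amp_obj₁ (a := -((d + 1 : ℕ) : ℤ)) (b := 0) T hT
          (hasTorAmplitudeIn_mono (by omega) (by omega) hF) h
        exact hasTorAmplitudeIn_mono (by push_cast; omega) le_rfl h'
      · rw [h₁]
        simpa using aboveZero_inD (ModuleCat.of A (LinearMap.ker g))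

theorem hasTorDimLE_zero_iff (M : Type u) [AddCommGroup M] [Module A M] :
    DRing.HasTorDimLE A 0 M ↔ Module.Flat A M := by
  rw [hasTorDimLE_iff_amp]
  exact ⟨fun h => flat_of_amp_inD (ModuleCat.of A M) (by simpa using h),
    fun h => by simpa using amp_inD_of_flat (ModuleCat.of A M) h⟩

theorem hasFiniteTorDimCx_iff_bounded
    (hA : ∀ (M : Type u) [AddCommGroup M] [Module A M], DRing.HasFiniteTorDim A M) (K : Dual.D A) :
    DRing.HasFiniteTorDimCx A K ↔
      ∃ a b : ℤ, ∀ i : ℤ, i < a ∨ b < i → Subsingleton (Dual.HD A K i) := by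
  constructor
  · rintro ⟨a, b, E, hE, -, ⟨e⟩⟩
    exact ⟨a, b, fun i hi => ModuleCat.subsingleton_of_isZero
      ((((exactAt_iff_isZero_homologyFunctor E i).1 (ShortComplex.exact_of_isZero_X₂ _ (hE i hi))).of_iso
        ((DerivedCategory.homologyFunctor (ModuleCat.{u} A) i).mapIso e).symm))⟩
  · rintro ⟨a, b, h⟩
    choose d hd using fun i : ℤ => hA (Dual.HD A K i)
    let D := (Finset.Icc a b).sup d
    refine ⟨a - D, b, amp_of_bounded_homology h fun i => ?_⟩
    by_cases hi : i < a ∨ b < i
    · haveI := h i hi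
      exact amp_of_isZero (Functor.map_isZero _ (ModuleCat.isZero_of_subsingleton _)) _ _
    · have hle : d i ≤ D := Finset.le_sup (Finset.mem_Icc.2 ⟨by omega, by omega⟩)
      exact hasTorAmplitudeIn_mono (by omega) (by omega) ((hasTorDimLE_iff_amp _ _).1 (hd i))

end Groth.Agent.DRingLib
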