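import Groth.Agent.DRingLib.Perfect
import Groth.Agent.DTenLib.Base

/-!
# Tor amplitude of complexes of flat modules
-/

set_option autoImplicit false
set_option linter.style.haveILetI false

universe u

open CategoryTheory Limits MonoidalCategory TensorProduct
attribute [local instance] HasDerivedCategory.standard

noncomputable section

namespace Groth.Agent.DRingLib

open Groth.Agent.DTenLib

variable {A : Type u} [CommRing A]

theorem flat_quotient_range_of_exact {P₂ P₁ P₀ : Type u} [AddCommGroup P₂] [Module A P₂] [AddCommGroup P₁]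
    [Module A P₁] [AddCommGroup P₀] [Module A P₀] [Module.Flat A P₀] (f : P₂ →ₗ[A] P₁) (g : P₁ →ₗ[A] P₀)
    (h : ∀ (N : Type u) [AddCommGroup N] [Module A N], Function.Exact (f.lTensor N) (g.lTensor N)) :
    Module.Flat A (P₀ ⧸ LinearMap.range g) := by
  refine Module.Flat.iff_rTensor_preserves_injective_linearMap.mpr fun N N' _ _ _ _ φ hφ => ?_
  refine (injective_iff_map_eq_zero _).2 fun x hx => ?_
  let π := (LinearMap.range g).mkQ
  have hex : Function.Exact g π := LinearMap.exact_map_mkQ_range g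
  have hπ : Function.Surjective π := Submodule.mkQ_surjective _
  have hc : ∀ {Y Y' : Type u} [AddCommGroup Y] [Module A Y] [AddCommGroup Y'] [Module A Y']
      {X X' : Type u} [AddCommGroup X] [Module A X] [AddCommGroup X'] [Module A X']
      (a : X →ₗ[A] X') (b : Y →ₗ[A] Y') (t : X ⊗[A] Y),
      b.lTensor X' (a.rTensor Y t) = a.rTensor Y' (b.lTensor X t) := by
    intro Y Y' _ _ _ _ X X' _ _ _ _ a b t
    rw [← LinearMap.comp_apply, ← LinearMap.comp_apply, LinearMap.lTensor_comp_rTensor,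
      LinearMap.rTensor_comp_lTensor]
  obtain ⟨y, rfl⟩ := LinearMap.lTensor_surjective N hπ x
  rw [← hc] at hx
  obtain ⟨z', hz'⟩ := (lTensor_exact N' hex hπ _).1 hx
  let Q := N' ⧸ LinearMap.range φ
  let q : N' →ₗ[A] Q := (LinearMap.range φ).mkQ
  have hq : Function.Surjective q := Submodule.mkQ_surjective _
  have hexφ : Function.Exact φ q := LinearMap.exact_map_mkQ_range φ
  have h1 : g.lTensor Q (q.rTensor P₁ z') = 0 := by
    rw [hc, hz', ← LinearMap.rTensor_comp_apply, hexφ.linearMap_comp_eq_zero, LinearMap.rTensor_zero,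
      LinearMap.zero_apply]
  obtain ⟨w, hw⟩ := (h Q _).1 h1
  obtain ⟨w', rfl⟩ := LinearMap.rTensor_surjective P₂ hq w
  rw [hc] at hw
  have h2 : q.rTensor P₁ (z' - f.lTensor N' w') = 0 := by rw [map_sub, hw, sub_self]
  obtain ⟨z, hz⟩ := (rTensor_exact P₁ hexφ hq _).1 h2
  have h3 : g.lTensor N z = y := by
    apply Module.Flat.rTensor_preserves_injective_linearMap (M := P₀) φ hφ
    have hgf : ∀ t, g.lTensor N' (f.lTensor N' t) = 0 := fun t => ((h N') _).2 ⟨t, rfl⟩
    rw [← hc, hz, map_sub, hgf, sub_zero, hz']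
  rw [← h3, ← LinearMap.lTensor_comp_apply, hex.linearMap_comp_eq_zero, LinearMap.lTensor_zero,
    LinearMap.zero_apply]

theorem isKFlat_of_vanishesAbove {K : DRing.Cx A} {b : ℤ} (hb : DRing.VanishesAbove K b)
    (hK : DRing.TermwiseFlat K) : DRing.IsKFlat A K :=
  (DTenLib.isKFlat_iff K).2
    (KFlat.isKFlatFor_of_bddAbove _ K b hb fun n => KFlat.goodObj_of_flat A (hK n))

theorem hasLTen (A : Type u) [CommRing A] : DTen.HasLTen A :=
  (adapted₂ A).hasLeftDerivedFunctor (DTen.QQ A)

/-- Tensoring with a module termwise computes the derived tensor product on K-flat complexes. -/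
theorem nonempty_tensorLeft_iso [DTen.HasLTen A] (M : ModuleCat.{u} A) {K : DRing.Cx A} (hK : DRing.IsKFlat A K) :
    Nonempty (DRing.toD (((tensorLeft M).mapHomologicalComplex (ComplexShape.up ℤ)).obj K) ≅
      (DTen.LTen₂ A).obj (DRing.toD ((HomologicalComplex.single (ModuleCat.{u} A) (ComplexShape.up ℤ) 0).obj M),
        DRing.toD K)) := by
  let S := (HomologicalComplex.single (ModuleCat.{u} A) (ComplexShape.up ℤ) 0).obj M
  let e := singleTotRIso M ≪≫ (KFlat.totRIso (curriedTensor (ModuleCat.{u} A)).flip S).symm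
  haveI := isIso_ε_right S K hK
  exact ⟨DerivedCategory.Q.mapIso (e.app K) ≪≫ (asIso ((DTen.ε A).app (S, K))).symm⟩

theorem exactAt_tensorLeft_of_amplitude (M : ModuleCat.{u} A) {K : DRing.Cx A} {b : ℤ}
    (hb : DRing.VanishesAbove K b) (hflat : DRing.TermwiseFlat K) {a c : ℤ}
    (hamp : DRing.HasTorAmplitudeIn A a c (DRing.toD K)) (i : ℤ) (hi : i < a ∨ c < i) :
    (((tensorLeft M).mapHomologicalComplex (ComplexShape.up ℤ)).obj K).ExactAt i := by
  obtain ⟨E, hE, hEflat, ⟨e⟩⟩ := hamp
  haveI := hasLTen A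
  obtain ⟨e₁⟩ := nonempty_tensorLeft_iso M (isKFlat_of_vanishesAbove hb hflat)
  obtain ⟨e₂⟩ := nonempty_tensorLeft_iso M (K := E)
    (isKFlat_of_vanishesAbove (b := c) (fun j hj => hE j (Or.inr hj)) hEflat)
  rw [HomologicalComplex.exactAt_iff_isZero_homology]
  have hz : IsZero ((((tensorLeft M).mapHomologicalComplex (ComplexShape.up ℤ)).obj E).homology i) :=
    (HomologicalComplex.exactAt_iff_isZero_homology _ _).1
      (ShortComplex.exact_of_isZero_X₂ _ ((tensorLeft M).map_isZero (hE i hi)))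
  let ε := e₁ ≪≫ (DTen.LTen₂ A).mapIso (Iso.prod (Iso.refl _) e.symm) ≪≫ e₂.symm
  exact hz.of_iso (((DerivedCategory.homologyFunctorFactors _ i).app _).symm ≪≫
    (DerivedCategory.homologyFunctor (ModuleCat.{u} A) i).mapIso ε ≪≫
    (DerivedCategory.homologyFunctorFactors _ i).app _)

theorem flat_cokernel {K : DRing.Cx A} {b : ℤ}
    (hb : DRing.VanishesAbove K b) (hflat : DRing.TermwiseFlat K) {a c : ℤ}
    (hamp : DRing.HasTorAmplitudeIn A a c (DRing.toD K)) :
    Module.Flat A (K.X a ⧸ LinearMap.range (K.d (a - 1) a).hom) := by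
  haveI := hflat a
  refine flat_quotient_range_of_exact (K.d (a - 1 - 1) (a - 1)).hom (K.d (a - 1) a).hom fun N _ _ => ?_
  have h := exactAt_tensorLeft_of_amplitude (ModuleCat.of A N) hb hflat hamp (a - 1) (Or.inl (by omega))
  rw [HomologicalComplex.exactAt_iff' _ (a - 1 - 1) (a - 1) a (by simp) (by simp),
    ShortComplex.ShortExact.moduleCat_exact_iff_function_exact] at h
  exact h

theorem opcycles_equiv (K : DRing.Cx A) (i : ℤ) :
    Nonempty ((K.X i ⧸ LinearMap.range (K.d (i - 1) i).hom) ≃ₗ[A] K.opcycles i) := by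
  have h1 : K.d (i - 1) i ≫ ModuleCat.ofHom (LinearMap.range (K.d (i - 1) i).hom).mkQ = 0 :=
    ModuleCat.hom_ext (LinearMap.exact_map_mkQ_range _).linearMap_comp_eq_zero
  exact ⟨(LinearEquiv.ofBijective (Submodule.liftQ _ (K.pOpcycles i).hom (by
      rintro _ ⟨x, rfl⟩
      exact congrArg (fun g => g.hom x) (K.d_pOpcycles (i - 1) i))) ⟨by
    refine (injective_iff_map_eq_zero _).2 fun x hx => ?_
    obtain ⟨y, rfl⟩ := Submodule.mkQ_surjective _ x
    have h2 : (K.pOpcycles i).hom y = 0 := hx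
    have h3 := congrArg (fun g => g.hom y)
      (K.p_descOpcycles (ModuleCat.ofHom (LinearMap.range (K.d (i - 1) i).hom).mkQ) (i - 1) (by simp) h1)
    simp only [ModuleCat.hom_comp, LinearMap.comp_apply, h2, map_zero] at h3
    exact h3.symm, fun z => by
    obtain ⟨y, hy⟩ := (ModuleCat.epi_iff_surjective (K.pOpcycles i)).1 inferInstance z
    exact ⟨Submodule.mkQ _ y, hy⟩⟩)⟩

end Groth.Agent.DRingLib
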