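import Groth.Agent.DRingLib.Descent
import Groth.Agent.ProDerLib.Amplitude
import Groth.Agent.DComplLib.Completion
import Groth.Agent.DComplLib.ModThms
import Groth.Agent.DComplLib.FiniteCompl

/-!
# The derived Nakayama lemma for complete complexes
-/

set_option autoImplicit false
set_option linter.style.haveILetI false
set_option backward.isDefEq.respectTransparency false

universe u

open CategoryTheory Limits MonoidalCategory Pretriangulated
attribute [local instance] HasDerivedCategory.standard

noncomputable section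

namespace Groth.Agent.DRingLib

open Groth.Agent.DCohLib Groth.Agent.DTenLib Groth.Agent.DComplLib

variable {A : Type u} [CommRing A]

/-- Tensoring with any module killed by the given elements is exact above the given degree. -/
def KilledAbove (D : DRing.Cx A) (S : Set A) (b : ℤ) : Prop :=
  ∀ (M : Type u) [AddCommGroup M] [Module A M], (∀ r ∈ S, ∀ m : M, r • m = 0) →
    ∀ i : ℤ, b < i → ((tensM (ModuleCat.of A M)).obj D).ExactAt i

theorem exactAt_cone_of {K L : DRing.Cx A} (φ : K ⟶ L) (i : ℤ) (he : Epi (HomologicalComplex.homologyMap φ i))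
    (hm : Mono (HomologicalComplex.homologyMap φ (i + 1))) : (CochainComplex.mappingCone φ).ExactAt i := by
  let T := DerivedCategory.Q.mapTriangle.obj (CochainComplex.mappingCone.triangle φ)
  have hT : T ∈ distTriang _ := DerivedCategory.mappingCone_triangle_distinguished φ
  have key : ∀ n, (DerivedCategory.homologyFunctor (ModuleCat.{u} A) n).map T.mor₁ =
      (hQIso K n).hom ≫ HomologicalComplex.homologyMap φ n ≫ (hQIso L n).inv := fun n => by
    rw [← reassoc_of% (hQIso_natural φ n), Iso.hom_inv_id, Category.comp_id]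
    rfl
  haveI : Epi ((DerivedCategory.homologyFunctor (ModuleCat.{u} A) i).map T.mor₁) := by
    rw [key]; infer_instance
  haveI : Mono ((DerivedCategory.homologyFunctor (ModuleCat.{u} A) (i + 1)).map T.mor₁) := by
    rw [key]; infer_instance
  rw [exactAt_iff_isZero_homologyFunctor]
  exact (DerivedCategory.HomologySequence.exact₃ T hT i (i + 1) rfl).isZero_of_both_zeros
    ((DerivedCategory.HomologySequence.epi_homologyMap_mor₁_iff T hT i).1 inferInstance)
    ((DerivedCategory.HomologySequence.mono_homologyMap_mor₁_iff T hT i (i + 1) rfl).1 inferInstance)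

theorem epi_of_exactAt_cone {K L : DRing.Cx A} (φ : K ⟶ L) (i : ℤ) (h : (CochainComplex.mappingCone φ).ExactAt i) :
    Epi (HomologicalComplex.homologyMap φ i) := by
  let T := DerivedCategory.Q.mapTriangle.obj (CochainComplex.mappingCone.triangle φ)
  have hT : T ∈ distTriang _ := DerivedCategory.mappingCone_triangle_distinguished φ
  haveI := (DerivedCategory.HomologySequence.epi_homologyMap_mor₁_iff T hT i).2
    (((exactAt_iff_isZero_homologyFunctor _ i).1 h).eq_of_tgt _ _)
  have key : HomologicalComplex.homologyMap φ i =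
      (hQIso K i).inv ≫ (DerivedCategory.homologyFunctor (ModuleCat.{u} A) i).map T.mor₁ ≫ (hQIso L i).hom := by
    rw [show T.mor₁ = DerivedCategory.Q.map φ from rfl, hQIso_natural, Iso.inv_hom_id_assoc]
  rw [key]
  infer_instance

theorem termwiseFlat_cone {K L : DRing.Cx A} (φ : K ⟶ L) (hK : DRing.TermwiseFlat K) (hL : DRing.TermwiseFlat L) :
    DRing.TermwiseFlat (CochainComplex.mappingCone φ) := fun n =>
  (KFlat.flatClass A).iso (HomologicalComplex.homotopyCofiber.XIsoBiprod φ n (n + 1) rfl).symm
    ((KFlat.flatClass A).biprod (hK (n + 1)) (hL n))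

/-- The action of `f` on a complex tensored with a module killed by `S`, in high degrees, if the complex
tensored with modules killed by `S` and `f` is exact there. -/
theorem epi_mono_tensM_smul {D : DRing.Cx A} (hD : DRing.TermwiseFlat D) {f : A} {S : Set A} {b : ℤ}
    (h : KilledAbove D (insert f S) b) (M : Type u) [AddCommGroup M] [Module A M]
    (hM : ∀ r ∈ S, ∀ m : M, r • m = 0) (i : ℤ) (hi : b < i) :
    Epi (HomologicalComplex.homologyMap ((tensM (ModuleCat.of A M)).map (f • 𝟙 D)) i) ∧
      Mono (HomologicalComplex.homologyMap ((tensM (ModuleCat.of A M)).map (f • 𝟙 D)) (i + 1)) := by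
  let μ : M →ₗ[A] M := f • LinearMap.id
  let tα : ∀ {X Y : ModuleCat.{u} A}, (X ⟶ Y) → ((tensM X).obj D ⟶ (tensM Y).obj D) := fun u =>
    (NatTrans.mapHomologicalComplex ((tensoringLeft (ModuleCat.{u} A)).map u) (ComplexShape.up ℤ)).app D
  have mkShort : ∀ {X Y Z : ModuleCat.{u} A} (a : X ⟶ Y) (b : Y ⟶ Z) (hab : a ≫ b = 0),
      (ShortComplex.mk a b hab).ShortExact →
      ∃ hab' : tα a ≫ tα b = 0, (ShortComplex.mk (tα a) (tα b) hab').ShortExact := by
    intro X Y Z a b hab hS
    have hz : tα a ≫ tα b = 0 := by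
      ext n : 1
      show a ▷ D.X n ≫ b ▷ D.X n = 0
      rw [← MonoidalCategory.comp_whiskerRight, hab, MonoidalPreadditive.zero_whiskerRight]
    refine ⟨hz, HomologicalComplex.shortExact_of_degreewise_shortExact _ fun n => ?_⟩
    haveI := hD n
    exact ShortComplex.ShortExact.mk'
      ((ShortComplex.ShortExact.moduleCat_exact_iff_function_exact _).2
        (Module.Flat.rTensor_exact (D.X n)
          ((ShortComplex.ShortExact.moduleCat_exact_iff_function_exact _).1 hS.exact)))
      ((ModuleCat.mono_iff_injective _).2 (Module.Flat.rTensor_preserves_injective_linearMap a.hom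
        ((ModuleCat.mono_iff_injective a).1 hS.mono_f)))
      ((ModuleCat.epi_iff_surjective _).2 (LinearMap.rTensor_surjective (D.X n)
        ((ModuleCat.epi_iff_surjective b).1 hS.epi_g)))
  let K₀ := LinearMap.ker μ
  let R₀ := LinearMap.range μ
  have hK₀ : ∀ r ∈ insert f S, ∀ m : K₀, r • m = 0 := fun r hr m => by
    refine Subtype.ext ?_
    rcases hr with rfl | hr
    · exact (LinearMap.mem_ker.1 m.2 : μ (m : M) = 0)
    · exact hM r hr _
  have hQ₀ : ∀ r ∈ insert f S, ∀ m : M ⧸ R₀, r • m = 0 := fun r hr m => by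
    obtain ⟨x, rfl⟩ := Submodule.mkQ_surjective _ m
    rw [← map_smul]
    refine (Submodule.Quotient.mk_eq_zero _).2 ?_
    rcases hr with rfl | hr
    · exact ⟨x, rfl⟩
    · rw [hM r hr]
      exact zero_mem _
  have hS₁ : (ShortComplex.mk (ModuleCat.ofHom K₀.subtype) (ModuleCat.ofHom μ.rangeRestrict)
      (ModuleCat.hom_ext (LinearMap.ext fun x => Subtype.ext (LinearMap.mem_ker.1 x.2)))).ShortExact :=
    ShortComplex.ShortExact.mk'
      ((ShortComplex.ShortExact.moduleCat_exact_iff_function_exact _).2
        (LinearMap.exact_iff.2 (by simp [K₀])))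
      ((ModuleCat.mono_iff_injective _).2 Subtype.val_injective)
      ((ModuleCat.epi_iff_surjective _).2 μ.surjective_rangeRestrict)
  have hS₂ : (ShortComplex.mk (ModuleCat.ofHom R₀.subtype) (ModuleCat.ofHom R₀.mkQ)
      (ModuleCat.hom_ext (LinearMap.ext fun x => (Submodule.Quotient.mk_eq_zero _).2 x.2))).ShortExact :=
    ShortComplex.ShortExact.mk'
      ((ShortComplex.ShortExact.moduleCat_exact_iff_function_exact _).2 (LinearMap.exact_subtype_mkQ R₀))
      ((ModuleCat.mono_iff_injective _).2 Subtype.val_injective)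
      ((ModuleCat.epi_iff_surjective _).2 R₀.mkQ_surjective)
  obtain ⟨_, hT₁⟩ := mkShort _ _ _ hS₁
  obtain ⟨_, hT₂⟩ := mkShort _ _ _ hS₂
  haveI : Epi (HomologicalComplex.homologyMap (tα (ModuleCat.ofHom μ.rangeRestrict)) i) :=
    (hT₁.homology_exact₃ i (i + 1) (by simp)).epi_f ((h _ hK₀ (i + 1) (by omega)).isZero_homology.eq_of_tgt _ _)
  haveI : Mono (HomologicalComplex.homologyMap (tα (ModuleCat.ofHom μ.rangeRestrict)) (i + 1)) :=
    (hT₁.homology_exact₂ (i + 1)).mono_g ((h _ hK₀ (i + 1) (by omega)).isZero_homology.eq_of_src _ _)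
  haveI : Epi (HomologicalComplex.homologyMap (tα (ModuleCat.ofHom R₀.subtype)) i) :=
    (hT₂.homology_exact₂ i).epi_f ((h _ hQ₀ i hi).isZero_homology.eq_of_tgt _ _)
  haveI : Mono (HomologicalComplex.homologyMap (tα (ModuleCat.ofHom R₀.subtype)) (i + 1)) :=
    (hT₂.homology_exact₁ i (i + 1) (by simp)).mono_g ((h _ hQ₀ i hi).isZero_homology.eq_of_src _ _)
  have hcomp : (tensM (ModuleCat.of A M)).map (f • 𝟙 D) =
      tα (ModuleCat.ofHom μ.rangeRestrict) ≫ tα (ModuleCat.ofHom R₀.subtype) := by
    ext n : 1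
    refine ModuleCat.hom_ext (TensorProduct.ext' fun m x => ?_)
    show m ⊗ₜ[A] (f • x) = (f • m) ⊗ₜ[A] x
    rw [TensorProduct.tmul_smul, TensorProduct.smul_tmul']
  rw [hcomp, HomologicalComplex.homologyMap_comp, HomologicalComplex.homologyMap_comp]
  exact ⟨inferInstance, inferInstance⟩

theorem killedAbove_cone {D : DRing.Cx A} (hD : DRing.TermwiseFlat D) {f : A} {S : Set A} {b : ℤ}
    (h : KilledAbove D (insert f S) b) : KilledAbove (CochainComplex.mappingCone (f • 𝟙 D)) S b := by
  intro M _ _ hM i hi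
  obtain ⟨he, hm⟩ := epi_mono_tensM_smul hD h M hM i hi
  exact (exactAt_cone_of ((tensM (ModuleCat.of A M)).map (f • 𝟙 D)) i he hm).of_iso
    (CochainComplex.mappingCone.mapHomologicalComplexIso (f • 𝟙 D) (tensorLeft (ModuleCat.of A M))).symm

theorem mem_dcIdealD_cone {f r : A} {D : DRing.Cx A} (h : r ∈ dcIdealD (DRing.toD D)) :
    r ∈ dcIdealD (DRing.toD (CochainComplex.mappingCone (f • 𝟙 D))) :=
  mem_dcIdealD_obj₃ (A := A) (DerivedCategory.Q.mapTriangle.obj (CochainComplex.mappingCone.triangle (f • 𝟙 D)))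
    (DerivedCategory.mappingCone_triangle_distinguished (f • 𝟙 D)) h h

theorem exactAt_of_exactAt_cone {f : A} {D : DRing.Cx A} {n : ℤ}
    (hC : (CochainComplex.mappingCone (f • 𝟙 D)).ExactAt n) (hf : f ∈ dcIdealD (DRing.toD D)) : D.ExactAt n := by
  have h1 := (ModuleCat.epi_iff_surjective _).1 (epi_of_exactAt_cone (f • 𝟙 D) n hC)
  rw [homologyMap_smul', HomologicalComplex.homologyMap_id] at h1
  have hs : Function.Surjective fun x : D.homology n => f • x := h1
  have hdc : DC f (D.homology n) := (dc_HD_iff D n f).1 (mem_dcIdealD.1 hf n)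
  choose g hg using hs
  rw [HomologicalComplex.exactAt_iff_isZero_homology]
  haveI : Subsingleton (D.homology n) := subsingleton_of_forall_eq 0 fun x => by
    let seq : ℕ → D.homology n := fun k => g^[k] x
    refine hdc.eq_zero (x := seq) (fun k => ?_) 0
    simp only [seq, Function.iterate_succ_apply']
    exact (hg _).symm
  exact ModuleCat.isZero_of_subsingleton _

/-- A flat complex complete with respect to finitely many elements, and exact above a degree after tensoring
with every module they kill, is exact there. -/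
theorem exactAt_of_killedAbove (l : List A) : ∀ (D : DRing.Cx A), DRing.TermwiseFlat D →
    (∀ r ∈ l, r ∈ dcIdealD (DRing.toD D)) → ∀ b : ℤ, KilledAbove D {r | r ∈ l} b → ∀ i, b < i → D.ExactAt i := by
  induction l with
  | nil => exact fun D _ _ b h i hi => (h A (fun r hr => absurd hr List.not_mem_nil) i hi).of_iso (tensUnitIso D)
  | cons f l ih =>
    intro D hD hc b h i hi
    have hk : KilledAbove (CochainComplex.mappingCone (f • 𝟙 D)) {r | r ∈ l} b :=
      killedAbove_cone hD fun M _ _ hM => h M fun r hr => hM r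
        (by rcases List.mem_cons.1 hr with rfl | hr; exacts [Or.inl rfl, Or.inr hr])
    exact exactAt_of_exactAt_cone
      (ih _ (termwiseFlat_cone _ hD hD) (fun r hr => mem_dcIdealD_cone (hc r (List.mem_cons_of_mem _ hr))) b hk i hi)
      (hc f List.mem_cons_self)

/-- If the reduction modulo `I` of a K-flat complex is exact above a degree, so are its tensor products with
all modules killed by `I`. -/
theorem killedAbove_of_exactAt (I : Ideal A) {P : DRing.Cx A} (hP : DRing.IsKFlat A P) (b : ℤ)
    (h : ∀ i, b < i → ((tensM (ModuleCat.of A (A ⧸ I))).obj P).ExactAt i) : KilledAbove P (I : Set A) b := by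
  intro M _ _ hM i hi
  let φ : A →+* A ⧸ I := Ideal.Quotient.mk I
  let E := (DTen.extCx φ).obj P
  have hE : ∀ j, b < j → E.ExactAt j := fun j hj => by
    let er : (ModuleCat.restrictScalars.{u} φ).obj (𝟙_ (ModuleCat.{u} (A ⧸ I))) ≅ ModuleCat.of A (A ⧸ I) :=
      LinearEquiv.toModuleIso
        (X₁ := (ModuleCat.restrictScalars.{u} φ).obj (𝟙_ (ModuleCat.{u} (A ⧸ I)))) (X₂ := A ⧸ I)
        { AddEquiv.refl (A ⧸ I) with map_smul' := fun r x => rfl }
    have h1 := ((h j hj).of_iso ((NatIso.mapHomologicalComplex ((tensoringLeft (ModuleCat.{u} A)).mapIso er.symm)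
      (ComplexShape.up ℤ)).app P)).of_iso (tensMExtIso φ (𝟙_ (ModuleCat.{u} (A ⧸ I))) P).symm
    refine HomologicalComplex.ExactAt.of_iso ?_ (tensUnitIso E)
    rw [HomologicalComplex.exactAt_iff] at h1 ⊢
    exact (ShortComplex.exact_map_iff_of_faithful _ (ModuleCat.restrictScalars.{u} φ)).1 h1
  obtain ⟨N, hNb, hN, ⟨e⟩⟩ := exists_proj_representative (K := DRing.toD E) (n := b)
    fun j hj => (exactAt_iff_isZero_homologyFunctor E j).1 (hE j (by omega))
  refine exactAt_tensM_of_killed φ Ideal.Quotient.mk_surjective (fun M' => ?_) M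
    (by rw [Ideal.mk_ker]; exact fun r hr => hM r hr)
  obtain ⟨e'⟩ := nonempty_tensM_iso (isKFlat_of_projective hNb hN) (isKFlat_extCx φ hP) e M'
  exact exactAt_of_toD_iso e' i (ShortComplex.exact_of_isZero_X₂ _ ((tensorLeft M').map_isZero (hNb i hi)))

/-- A complete object whose reduction has no cohomology above a degree has none itself. -/
theorem isZero_homology_of_complete {I : Ideal A} (hI : I.FG) [DRing.HasLTensor A (ModuleCat.of A (A ⧸ I))]
    {K : Dual.D A} (hc : DRing.IsDerivedComplete I K) (b : ℤ)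
    (h0 : ∀ i, b < i → IsZero ((DerivedCategory.homologyFunctor (ModuleCat.{u} A) i).obj
      ((DRing.LTensor A (ModuleCat.of A (A ⧸ I))).obj K))) (i : ℤ) (hi : b < i) :
    IsZero ((DerivedCategory.homologyFunctor (ModuleCat.{u} A) i).obj K) := by
  obtain ⟨P, hP, hflat, ⟨e⟩⟩ := exists_kflat_representative K
  obtain ⟨l, hl⟩ := exists_ofList hI
  have hz : ∀ j, b < j → ((tensM (ModuleCat.of A (A ⧸ I))).obj P).ExactAt j := fun j hj =>
    (exactAt_iff_isZero_homologyFunctor _ j).2 ((h0 j hj).of_iso
      ((DerivedCategory.homologyFunctor (ModuleCat.{u} A) j).mapIso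
        ((ltensorIso (ModuleCat.of A (A ⧸ I)) P hP).symm ≪≫ (DRing.LTensor A _).mapIso e)))
  have hk := killedAbove_of_exactAt I hP b hz
  have hle := (isDerivedComplete_iff_le K).1 hc
  have hex : P.ExactAt i := exactAt_of_killedAbove l P hflat
    (fun r hr => mem_dcIdealD_of_iso e.symm (hle (hl ▸ Ideal.subset_span hr))) b
    (fun M _ _ hM => hk M fun r hr m => by
      have hr' : r ∈ Ideal.ofList l := hl ▸ hr
      exact Submodule.span_induction (fun x hx => hM x hx m) (zero_smul A m)
        (fun x y _ _ hx hy => by rw [add_smul, hx, hy, add_zero])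
        (fun a x _ hx => by rw [smul_eq_mul, mul_smul, hx, smul_zero]) hr') i hi
  exact ((exactAt_iff_isZero_homologyFunctor P i).1 hex).of_iso
    ((DerivedCategory.homologyFunctor (ModuleCat.{u} A) i).mapIso e.symm)

/-- Derived Nakayama for complete objects. -/
theorem isZero_of_complete {I : Ideal A} (hI : I.FG) [DRing.HasLTensor A (ModuleCat.of A (A ⧸ I))] {K : Dual.D A}
    (hc : DRing.IsDerivedComplete I K) (h0 : IsZero ((DRing.LTensor A (ModuleCat.of A (A ⧸ I))).obj K)) :
    IsZero K :=
  Groth.Agent.ProDerLib.isZero_of_homology K fun i => isZero_homology_of_complete hI hc (i - 1)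
    (fun _ _ => Functor.map_isZero _ h0) i (by omega)

/-- The reduction of an object without cohomology above a degree has none either. -/
theorem isZero_homology_LTensor {M : ModuleCat.{u} A} [DRing.HasLTensor A M] {K : Dual.D A} (b : ℤ)
    (h : ∀ i, b < i → IsZero ((DerivedCategory.homologyFunctor (ModuleCat.{u} A) i).obj K)) (i : ℤ) (hi : b < i) :
    IsZero ((DerivedCategory.homologyFunctor (ModuleCat.{u} A) i).obj ((DRing.LTensor A M).obj K)) := by
  obtain ⟨N, hNb, hN, ⟨e⟩⟩ := exists_proj_representative (K := K) (n := b) fun j hj => h j (by omega)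
  exact ((exactAt_iff_isZero_homologyFunctor ((tensM M).obj N) i).1
    (ShortComplex.exact_of_isZero_X₂ _ ((tensorLeft M).map_isZero (hNb i hi)))).of_iso
    ((DerivedCategory.homologyFunctor (ModuleCat.{u} A) i).mapIso
      ((DRing.LTensor A M).mapIso e.symm ≪≫ ltensorIso M N (isKFlat_of_projective hNb hN)))

end Groth.Agent.DRingLib
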