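import Groth.Agent.DRingLib.PerfMisc
import Groth.Agent.DCohLib.FinFactor
import Groth.Agent.DComplLib.Crit
import Groth.Agent.KInj.Products

/-!
# Compact objects of the derived category of a ring: coproducts and absorption
-/

set_option autoImplicit false
set_option linter.style.haveILetI false
set_option backward.isDefEq.respectTransparency false

universe w u

open CategoryTheory Limits Pretriangulated
attribute [local instance] HasDerivedCategory.standard

noncomputable section

namespace Groth.Agent.DRingLib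

open Groth.Agent.DCohLib

variable {A : Type u} [CommRing A] {I : Type u}

instance hasCoproductsOfShape_uliftIndex : HasCoproductsOfShape (ULift.{u + 1} I) (ModuleCat.{u} A) :=
  hasColimitsOfShape_of_equivalence (Discrete.equivalence Equiv.ulift.{u + 1}.symm)

/-- Two colimit cofans of the same family absorb the same objects. -/
theorem absorbs_transfer {D : Type*} [Category D] [Preadditive D] {ι : Type*} {E : ι → D} {c c' : Cofan E}
    (hc : IsColimit c) (hc' : IsColimit c') {X : D} (h : Absorbs (sigmaTrunc hc) X) :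
    Absorbs (sigmaTrunc hc') X := fun f => by
  classical
  let e := hc.coconePointUniqueUpToIso hc'
  have he : ∀ i, c.inj i ≫ e.hom = c'.inj i := fun i => hc.comp_coconePointUniqueUpToIso_hom hc' ⟨i⟩
  obtain ⟨T, hT⟩ := h (f ≫ e.inv)
  refine ⟨T, ?_⟩
  have key : sigmaTrunc hc T ≫ e.hom = e.hom ≫ sigmaTrunc hc' T := Cofan.IsColimit.hom_ext hc _ _ fun i => by
    rw [← Category.assoc, inj_sigmaTrunc, ← Category.assoc, he, inj_sigmaTrunc]
    split_ifs
    · exact he i
    · rw [zero_comp]
  have := congrArg (· ≫ e.hom) hT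
  simpa [key] using this

/-- A coproduct of complexes represents the coproduct in the derived category. -/
theorem nonempty_isColimit_Q_cofan {ι : Type w} [HasCoproductsOfShape ι (ModuleCat.{u} A)]
    {F : ι → DRing.Cx A} {c₀ : Cofan F} (hc₀ : IsColimit c₀) :
    Nonempty (IsColimit (Cofan.mk (f := fun i => DRing.toD (F i)) (DRing.toD c₀.pt)
      fun i => DerivedCategory.Q.map (c₀.inj i))) := by
  have key : ∀ (Z : Dual.D A) (k : ∀ i, DRing.toD (F i) ⟶ Z), ∃! m : DRing.toD c₀.pt ⟶ Z,
      ∀ i, DerivedCategory.Q.map (c₀.inj i) ≫ m = k i := by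
    intro Z k
    obtain ⟨R, hR, ⟨e⟩⟩ := Groth.Agent.DComplLib.exists_kInjective Z
    haveI := hR
    choose g hg using fun i => Groth.Agent.DComplLib.exists_Q_map (k i ≫ e.inv)
    let G := Cofan.IsColimit.desc hc₀ g
    have hG : ∀ i, c₀.inj i ≫ G = g i := fun i => Cofan.IsColimit.fac hc₀ g i
    refine ⟨DerivedCategory.Q.map G ≫ e.hom, fun i => ?_, fun m hm => ?_⟩
    · rw [← Functor.map_comp_assoc, hG, hg, Category.assoc, e.inv_hom_id, Category.comp_id]
    · obtain ⟨G', hG'⟩ := Groth.Agent.DComplLib.exists_Q_map (m ≫ e.inv)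
      obtain ⟨H⟩ := Groth.Agent.KInj.homotopic_zero_of_coproduct hc₀ (G' - G) fun i => by
        refine Groth.Agent.DComplLib.homotopic_of_Q_map_eq_zero ?_
        rw [Functor.map_comp, Functor.map_sub, Preadditive.comp_sub, hG', reassoc_of% (hm i),
          ← Functor.map_comp, hG, hg, sub_self]
      rw [← cancel_mono e.inv, ← hG', Category.assoc, e.hom_inv_id, Category.comp_id]
      exact DerivedCategory.Q_map_eq_of_homotopy (C := ModuleCat.{u} A) (Homotopy.equivSubZero.symm H)
  choose m hm hu using fun (s : Cofan fun i => DRing.toD (F i)) => key s.pt s.inj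
  exact ⟨mkCofanColimit _ m hm hu⟩

theorem Q_map_sigmaTrunc {ι : Type (u + 1)} {F : ι → DRing.Cx A} {c₀ : Cofan F} (hc₀ : IsColimit c₀)
    (hQ : IsColimit (Cofan.mk (f := fun i => DRing.toD (F i)) (DRing.toD c₀.pt)
      fun i => DerivedCategory.Q.map (c₀.inj i))) (T : Finset ι) :
    DerivedCategory.Q.map (sigmaTrunc hc₀ T) = sigmaTrunc hQ T := by
  classical
  refine Cofan.IsColimit.hom_ext hQ _ _ fun i => ?_
  rw [inj_sigmaTrunc]
  show DerivedCategory.Q.map (c₀.inj i) ≫ _ = _
  rw [← Functor.map_comp, inj_sigmaTrunc]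
  split_ifs
  · rfl
  · rw [Functor.map_zero]

theorem hasCoproduct_D_ulift (E : ULift.{u + 1} I → Dual.D A) : HasCoproduct E := by
  let F := fun i => DerivedCategory.Q.objPreimage (E i)
  obtain ⟨hQ⟩ := nonempty_isColimit_Q_cofan (coproductIsCoproduct F)
  haveI : HasCoproduct (fun i => DRing.toD (F i)) := ⟨⟨⟨_, hQ⟩⟩⟩
  exact hasColimit_of_iso (F := Discrete.functor fun i => DRing.toD (F i))
    (Discrete.natIso fun i => (DerivedCategory.Q.objObjPreimageIso (E i.as)).symm)

/-- An element of a coproduct of complexes lies in a finite partial sum. -/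
theorem exists_trunc_apply {ι : Type (u + 1)} [HasCoproductsOfShape ι (ModuleCat.{u} A)] {F : ι → DRing.Cx A}
    {c : Cofan F} (hc : IsColimit c) (n : ℤ) (z : c.pt.X n) :
    ∃ T : Finset ι, ((sigmaTrunc hc T).f n).hom z = z := by
  classical
  have hE : IsColimit (Cofan.mk (f := fun t => (F t).X n) (c.pt.X n) fun t => (c.inj t).f n) :=
    isColimitCofanMkObjOfIsColimit (HomologicalComplex.eval (ModuleCat.{u} A) (ComplexShape.up ℤ) n) _ _
      (hc.ofIsoColimit (Cofan.ext (Iso.refl _) (by simp)))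
  let S := ⨆ i, LinearMap.range ((c.inj i).f n).hom
  have h0 : ModuleCat.ofHom S.mkQ = 0 := Cofan.IsColimit.hom_ext hE _ _ fun i =>
    ModuleCat.hom_ext (LinearMap.ext fun x => (Submodule.Quotient.mk_eq_zero S).2
      (Submodule.mem_iSup_of_mem i ⟨x, rfl⟩))
  have hz : z ∈ S := (Submodule.Quotient.mk_eq_zero S).1 congr(($h0).hom z)
  have hmono : ∀ T T' : Finset ι, T ⊆ T' → ∀ w, ((sigmaTrunc hc T).f n).hom w = w →
      ((sigmaTrunc hc T').f n).hom w = w := fun T T' h w hw => by
    conv_lhs => rw [← hw]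
    have e := congr((($(sigmaTrunc_comp_of_subset hc h)).f n).hom w)
    exact e.trans hw
  induction hz using Submodule.iSup_induction' with
  | mem i w hw =>
    obtain ⟨v, rfl⟩ := hw
    refine ⟨{i}, ?_⟩
    have e := congr((($(inj_sigmaTrunc hc {i} i)).f n).hom v)
    rw [if_pos (Finset.mem_singleton_self i)] at e
    exact e
  | zero => exact ⟨∅, map_zero _⟩
  | add a b _ _ ha hb =>
    obtain ⟨T, hT⟩ := ha
    obtain ⟨T', hT'⟩ := hb
    exact ⟨T ∪ T', by rw [map_add, hmono T _ Finset.subset_union_left a hT,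
      hmono T' _ Finset.subset_union_right b hT']⟩

/-- Maps into coproducts absorb finite partial sums. -/
def Cpt (X : Dual.D A) : Prop :=
  ∀ (I : Type u) (E : ULift.{u + 1} I → Dual.D A) (c : Cofan E) (hc : IsColimit c), Absorbs (sigmaTrunc hc) X

theorem Cpt.bijective {X : Dual.D A} (h : Cpt X) (I : Type u) (E : I → Dual.D A)
    [HasCoproduct fun i : ULift.{u + 1} I => E i.down] :
    Function.Bijective (CohDer.homSumToHomCoprod X (fun i : ULift.{u + 1} I => E i.down)) :=
  bijective_homSumToHomCoprod X _ (h I _ _ _)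

theorem cpt_of_bijective {X : Dual.D A}
    (h : ∀ (I : Type u) (E : I → Dual.D A) [HasCoproduct fun i : ULift.{u + 1} I => E i.down],
      Function.Bijective (CohDer.homSumToHomCoprod X (fun i : ULift.{u + 1} I => E i.down))) : Cpt X := by
  classical
  intro I E c hc
  haveI : HasCoproduct E := ⟨⟨⟨c, hc⟩⟩⟩
  refine absorbs_transfer (coproductIsCoproduct E) hc fun f => ?_
  haveI : HasCoproduct fun i : ULift.{u + 1} I => (fun j => E ⟨j⟩) i.down := inferInstanceAs (HasCoproduct E)
  obtain ⟨z, hz⟩ := (h I fun j => E ⟨j⟩).2 f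
  have key : ∀ z : DirectSum (ULift.{u + 1} I) fun i => X ⟶ E i, ∃ T,
      CohDer.homSumToHomCoprod X E z ≫ sigmaTrunc (coproductIsCoproduct E) T =
        CohDer.homSumToHomCoprod X E z := by
    intro z
    induction z using DirectSum.induction_on with
    | zero => exact ⟨∅, by rw [map_zero, zero_comp]⟩
    | of j g =>
      refine ⟨{j}, ?_⟩
      have h1 : CohDer.homSumToHomCoprod X E (DirectSum.of (fun i => X ⟶ E i) j g) = g ≫ Sigma.ι E j :=
        by
        classical
        rw [CohDer.homSumToHomCoprod]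
        erw [DirectSum.toAddMonoid_of]
        rfl
      have h2 := inj_sigmaTrunc (coproductIsCoproduct E) {j} j
      rw [if_pos (Finset.mem_singleton_self j)] at h2
      rw [h1, Category.assoc]
      exact congrArg (g ≫ ·) h2
    | add a b ha hb =>
      obtain ⟨T, hT⟩ := ha
      obtain ⟨T', hT'⟩ := hb
      refine ⟨T ∪ T', ?_⟩
      rw [map_add, Preadditive.add_comp]
      conv_rhs => rw [← hT, ← hT']
      conv_lhs => rw [← hT, ← hT', Category.assoc, Category.assoc,
        sigmaTrunc_comp_of_subset _ Finset.subset_union_left, sigmaTrunc_comp_of_subset _ Finset.subset_union_right]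
  obtain ⟨T, hT⟩ := key z
  exact ⟨T, hz ▸ hT⟩

theorem Cpt.of_iso {X Y : Dual.D A} (h : Cpt X) (e : X ≅ Y) : Cpt Y := fun I E c hc => (h I E c hc).of_iso e

theorem Cpt.of_retract {X Y : Dual.D A} (h : Cpt Y) (r : Retract X Y) : Cpt X := fun I E c hc f => by
  obtain ⟨T, hT⟩ := h I E c hc (r.r ≫ f)
  refine ⟨T, ?_⟩
  rw [← r.retract_assoc f, Category.assoc, Category.assoc]
  exact congrArg (r.i ≫ ·) ((Category.assoc _ _ _).symm.trans hT)

theorem Cpt.shift {X : Dual.D A} (h : Cpt X) (n : ℤ) : Cpt (X⟦n⟧) := fun I E c hc f => by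
  classical
  let adj := (shiftEquiv (Dual.D A) n).toAdjunction
  let G := shiftFunctor (Dual.D A) (-n)
  have hc' : IsColimit (Cofan.mk (f := fun i => G.obj (E i)) (G.obj c.pt) fun i => G.map (c.inj i)) :=
    isColimitCofanMkObjOfIsColimit G _ _ (hc.ofIsoColimit (Cofan.ext (Iso.refl _) (by simp)))
  obtain ⟨T, hT⟩ := h I _ _ hc' (adj.homEquiv X c.pt f)
  refine ⟨T, (adj.homEquiv X c.pt).injective ?_⟩
  rw [Adjunction.homEquiv_naturality_right]
  refine Eq.trans (congrArg (adj.homEquiv X c.pt f ≫ ·) ?_) hT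
  refine Cofan.IsColimit.hom_ext hc' _ _ fun i => ?_
  rw [inj_sigmaTrunc]
  show G.map (c.inj i) ≫ G.map _ = _
  rw [← Functor.map_comp, inj_sigmaTrunc]
  split_ifs
  · rfl
  · rw [Functor.map_zero]

theorem Cpt.obj₂ (T : Triangle (Dual.D A)) (hT : T ∈ distTriang _) (h₁ : Cpt T.obj₁) (h₃ : Cpt T.obj₃) :
    Cpt T.obj₂ := fun I E c hc =>
  absorbs_obj₂ (fun _ _ h => sigmaTrunc_comp_of_subset hc h) T hT (h₁ I E c hc) (h₃ I E c hc)

theorem Cpt.obj₃ (T : Triangle (Dual.D A)) (hT : T ∈ distTriang _) (h₁ : Cpt T.obj₁) (h₂ : Cpt T.obj₂) :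
    Cpt T.obj₃ :=
  Cpt.obj₂ _ (rot_of_distTriang _ hT) h₂ (h₁.shift 1)

theorem cpt_single (n : ℤ) : Cpt (DRing.toD
    ((CochainComplex.singleFunctor (ModuleCat.{u} A) n).obj (ModuleCat.of A A))) := by
  classical
  intro I E c hc
  let F := fun i => DerivedCategory.Q.objPreimage (E i)
  let c₀ := colimit.cocone (Discrete.functor F)
  obtain ⟨hQ⟩ := nonempty_isColimit_Q_cofan (coproductIsCoproduct F)
  let e := fun i => DerivedCategory.Q.objObjPreimageIso (E i)
  let hE : IsColimit (Cofan.mk (f := E) (DRing.toD (∐ F))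
      fun i => (e i).inv ≫ DerivedCategory.Q.map (Sigma.ι F i)) :=
    mkCofanColimit _ (fun s => Cofan.IsColimit.desc hQ fun i => (e i).hom ≫ s.inj i)
      (fun s i => by
        show ((e i).inv ≫ DerivedCategory.Q.map (Sigma.ι F i)) ≫ _ = _
        rw [Category.assoc]
        exact (congrArg ((e i).inv ≫ ·) (Cofan.IsColimit.fac hQ _ i)).trans (by simp))
      fun s m hm => Cofan.IsColimit.hom_ext hQ _ _ fun i => by
        rw [Cofan.IsColimit.fac, ← hm i]
        simp
  refine absorbs_transfer hE hc fun f => ?_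
  let S := (CochainComplex.singleFunctor (ModuleCat.{u} A) n).obj (ModuleCat.of A A)
  haveI : S.IsKProjective := isKProjective_of_vanishesAbove (b := n)
    (fun i hi => HomologicalComplex.isZero_single_obj_X _ _ _ _ (by omega)) fun i => by
      by_cases hi : i = n
      · exact Module.Projective.of_equiv (HomologicalComplex.singleObjXIsoOfEq (ComplexShape.up ℤ) n _ i hi).toLinearEquiv.symm
      · haveI : Subsingleton (S.X i) := ModuleCat.subsingleton_of_isZero
          (HomologicalComplex.isZero_single_obj_X (ComplexShape.up ℤ) n (ModuleCat.of A A) i hi)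
        haveI : Module.Free A (S.X i) := Module.Free.of_subsingleton A (S.X i)
        exact Module.Projective.of_free
  obtain ⟨φ, rfl⟩ := Q_map_surjective S _ f
  obtain ⟨T, hT⟩ := exists_trunc_apply (coproductIsCoproduct F) n
    ((φ.f n).hom ((HomologicalComplex.singleObjXSelf (ComplexShape.up ℤ) n (ModuleCat.of A A)).inv.hom (1 : A)))
  refine ⟨T, ?_⟩
  have key : sigmaTrunc hE T = DerivedCategory.Q.map (sigmaTrunc (coproductIsCoproduct F) T) := by
    refine Cofan.IsColimit.hom_ext hE _ _ fun i => ?_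
    rw [inj_sigmaTrunc]
    show _ = ((e i).inv ≫ DerivedCategory.Q.map ((Cofan.mk (∐ F) (Sigma.ι F)).inj i)) ≫ _
    rw [Category.assoc, ← Functor.map_comp]
    refine Eq.trans ?_ (congrArg (fun z => (e i).inv ≫ DerivedCategory.Q.map z)
      (inj_sigmaTrunc (coproductIsCoproduct F) T i).symm)
    split_ifs
    · rfl
    · rw [Functor.map_zero, comp_zero]
  rw [key, ← Functor.map_comp]
  refine congrArg _ (HomologicalComplex.from_single_hom_ext ?_)
  rw [← cancel_epi (HomologicalComplex.singleObjXSelf (ComplexShape.up ℤ) n (ModuleCat.of A A)).inv]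
  exact ModuleCat.hom_ext (LinearMap.ext_ring hT)

theorem cpt_inD_shift (n : ℤ) : Cpt ((Dual.inD A A)⟦n⟧) :=
  (cpt_single (-n)).of_iso ((singleQIso (-n) (ModuleCat.of A A)).symm ≪≫
    (shiftFunctor (Dual.D A) (- -n)).mapIso (singleQZeroIso (ModuleCat.of A A)) ≪≫
    eqToIso (by rw [neg_neg]))

theorem cpt_of_perf {K : Dual.D A} (hK : Perf FProj K) : Cpt K := by
  have h := class_of_perf (P := fun X : Dual.D A => ∀ n : ℤ, Cpt (X⟦n⟧))
    (fun e h n => (h n).of_iso ((shiftFunctor (Dual.D A) n).mapIso e))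
    (fun T hT h₁ h₃ n => Cpt.obj₂ _ (Triangle.shift_distinguished T hT n) (h₁ n) (h₃ n))
    (fun X Y _ h n => (h n).of_retract ((Retract.mk biprod.inl biprod.fst biprod.inl_fst).map
      (shiftFunctor (Dual.D A) n)))
    (fun n => cpt_inD_shift n)
    (fun X m h n => (h (m + n)).of_iso ((shiftFunctorAdd' (Dual.D A) m n (m + n) rfl).app X))
    hK 0
  exact h.of_iso ((shiftFunctorZero (Dual.D A) ℤ).app K)

end Groth.Agent.DRingLib
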