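import Groth.Agent.DRingLib.RestrictPC
import Mathlib.RingTheory.RingHomProperties

/-!
# Pseudo-coherent ring maps: basic examples and composition
-/

set_option autoImplicit false
set_option linter.style.haveILetI false
set_option backward.isDefEq.respectTransparency false

universe u

open CategoryTheory Limits Pretriangulated
attribute [local instance] HasDerivedCategory.standard

noncomputable section

namespace Groth.Agent.DRingLib

open Groth.Agent.DCohLib

variable {A B C : Type u} [CommRing A] [CommRing B] [CommRing C]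

theorem pc_inD_congr {M N : Type u} [AddCommGroup M] [Module A M] [AddCommGroup N] [Module A N]
    (e : M ≃ₗ[A] N) {m : ℤ} (h : PC FFree m (Dual.inD A M)) : PC FFree m (Dual.inD A N) :=
  h.of_iso ((DerivedCategory.singleFunctor (ModuleCat.{u} A) 0).mapIso e.toModuleIso)

theorem pc_inD_restrict {φ : A →+* B} (h : PCMap φ) (M : ModuleCat.{u} B) {m : ℤ} :
    PC FFree m (Dual.inD B M) ↔
      PC FFree m (Dual.inD A ((ModuleCat.restrictScalars.{u} φ).obj M)) := by
  obtain ⟨e⟩ := nonempty_restrictD_inD φ M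
  exact ⟨fun h' => (h.ascend h').of_iso e, fun h' => h.descend (h'.of_iso e.symm)⟩

theorem pcMap_iff (φ : A →+* B) :
    PCMap φ ↔ ∀ m : ℤ, PC FFree m
      (Dual.inD A ((ModuleCat.restrictScalars.{u} φ).obj (ModuleCat.of B B))) := by
  obtain ⟨e⟩ := nonempty_restrictD_inD φ (ModuleCat.of B B)
  exact ⟨fun h m => (h m).of_iso e, fun h m => (h m).of_iso e.symm⟩

/-- The ring as a module over the source. -/
def selfEquiv (φ : A →+* B) (inst : Algebra A B) (h : @algebraMap A B _ _ inst = φ) :
    ((ModuleCat.restrictScalars.{u} φ).obj (ModuleCat.of B B)) ≃ₗ[A] B :=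
  { AddEquiv.refl B with
    map_smul' := fun a (b : B) => by
      show φ a * b = a • b
      rw [← h, Algebra.smul_def] }

theorem pcMap_algebraMap_iff [Algebra A B] :
    PCMap (algebraMap A B) ↔ DRing.IsPseudoCoherentModule' A B := by
  rw [pcMap_iff]
  simp only [DRing.IsPseudoCoherentModule', isPseudoCoherent'_iff]
  exact ⟨fun h m => pc_inD_congr (selfEquiv _ _ rfl) (h m),
    fun h m => pc_inD_congr (selfEquiv _ _ rfl).symm (h m)⟩

/-- A surjection with pseudo-coherent kernel is pseudo-coherent. -/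
theorem pcMap_of_surjective (φ : A →+* B) (hφ : Function.Surjective φ)
    (hk : ∀ m, PC FFree m (Dual.inD A (RingHom.ker φ))) : PCMap φ := by
  letI := φ.toAlgebra
  refine pcMap_algebraMap_iff.mpr ((isPseudoCoherent'_iff _).mpr fun m => ?_)
  obtain ⟨T, hT, h1, h2, h3⟩ := exists_triangle_of_surjective (Algebra.linearMap A B) hφ
  rw [← h3]
  refine PC.obj₃ projClass_fFree T hT ?_ ?_
  · rw [h1]
    exact pc_inD_congr (LinearEquiv.refl A _) (hk (m + 1))
  · rw [h2]
    exact (perf_inD projClass_fFree (M := ModuleCat.of A A) ⟨inferInstance, inferInstance⟩).pc m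

/-- Killing a non zero divisor. -/
theorem pcMap_of_ker_eq_span (φ : A →+* B) (hφ : Function.Surjective φ) (a : A)
    (ha : ∀ x, a * x = 0 → x = 0) (hk : RingHom.ker φ = Ideal.span {a}) : PCMap φ := by
  refine pcMap_of_surjective φ hφ fun m => ?_
  let l : A →ₗ[A] ↥(RingHom.ker φ) :=
    (LinearMap.toSpanSingleton A A a).codRestrict (RingHom.ker φ) fun x => by
      rw [hk]
      exact Ideal.mem_span_singleton'.mpr ⟨x, rfl⟩
  have hl : Function.Bijective l := by
    refine ⟨fun x y h => sub_eq_zero.mp (ha _ ?_), fun y => ?_⟩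
    · have := congrArg Subtype.val h
      rw [mul_sub, mul_comm a x, mul_comm a y]
      exact sub_eq_zero.mpr this
    · have hy : (y : A) ∈ Ideal.span {a} := (SetLike.ext_iff.mp hk _).mp y.2
      obtain ⟨x, hx⟩ := Ideal.mem_span_singleton'.mp hy
      exact ⟨x, Subtype.ext hx⟩
  exact pc_inD_congr (LinearEquiv.ofBijective l hl)
    ((perf_inD projClass_fFree (M := ModuleCat.of A A) ⟨inferInstance, inferInstance⟩).pc m)

/-- Pseudo-coherent maps compose. -/
theorem PCMap.comp {φ : A →+* B} {ψ : B →+* C} (hφ : PCMap φ) (hψ : PCMap ψ) : PCMap (ψ.comp φ) := by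
  refine (pcMap_iff _).mpr fun m => ?_
  have h := (pc_inD_restrict hφ _).mp ((pcMap_iff ψ).mp hψ m)
  exact h.of_iso ((DerivedCategory.singleFunctor (ModuleCat.{u} A) 0).mapIso
    (((ModuleCat.restrictScalarsComp'.{u} φ ψ (ψ.comp φ) rfl).app (ModuleCat.of C C)).symm))

/-- Cancellation. -/
theorem PCMap.of_comp {φ : A →+* B} {ψ : B →+* C} (hφ : PCMap φ) (h : PCMap (ψ.comp φ)) : PCMap ψ := by
  refine (pcMap_iff _).mpr fun m => (pc_inD_restrict hφ _).mpr ?_
  exact ((pcMap_iff _).mp h m).of_iso ((DerivedCategory.singleFunctor (ModuleCat.{u} A) 0).mapIso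
    ((ModuleCat.restrictScalarsComp'.{u} φ ψ (ψ.comp φ) rfl).app (ModuleCat.of C C)))

theorem pcMap_of_bijective (φ : A →+* B) (hφ : Function.Bijective φ) : PCMap φ := by
  refine pcMap_of_surjective φ hφ.2 fun m => ?_
  haveI : Subsingleton ↥(RingHom.ker φ) := by
    rw [(RingHom.injective_iff_ker_eq_bot φ).mp hφ.1]
    infer_instance
  exact (perf_of_isZero projClass_fFree
    (Functor.map_isZero _ (ModuleCat.isZero_of_subsingleton (ModuleCat.of A ↥(RingHom.ker φ))))).pc m

/-- Evaluation of a polynomial ring in one variable is pseudo-coherent. -/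
theorem pcMap_evalRingHom (a : A) : PCMap (Polynomial.evalRingHom a) := by
  refine pcMap_of_ker_eq_span _ (fun b => ⟨Polynomial.C b, Polynomial.eval_C⟩) (Polynomial.X - Polynomial.C a)
    (fun p hp => ?_) (Ideal.ext fun p => ?_)
  · exact (Polynomial.monic_X_sub_C a).mul_right_eq_zero_iff.mp hp
  · rw [RingHom.mem_ker, Ideal.mem_span_singleton, Polynomial.dvd_iff_isRoot]
    rfl

end Groth.Agent.DRingLib
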