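import Groth.Agent.DRingLib.PseudoCoherent

/-!
# Perfect objects
-/

set_option autoImplicit false
set_option linter.style.haveILetI false

universe u

open CategoryTheory Limits Pretriangulated
attribute [local instance] HasDerivedCategory.standard

noncomputable section

namespace Groth.Agent.DRingLib

open Groth.Agent.DCohLib

variable {A : Type u} [CommRing A] {Φ : ModuleCat.{u} A → Prop}

theorem exists_truncated {P : DRing.Cx A} {Ψ : ModuleCat.{u} A → Prop}
    (hiso : ∀ {M N : ModuleCat.{u} A}, (M ≅ N) → Ψ M → Ψ N) (hzero : ∀ {M : ModuleCat.{u} A}, IsZero M → Ψ M)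
    (a b : ℤ) (hab : a ≤ b + 1) (hb : DRing.VanishesAbove P b) (hP : ∀ i, a < i → Ψ (P.X i))
    (hex : ∀ i, i < a → P.ExactAt i) (hcoker : Ψ (P.opcycles a)) :
    ∃ E : DRing.Cx A, DRing.VanishesOutside E a b ∧ (∀ i, Ψ (E.X i)) ∧ Nonempty (DRing.toD E ≅ DRing.toD P) := by
  haveI : P.IsGE a := (CochainComplex.isGE_iff _ _).2 fun i hi => hex i hi
  haveI : QuasiIso (P.πTruncGE a) := inferInstance
  refine ⟨P.truncGE a, fun i hi => ?_, fun i => ?_, ⟨(@asIso _ _ _ _ (DerivedCategory.Q.map (P.πTruncGE a))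
      (Localization.inverts DerivedCategory.Q (HomologicalComplex.quasiIso _ _) _
        ((HomologicalComplex.mem_quasiIso_iff _).2 inferInstance))).symm⟩⟩
  · rcases hi with hi | hi
    · exact CochainComplex.isZero_of_isStrictlyGE _ a i hi
    · rcases eq_or_lt_of_le (show a ≤ i by omega) with rfl | h'
      · refine IsZero.of_iso ?_ (P.truncGEXIsoOpcycles a)
        exact IsZero.of_epi (P.pOpcycles a) (hb a hi)
      · exact (hb i hi).of_iso (P.truncGEXIso a i h')
  · rcases lt_trichotomy i a with h' | rfl | h'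
    · exact hzero (CochainComplex.isZero_of_isStrictlyGE _ a i h')
    · exact hiso (P.truncGEXIsoOpcycles i).symm hcoker
    · exact hiso (P.truncGEXIso a i h').symm (hP i h')

theorem retract_fProj {M N : ModuleCat.{u} A} (r : Retract M N) (h : FProj N) : FProj M := by
  haveI := h.1
  haveI := h.2
  have e : r.r.hom ∘ₗ r.i.hom = LinearMap.id := by rw [← ModuleCat.hom_comp, r.retract]; rfl
  exact ⟨Module.Finite.of_surjective r.r.hom fun x => ⟨r.i.hom x, LinearMap.congr_fun e x⟩,
    Module.Projective.of_split r.i.hom r.r.hom e⟩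

theorem retract_aProj {M N : ModuleCat.{u} A} (r : Retract M N) (h : AProj N) : AProj M := by
  haveI : Module.Projective A N := h
  exact Module.Projective.of_split r.i.hom r.r.hom (by rw [← ModuleCat.hom_comp, r.retract]; rfl)

/-- A `Φ`-complex that is homotopically bounded below is isomorphic to a bounded one. -/
theorem exists_truncated_of_retract {P E : DRing.Cx A} (i : P ⟶ E) (p : E ⟶ P)
    (H : Homotopy (i ≫ p) (𝟙 P)) (hΦ : ProjClass Φ)
    (hretr : ∀ {M N : ModuleCat.{u} A}, Retract M N → Φ N → Φ M) (a b : ℤ) (hab : a ≤ b + 1)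
    (hEa : ∀ j, j < a → IsZero (E.X j)) (hb : DRing.VanishesAbove P b) (hP : ∀ j, Φ (P.X j)) :
    ∃ E' : DRing.Cx A, DRing.VanishesOutside E' a b ∧ (∀ j, Φ (E'.X j)) ∧
      Nonempty (DRing.toD E' ≅ DRing.toD P) := by
  have hc : ∀ j, (i ≫ p).f j = P.d j (j + 1) ≫ H.hom (j + 1) j + H.hom j (j - 1) ≫ P.d (j - 1) j + 𝟙 _ :=
    fun j => by
      have h1 := H.comm j
      rwa [dNext_eq _ (show (ComplexShape.up ℤ).Rel j (j + 1) by simp),
        prevD_eq _ (show (ComplexShape.up ℤ).Rel (j - 1) j by simp)] at h1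
  have h0 : ∀ j, j < a → P.d j (j + 1) ≫ H.hom (j + 1) j + H.hom j (j - 1) ≫ P.d (j - 1) j + 𝟙 _ = 0 :=
    fun j hj => by
      rw [← hc j, HomologicalComplex.comp_f, (hEa j hj).eq_of_tgt (i.f j) 0, zero_comp]
  have hex : ∀ j, j < a → P.ExactAt j := fun j hj => by
    rw [P.exactAt_iff' (j - 1) j (j + 1) (by simp) (by simp), ShortComplex.moduleCat_exact_iff]
    intro x hx
    change (P.d j (j + 1)).hom x = 0 at hx
    have h1 := congrArg (fun g : P.X j ⟶ P.X j => g.hom x) (h0 j hj)
    simp only [ModuleCat.hom_add, ModuleCat.hom_comp, ModuleCat.hom_id, LinearMap.add_apply,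
      LinearMap.comp_apply, LinearMap.id_apply, hx, map_zero, zero_add, ModuleCat.hom_zero,
      LinearMap.zero_apply] at h1
    exact ⟨-((H.hom j (j - 1)).hom x), by
      show (P.d (j - 1) j).hom (-((H.hom j (j - 1)).hom x)) = x
      rw [map_neg]
      exact (eq_neg_of_add_eq_zero_right h1).symm⟩
  have hd : P.d (a - 1) a ≫ H.hom a (a - 1) ≫ P.d (a - 1) a + P.d (a - 1) a = 0 := by
    have h1 := h0 (a - 1) (by omega)
    rw [sub_add_cancel] at h1
    have h2 := congrArg (· ≫ P.d (a - 1) a) h1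
    simp only [Preadditive.add_comp, Category.assoc, P.d_comp_d, comp_zero, add_zero, Category.id_comp,
      zero_comp] at h2
    exact h2
  let s : P.opcycles a ⟶ P.X a :=
    P.descOpcycles (𝟙 _ + H.hom a (a - 1) ≫ P.d (a - 1) a) (a - 1) (by simp) (by
      rw [Preadditive.comp_add, Category.comp_id, add_comm]
      exact hd)
  let r : Retract (P.opcycles a) (P.X a) :=
    { i := s
      r := P.pOpcycles a
      retract := by
        rw [← cancel_epi (P.pOpcycles a), HomologicalComplex.p_descOpcycles_assoc, Preadditive.add_comp,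
          Category.assoc, HomologicalComplex.d_pOpcycles, comp_zero, add_zero, Category.id_comp,
          Category.comp_id] }
  exact exists_truncated (Ψ := Φ) hΦ.iso hΦ.zero a b hab hb (fun j _ => hP j) hex (hretr r (hP a))

theorem pcPrime_of_perf {K : Dual.D A} (h : Perf FProj K) : DRing.IsPseudoCoherent' A K := by
  rw [isPseudoCoherent'_iff]
  intro m
  obtain ⟨E, hE, ⟨e⟩⟩ := h
  obtain ⟨⟨a, b, hab⟩, hEΦ⟩ := id hE
  refine (pc_of_terms projClass_fFree (b := b) (fun i hi => hab i (Or.inr hi)) m fun i _ => ?_).of_iso e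
  haveI := (hEΦ i).1
  haveI := (hEΦ i).2
  obtain ⟨n, f, g, -, -, hfg⟩ := Module.Finite.exists_comp_eq_id_of_projective A (E.X i)
  let S := DerivedCategory.singleFunctor (ModuleCat.{u} A) 0
  let ρ : Retract (E.X i) (ModuleCat.of A (Fin n → A)) :=
    ⟨ModuleCat.ofHom g, ModuleCat.ofHom f, ModuleCat.hom_ext hfg⟩
  let M : ModuleCat.{u} A := ModuleCat.of A (LinearMap.ker f)
  let e' : (E.X i × LinearMap.ker f) ≃ₗ[A] (Fin n → A) :=
    LinearEquiv.ofLinear
      (LinearMap.coprod g (LinearMap.ker f).subtype)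
      (LinearMap.prod f (LinearMap.codRestrict _ (LinearMap.id - g ∘ₗ f) fun y => by
        have h1 := LinearMap.congr_fun hfg (f y)
        simp only [LinearMap.comp_apply, LinearMap.id_apply] at h1
        simp [LinearMap.mem_ker, h1]))
      (LinearMap.ext fun y => by simp)
      (LinearMap.ext fun y => by
        have h1 := LinearMap.congr_fun hfg y.1
        simp only [LinearMap.comp_apply, LinearMap.id_apply] at h1
        refine Prod.ext ?_ (Subtype.ext ?_) <;> simp [h1, LinearMap.mem_ker.1 y.2.2])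
  haveI := preservesBinaryBiproducts_of_preservesBiproducts S
  have hsum : PC FFree (m - i) (S.obj (E.X i) ⊞ S.obj M) :=
    ((perf_inD_fin n).pc _).of_iso
      (S.mapIso ((ModuleCat.biprodIsoProd (E.X i) M) ≪≫ e'.toModuleIso).symm ≪≫ S.mapBiprod _ _)
  exact (hsum.summands projClass_fFree).1

/-- Retracts of perfect objects are perfect. -/
theorem Perf.of_retract {K L : Dual.D A} (h : Perf FProj L) (ρ : Retract K L)
    (hK : DRing.IsPseudoCoherent' A K) : Perf FProj K := by
  obtain ⟨E, hE, ⟨e⟩⟩ := h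
  obtain ⟨⟨a, b, hab⟩, hEΦ⟩ := id hE
  obtain ⟨P, c, hc, hPf, ⟨eP⟩⟩ := hK
  haveI : P.IsKProjective := isKProjective_of_vanishesAbove hc fun j => by
    haveI := (hPf j).2
    infer_instance
  haveI := hE.isKProjective projClass_fProj
  obtain ⟨i, hi⟩ := Q_map_surjective P E (eP.hom ≫ ρ.i ≫ e.inv)
  obtain ⟨p, hp⟩ := Q_map_surjective E P (e.hom ≫ ρ.r ≫ eP.inv)
  have h0 : DerivedCategory.Q.map (i ≫ p - 𝟙 P) = 0 := by
    rw [Functor.map_sub, Functor.map_comp, hi, hp, Category.assoc, Category.assoc, Iso.inv_hom_id_assoc,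
      ρ.retract_assoc, Iso.hom_inv_id, CategoryTheory.Functor.map_id, sub_self]
  obtain ⟨H⟩ := homotopic_zero P _ h0
  obtain ⟨E', hE', hE'Φ, ⟨e'⟩⟩ := exists_truncated_of_retract i p
    ((Homotopy.equivSubZero.symm H)) projClass_fProj retract_fProj (min a (c + 1)) c (min_le_right _ _)
    (fun j hj => hab j (Or.inl (lt_of_lt_of_le hj (min_le_left _ _)))) hc
    (fun j => fFree_imp_fProj (hPf j))
  exact ⟨E', ⟨⟨_, c, hE'⟩, hE'Φ⟩, ⟨e' ≪≫ eP⟩⟩

theorem Perf.summands {K L : Dual.D A} [HasBinaryBiproduct K L] (h : Perf FProj (K ⊞ L)) :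
    Perf FProj K ∧ Perf FProj L := by
  have h' := pcPrime_of_perf h
  rw [isPseudoCoherent'_iff] at h'
  exact ⟨h.of_retract ⟨biprod.inl, biprod.fst, biprod.inl_fst⟩
      ((isPseudoCoherent'_iff _).2 fun m => ((h' m).summands projClass_fFree).1),
    h.of_retract ⟨biprod.inr, biprod.snd, biprod.inr_snd⟩
      ((isPseudoCoherent'_iff _).2 fun m => ((h' m).summands projClass_fFree).2)⟩

variable {P : Dual.D A → Prop} (hiso : ∀ {K L : Dual.D A}, (K ≅ L) → P K → P L)
  (hzero : ∀ {K : Dual.D A}, IsZero K → P K)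
  (hext : ∀ T : Triangle (Dual.D A), T ∈ distTriang _ → P T.obj₁ → P T.obj₃ → P T.obj₂)

include hiso hzero hext in
/-- Bounded complexes lie in an extension closed class containing their shifted terms. -/
theorem of_bounded_terms {E : DRing.Cx A} {a b : ℤ} (hab : DRing.VanishesOutside E a b)
    (h : ∀ i, P ((Dual.inD A (E.X i))⟦-i⟧)) : P (DRing.toD E) := by
  have key : ∀ N : ℕ, P (DRing.toD (KFlat.brutal E (b + 1 - N))) := by
    intro N
    induction N with
    | zero =>
      refine hzero (DerivedCategory.Q.map_isZero ?_)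
      rw [IsZero.iff_id_eq_zero]
      refine HomologicalComplex.hom_ext _ _ fun n => ?_
      by_cases hn : n < b + 1 - (0 : ℕ)
      · exact (KFlat.isZero_brutal E _ hn).eq_of_src _ _
      · exact (KFlat.isZero_brutal_of_isZero E _ (hab n (Or.inr (by push_cast at hn; omega)))).eq_of_src _ _
    | succ N ih =>
      obtain ⟨c, hc⟩ : ∃ c : ℤ, c = b + 1 - (N + 1 : ℕ) := ⟨_, rfl⟩
      rw [← hc]
      have hc' : b + 1 - (N : ℕ) = c + 1 := by push_cast at hc ⊢; omega
      rw [hc'] at ih
      have hS : (KFlat.brutalShortComplex E c).ShortExact :=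
        HomologicalComplex.shortExact_of_degreewise_shortExact _ fun i => (KFlat.brutalSplitting E c i).shortExact
      exact hext _ (DerivedCategory.triangleOfSES_distinguished hS) ih
        (hiso ((shiftFunctor (Dual.D A) (-c)).mapIso (singleQZeroIso (E.X c)).symm ≪≫ singleQIso c (E.X c)) (h c))
  have hk := key (b + 1 - a).toNat
  haveI := isIso_brutalι_of_le (E := E) (a := b + 1 - ((b + 1 - a).toNat : ℤ))
    fun i hi => hab i (by omega)
  exact hiso (DerivedCategory.Q.mapIso (asIso (KFlat.brutalι E _))) hk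

theorem isZero_of_isGE_of_aboveZero {K : Dual.D A} {n : ℤ} (hGE : DerivedCategory.IsGE K n)
    (h : AboveZero n K) : IsZero K := by
  haveI := isLE_of_aboveZero h
  exact (DerivedCategory.TStructure.t : Triangulated.TStructure (Dual.D A)).isZero K (n - 1) n (by omega)

include hiso hzero hext in
/-- Bounded objects lie in an extension closed class containing their shifted cohomology. -/
theorem of_bounded_homology :
    ∀ (d : ℕ) (a : ℤ) (K : Dual.D A), DerivedCategory.IsGE K a → AboveZero (a + d) K →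
      (∀ i, P ((Dual.inD A (Dual.HD A K i))⟦-i⟧)) → P K := by
  intro d
  induction d with
  | zero => intro a K hGE hK _; exact hzero (isZero_of_isGE_of_aboveZero hGE (by simpa using hK))
  | succ d ih =>
    intro a K hGE hK h
    obtain ⟨T, Y, hT, h2, h₁, ⟨e⟩, ⟨eY⟩, hlow⟩ := exists_top_triangle K (a + d)
      (hK.mono (by push_cast; omega))
    subst h2
    refine hext T hT (ih a T.obj₁ ?_ h₁ fun i => ?_) (hiso e.symm ?_)
    · refine (DerivedCategory.isGE_iff T.obj₁ a).2 fun i hi => ?_
      rcases lt_or_ge i (a + d) with hi' | hi'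
      · obtain ⟨e'⟩ := hlow i hi'
        exact (DerivedCategory.isZero_of_isGE T.obj₂ a i hi).of_iso e'
      · omega
    · rcases lt_or_ge i (a + d) with hi' | hi'
      · obtain ⟨e'⟩ := hlow i hi'
        exact hiso ((shiftFunctor (Dual.D A) (-i)).mapIso
          ((DerivedCategory.singleFunctor (ModuleCat.{u} A) 0).mapIso e'.symm)) (h i)
      · exact hzero (Functor.map_isZero _ (Functor.map_isZero _ (h₁ i hi')))
    · exact hiso ((shiftFunctor (Dual.D A) (-(a + d))).mapIso
          ((DerivedCategory.singleFunctor (ModuleCat.{u} A) 0).mapIso eY.symm)) (h (a + d))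

theorem perf_of_isZero (hΦ : ProjClass Φ) {K : Dual.D A} (h : IsZero K) : Perf Φ K :=
  ⟨_, bdd_zero hΦ, ⟨(DerivedCategory.Q.map_isZero HomologicalComplex.isZero_zero).iso h⟩⟩

end Groth.Agent.DRingLib
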