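import Groth.Agent.DRingLib.TensorAmp
import Groth.Agent.DRingLib.Perfect
import Groth.Agent.DRingLib.FlatCoker
import Groth.Agent.DRingLib.BaseChange
import Mathlib.Algebra.Homology.DerivedCategory.DerivabilityStructureInjectives
import Mathlib.Algebra.Category.ModuleCat.EnoughInjectives

/-!
# Projective and injective amplitude
-/

set_option autoImplicit false
set_option linter.style.haveILetI false
set_option backward.isDefEq.respectTransparency false

universe u

open CategoryTheory Limits Pretriangulated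
attribute [local instance] HasDerivedCategory.standard

noncomputable section

namespace Groth.Agent.DRingLib

open Groth.Agent.DCohLib

variable {A : Type u} [CommRing A]

/-- `M` in degree `n`. -/
abbrev sng (n : ℤ) (M : ModuleCat.{u} A) : DRing.Cx A :=
  (HomologicalComplex.single (ModuleCat.{u} A) (ComplexShape.up ℤ) n).obj M

theorem isZero_sng (n : ℤ) (M : ModuleCat.{u} A) {i : ℤ} (hi : i ≠ n) : IsZero ((sng n M).X i) :=
  HomologicalComplex.isZero_single_obj_X _ _ _ _ hi

/-- `N[-n]` is the complex `N` in degree `n`. -/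
theorem subsingleton_hom_sng_iff (K : Dual.D A) (n : ℤ) (M : ModuleCat.{u} A) :
    Subsingleton (K ⟶ (Dual.inD A M)⟦-n⟧) ↔ Subsingleton (K ⟶ DRing.toD (sng n M)) :=
  Equiv.subsingleton_congr (Iso.homCongr (Iso.refl K)
    ((shiftFunctor (Dual.D A) (-n)).mapIso (singleQZeroIso M).symm ≪≫ singleQIso n M))

theorem subsingleton_sng_hom_iff (K : Dual.D A) (n : ℤ) (M : ModuleCat.{u} A) :
    Subsingleton (Dual.inD A M ⟶ K⟦n⟧) ↔ Subsingleton (DRing.toD (sng n M) ⟶ K) :=
  Equiv.subsingleton_congr ((Functor.FullyFaithful.ofFullyFaithful (shiftFunctor (Dual.D A) (-n))).homEquiv.trans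
    (Iso.homCongr ((shiftFunctor (Dual.D A) (-n)).mapIso (singleQZeroIso M).symm ≪≫ singleQIso n M)
      ((shiftEquiv (Dual.D A) n).unitIso.symm.app K)))

theorem quotient_eq_zero_of_isKProjective {P S : DRing.Cx A} [P.IsKProjective]
    (h : Subsingleton (DRing.toD P ⟶ DRing.toD S)) (φ : P ⟶ S) :
    (HomotopyCategory.quotient _ _).map φ = 0 :=
  (CochainComplex.IsKProjective.Qh_map_bijective P
    ((HomotopyCategory.quotient (ModuleCat.{u} A) (ComplexShape.up ℤ)).obj S)).1
    (((h.elim (DerivedCategory.Q.map φ) 0) : DerivedCategory.Q.map φ = 0).trans (Functor.map_zero _ _ _).symm)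

theorem quotient_eq_zero_of_isKInjective {P S : DRing.Cx A} [S.IsKInjective]
    (h : Subsingleton (DRing.toD P ⟶ DRing.toD S)) (φ : P ⟶ S) :
    (HomotopyCategory.quotient _ _).map φ = 0 :=
  (CochainComplex.IsKInjective.Qh_map_bijective
    ((HomotopyCategory.quotient (ModuleCat.{u} A) (ComplexShape.up ℤ)).obj P) S).1
    (((h.elim (DerivedCategory.Q.map φ) 0) : DerivedCategory.Q.map φ = 0).trans (Functor.map_zero _ _ _).symm)

theorem subsingleton_of_isKProjective {P : DRing.Cx A} [P.IsKProjective] (n : ℤ) (M : ModuleCat.{u} A)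
    (hP : IsZero (P.X n)) : Subsingleton (DRing.toD P ⟶ DRing.toD (sng n M)) := by
  have h0 : ∀ φ : P ⟶ sng n M, φ = 0 := fun φ => HomologicalComplex.hom_ext _ _ fun i => by
    by_cases hi : i = n
    · subst hi; exact hP.eq_of_src _ _
    · exact (isZero_sng n M hi).eq_of_tgt _ _
  refine subsingleton_of_forall_eq 0 fun f => ?_
  obtain ⟨g, rfl⟩ := (CochainComplex.IsKProjective.Qh_map_bijective P
    ((HomotopyCategory.quotient (ModuleCat.{u} A) (ComplexShape.up ℤ)).obj (sng n M))).2 f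
  obtain ⟨φ, rfl⟩ := (HomotopyCategory.quotient _ _).map_surjective g
  rw [h0 φ, Functor.map_zero, Functor.map_zero]

theorem subsingleton_of_isKInjective {E : DRing.Cx A} [E.IsKInjective] (n : ℤ) (M : ModuleCat.{u} A)
    (hE : IsZero (E.X n)) : Subsingleton (DRing.toD (sng n M) ⟶ DRing.toD E) := by
  have h0 : ∀ φ : sng n M ⟶ E, φ = 0 := fun φ => HomologicalComplex.hom_ext _ _ fun i => by
    by_cases hi : i = n
    · subst hi; exact hE.eq_of_tgt _ _
    · exact (isZero_sng n M hi).eq_of_src _ _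
  refine subsingleton_of_forall_eq 0 fun f => ?_
  obtain ⟨g, rfl⟩ := (CochainComplex.IsKInjective.Qh_map_bijective
    ((HomotopyCategory.quotient (ModuleCat.{u} A) (ComplexShape.up ℤ)).obj (sng n M)) E).2 f
  obtain ⟨φ, rfl⟩ := (HomotopyCategory.quotient _ _).map_surjective g
  rw [h0 φ, Functor.map_zero, Functor.map_zero]

/-- A map out of degree `n` killing boundaries extends along the differential. -/
theorem exists_extend_of_null {P : DRing.Cx A} (n : ℤ) (M : ModuleCat.{u} A)
    (h : ∀ φ : P ⟶ sng n M, (HomotopyCategory.quotient _ _).map φ = 0) (f : P.X n ⟶ M)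
    (hf : P.d (n - 1) n ≫ f = 0) : ∃ g : P.X (n + 1) ⟶ M, P.d n (n + 1) ≫ g = f := by
  let φ : P ⟶ sng n M := HomologicalComplex.mkHomToSingle f fun i hi => by
    obtain rfl : i = n - 1 := by simp only [ComplexShape.up_Rel] at hi; omega
    exact hf
  let H : Homotopy φ 0 := HomotopyCategory.homotopyOfEq _ _ ((h φ).trans (Functor.map_zero _ _ _).symm)
  refine ⟨H.hom (n + 1) n ≫ (HomologicalComplex.singleObjXSelf (ComplexShape.up ℤ) n M).hom, ?_⟩
  have hc := H.comm n
  rw [dNext_eq H.hom (show (ComplexShape.up ℤ).Rel n (n + 1) from rfl),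
    prevD_eq H.hom (show (ComplexShape.up ℤ).Rel (n - 1) n from sub_add_cancel n 1),
    HomologicalComplex.mkHomToSingle_f,
    show (sng n M).d (n - 1) n = 0 from HomologicalComplex.single_obj_d _ _ _ _ _] at hc
  have h2 := congrArg (· ≫ (HomologicalComplex.singleObjXSelf (ComplexShape.up ℤ) n M).hom) hc
  simp only [comp_zero, add_zero, HomologicalComplex.zero_f, Category.assoc, Iso.inv_hom_id,
    Category.comp_id] at h2
  exact h2.symm

/-- A map into the cycles in degree `n` lifts along the differential. -/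
theorem exists_lift_of_null {E : DRing.Cx A} (n : ℤ) (M : ModuleCat.{u} A)
    (h : ∀ φ : sng n M ⟶ E, (HomotopyCategory.quotient _ _).map φ = 0) (f : M ⟶ E.X n)
    (hf : f ≫ E.d n (n + 1) = 0) : ∃ g : M ⟶ E.X (n - 1), g ≫ E.d (n - 1) n = f := by
  let φ : sng n M ⟶ E := HomologicalComplex.mkHomFromSingle f fun i hi => by
    obtain rfl : i = n + 1 := by simp only [ComplexShape.up_Rel] at hi; omega
    exact hf
  let H : Homotopy φ 0 := HomotopyCategory.homotopyOfEq _ _ ((h φ).trans (Functor.map_zero _ _ _).symm)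
  refine ⟨(HomologicalComplex.singleObjXSelf (ComplexShape.up ℤ) n M).inv ≫ H.hom n (n - 1), ?_⟩
  have hc := H.comm n
  rw [dNext_eq H.hom (show (ComplexShape.up ℤ).Rel n (n + 1) from rfl),
    prevD_eq H.hom (show (ComplexShape.up ℤ).Rel (n - 1) n from sub_add_cancel n 1),
    HomologicalComplex.mkHomFromSingle_f,
    show (sng n M).d n (n + 1) = 0 from HomologicalComplex.single_obj_d _ _ _ _ _] at hc
  have h2 := congrArg ((HomologicalComplex.singleObjXSelf (ComplexShape.up ℤ) n M).inv ≫ ·) hc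
  simp only [zero_comp, zero_add, HomologicalComplex.zero_f, add_zero, Iso.inv_hom_id_assoc] at h2
  rw [Category.assoc]
  exact h2.symm

theorem subsingleton_HD_iff (G : DRing.Cx A) (n : ℤ) :
    Subsingleton (Dual.HD A (DRing.toD G) n) ↔
      ∀ x : G.X n, (G.d n (n + 1)).hom x = 0 → ∃ w : G.X (n - 1), (G.d (n - 1) n).hom w = x := by
  exact ModuleCat.isZero_iff_subsingleton.symm.trans
    ((exactAt_iff_isZero_homologyFunctor G n).symm.trans
      ((HomologicalComplex.exactAt_iff' G (n - 1) n (n + 1) (by simp) (by simp)).trans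
        (ShortComplex.moduleCat_exact_iff _)))

theorem isKInjective_sng (n : ℤ) (J : ModuleCat.{u} A) [Injective J] : (sng n J).IsKInjective := by
  haveI : CochainComplex.IsStrictlyGE (sng n J) n :=
    (CochainComplex.isStrictlyGE_iff _ _).2 fun i hi => isZero_sng n J (by omega)
  haveI : ∀ i, Injective ((sng n J).X i) := fun i => by
    by_cases hi : i = n
    · subst hi; exact Injective.of_iso (HomologicalComplex.singleObjXSelf (ComplexShape.up ℤ) i J).symm ‹_›
    · exact (isZero_sng n J hi).injective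
  exact CochainComplex.isKInjective_of_injective _ n

theorem subsingleton_HD_of_hom (K : Dual.D A) (n : ℤ)
    (h : ∀ M : ModuleCat.{u} A, Subsingleton (K ⟶ (Dual.inD A M)⟦-n⟧)) : Subsingleton (Dual.HD A K n) := by
  obtain ⟨G, ⟨e⟩⟩ : ∃ G : DRing.Cx A, Nonempty (DRing.toD G ≅ K) :=
    ⟨_, ⟨DerivedCategory.Q.objObjPreimageIso K⟩⟩
  suffices h' : Subsingleton (Dual.HD A (DRing.toD G) n) by
    exact ((DerivedCategory.homologyFunctor (ModuleCat.{u} A) n).mapIso e).toLinearEquiv.toEquiv.subsingleton_congr.1 h'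
  rw [subsingleton_HD_iff]
  intro x hx
  let Q₀ := ModuleCat.of A (G.X n ⧸ LinearMap.range (G.d (n - 1) n).hom)
  let J := Injective.under Q₀
  haveI := isKInjective_sng n J
  have hs : Subsingleton (DRing.toD G ⟶ DRing.toD (sng n J)) :=
    (subsingleton_hom_sng_iff _ n J).1 (e.homFromEquiv.subsingleton_congr.2 (h J))
  obtain ⟨g, hg⟩ := exists_extend_of_null n J (quotient_eq_zero_of_isKInjective hs)
    (ModuleCat.ofHom (LinearMap.range (G.d (n - 1) n).hom).mkQ ≫ Injective.ι Q₀) (by
      rw [← Category.assoc, show G.d (n - 1) n ≫ ModuleCat.ofHom (LinearMap.range (G.d (n - 1) n).hom).mkQ = 0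
        from ModuleCat.hom_ext (LinearMap.exact_map_mkQ_range _).linearMap_comp_eq_zero, zero_comp])
  have h0 : (Injective.ι Q₀).hom (Submodule.Quotient.mk x) = 0 := by
    refine (show _ = (g.hom ((G.d n (n + 1)).hom x)) from congr($(hg.symm).hom x)).trans ?_
    rw [hx, map_zero]
  exact (Submodule.Quotient.mk_eq_zero _).1
    ((ModuleCat.mono_iff_injective (Injective.ι Q₀)).1 inferInstance (h0.trans (map_zero _).symm))

theorem subsingleton_hom_of_projAmp {P : DRing.Cx A} {a b : ℤ} (hP : DRing.VanishesOutside P a b)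
    (hPp : ∀ i, Module.Projective A (P.X i)) {K : Dual.D A} (e : DRing.toD P ≅ K) (M : ModuleCat.{u} A) (i : ℤ)
    (hi : i < -b ∨ -a < i) : Subsingleton (K ⟶ (Dual.inD A M)⟦i⟧) := by
  haveI := isKProjective_of_vanishesAbove (b := b) (fun j hj => hP j (Or.inr hj)) hPp
  obtain ⟨n, rfl⟩ : ∃ n, i = -n := ⟨-i, (neg_neg i).symm⟩
  rw [subsingleton_hom_sng_iff]
  exact e.homFromEquiv.subsingleton_congr.1 (subsingleton_of_isKProjective n M (hP n (by omega)))

theorem exists_projAmp {K : Dual.D A} {a b : ℤ}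
    (hK : ∀ n : ℤ, (n < a - 1 ∨ b < n) → Subsingleton (Dual.HD A K n))
    (h : ∀ M : ModuleCat.{u} A, Subsingleton (K ⟶ (Dual.inD A M)⟦-a + 1⟧)) :
    ∃ P : DRing.Cx A, DRing.VanishesOutside P a b ∧ (∀ i, Module.Projective A (P.X i)) ∧
      Nonempty (DRing.toD P ≅ K) := by
  obtain ⟨N, hb, hNp, ⟨e⟩⟩ := exists_proj_representative (K := K) (n := b) fun i hi =>
    ModuleCat.isZero_iff_subsingleton.2 (hK i (Or.inr (by omega)))
  haveI := isKProjective_of_vanishesAbove hb hNp
  let R₀ := LinearMap.range (N.d (a - 1 - 1) (a - 1)).hom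
  let Q₀ := ModuleCat.of A (N.X (a - 1) ⧸ R₀)
  obtain ⟨g, hg⟩ := exists_extend_of_null (a - 1) Q₀ (quotient_eq_zero_of_isKProjective
      (e.homFromEquiv.subsingleton_congr.2 ((subsingleton_hom_sng_iff K (a - 1) Q₀).1 (by
        rw [neg_sub, sub_eq_add_neg, add_comm]
        exact h Q₀))))
    (ModuleCat.ofHom R₀.mkQ) (ModuleCat.hom_ext (LinearMap.exact_map_mkQ_range _).linearMap_comp_eq_zero)
  have hGE : N.IsGE a := (CochainComplex.isGE_iff _ _).2 fun i hi => by
    rw [exactAt_iff_isZero_homologyFunctor]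
    refine IsZero.of_iso (ModuleCat.isZero_iff_subsingleton.2 ?_) ((DerivedCategory.homologyFunctor _ i).mapIso e)
    rcases lt_or_eq_of_le (show i ≤ a - 1 by omega) with hi' | rfl
    · exact hK i (Or.inl hi')
    · refine ((DerivedCategory.homologyFunctor (ModuleCat.{u} A) (a - 1)).mapIso e).toLinearEquiv.toEquiv.subsingleton_congr.1 ?_
      rw [subsingleton_HD_iff]
      intro x hx
      have hx0 : R₀.mkQ x = 0 :=
        (show _ = g.hom ((N.d (a - 1) (a - 1 + 1)).hom x) from congr($(hg.symm).hom x)).trans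
          (by rw [hx, map_zero])
      exact (Submodule.Quotient.mk_eq_zero R₀).1 hx0
  haveI := isIso_Q_map (N.πTruncGE a) inferInstance
  refine ⟨N.truncGE a, fun i hi => ?_, fun i => ?_,
    ⟨(asIso (DerivedCategory.Q.map (N.πTruncGE a))).symm ≪≫ e⟩⟩
  · rcases lt_or_ge i a with hia | hia
    · exact CochainComplex.isZero_of_isStrictlyGE _ a i hia
    · have hib : b < i := hi.resolve_left (by omega)
      rcases lt_or_eq_of_le hia with hai | hai
      · exact (hb i hib).of_iso (N.truncGEXIso a i hai)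
      · subst hai
        obtain ⟨e'⟩ := opcycles_equiv N a
        haveI : Subsingleton (N.X a) := ModuleCat.subsingleton_of_isZero (hb a hib)
        haveI : Subsingleton (N.X a ⧸ LinearMap.range (N.d (a - 1) a).hom) :=
          (Submodule.Quotient.mk_surjective _).subsingleton
        exact IsZero.of_iso (ModuleCat.isZero_iff_subsingleton.2 e'.symm.toEquiv.subsingleton)
          (N.truncGEXIsoOpcycles a)
  · rcases lt_trichotomy i a with hi | rfl | hi
    · haveI := ModuleCat.subsingleton_of_isZero (CochainComplex.isZero_of_isStrictlyGE (N.truncGE a) a i hi)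
      exact inferInstance
    · obtain ⟨e'⟩ := opcycles_equiv N i
      haveI := hNp i
      have hcast : ∀ j, j = i → ∀ g' : N.X j ⟶ Q₀, (N.d (i - 1) j ≫ g' = ModuleCat.ofHom R₀.mkQ) →
          ∃ g'' : N.X i ⟶ Q₀, N.d (i - 1) i ≫ g'' = ModuleCat.ofHom R₀.mkQ := by
        rintro j rfl g' h'
        exact ⟨g', h'⟩
      obtain ⟨g', hg'⟩ := hcast _ (by omega) g hg
      let dbar : Q₀ →ₗ[A] N.X i := R₀.liftQ (N.d (i - 1) i).hom (by
        rintro _ ⟨w, rfl⟩
        exact congr($(N.d_comp_d (i - 1 - 1) (i - 1) i).hom w))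
      let r : N.X i →ₗ[A] N.X i := LinearMap.id - dbar ∘ₗ g'.hom
      let R₁ := LinearMap.range (N.d (i - 1) i).hom
      have hr : R₁ ≤ LinearMap.ker r := by
        rintro _ ⟨w, rfl⟩
        have hw : g'.hom ((N.d (i - 1) i).hom w) = R₀.mkQ w := congr($(hg').hom w)
        simp [r, hw, dbar]
        exact sub_self _
      haveI : Module.Projective A (N.X i ⧸ R₁) := by
        refine Module.Projective.of_split (R₁.liftQ r hr) R₁.mkQ (LinearMap.ext fun y => ?_)
        obtain ⟨y, rfl⟩ := Submodule.Quotient.mk_surjective _ y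
        have hdg : dbar (g'.hom y) ∈ R₁ := by
          obtain ⟨w, hw⟩ := Submodule.Quotient.mk_surjective _ (g'.hom y)
          rw [← hw]
          exact ⟨w, rfl⟩
        show Submodule.Quotient.mk (y - dbar (g'.hom y)) = Submodule.Quotient.mk y
        rw [Submodule.Quotient.eq, sub_sub_cancel_left]
        exact R₁.neg_mem hdg
      exact Module.Projective.of_equiv (e'.trans (N.truncGEXIsoOpcycles i).symm.toLinearEquiv)
    · haveI := hNp i
      exact Module.Projective.of_equiv (N.truncGEXIso a i hi).symm.toLinearEquiv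

theorem projAmp_tfae (K : Dual.D A) (a b : ℤ) :
    [∃ P : DRing.Cx A, DRing.VanishesOutside P a b ∧ (∀ i : ℤ, Module.Projective A (P.X i)) ∧
        Nonempty (DRing.toD P ≅ K),
      ∀ (N : Type u) [AddCommGroup N] [Module A N] (i : ℤ), (i < -b ∨ -a < i) →
        Subsingleton (DRing.ExtD A K (Dual.inD A N) i),
      (∀ n : ℤ, b < n → Subsingleton (Dual.HD A K n)) ∧
        ∀ (N : Type u) [AddCommGroup N] [Module A N] (i : ℤ), -a < i → Subsingleton (DRing.ExtD A K (Dual.inD A N) i),
      (∀ n : ℤ, (n < a - 1 ∨ b < n) → Subsingleton (Dual.HD A K n)) ∧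
        ∀ (N : Type u) [AddCommGroup N] [Module A N], Subsingleton (DRing.ExtD A K (Dual.inD A N) (-a + 1))].TFAE := by
  tfae_have 1 → 2 := fun ⟨P, hP, hPp, ⟨e⟩⟩ N _ _ i hi => subsingleton_hom_of_projAmp hP hPp e (ModuleCat.of A N) i hi
  tfae_have 2 → 3 := fun h =>
    ⟨fun n hn => subsingleton_HD_of_hom K n fun M => h M (-n) (Or.inl (by omega)),
      fun N _ _ i hi => h N i (Or.inr hi)⟩
  tfae_have 3 → 4 := fun h =>
    ⟨fun n hn => hn.elim (fun hn => subsingleton_HD_of_hom K n fun M => h.2 M (-n) (by omega)) (h.1 n),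
      fun N _ _ => h.2 N (-a + 1) (by omega)⟩
  tfae_have 4 → 1 := fun h => exists_projAmp h.1 fun M => h.2 M
  tfae_finish

theorem subsingleton_hom_of_injAmp {K : Dual.D A} {a b : ℤ} (h : DRing.HasInjAmplitudeIn A a b K)
    (M : ModuleCat.{u} A) (i : ℤ) (hi : i < a ∨ b < i) : Subsingleton (Dual.inD A M ⟶ K⟦i⟧) := by
  obtain ⟨E, hE, hEi, ⟨e⟩⟩ := h
  haveI : ∀ j, Injective (E.X j) := fun j =>
    (Module.injective_iff_injective_object A (E.X j)).1 (hEi j)
  haveI : CochainComplex.IsStrictlyGE E a := (CochainComplex.isStrictlyGE_iff _ _).2 fun j hj => hE j (Or.inl hj)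
  haveI : E.IsKInjective := CochainComplex.isKInjective_of_injective E a
  rw [subsingleton_sng_hom_iff]
  exact e.homToEquiv.subsingleton_congr.1 (subsingleton_of_isKInjective i M (hE i hi))

theorem subsingleton_HD_of_hom_unit (K : Dual.D A) (n : ℤ)
    (h : Subsingleton (Dual.inD A A ⟶ K⟦n⟧)) : Subsingleton (Dual.HD A K n) := by
  obtain ⟨G, ⟨e⟩⟩ : ∃ G : DRing.Cx A, Nonempty (DRing.toD G ≅ K) :=
    ⟨_, ⟨DerivedCategory.Q.objObjPreimageIso K⟩⟩
  suffices h' : Subsingleton (Dual.HD A (DRing.toD G) n) by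
    exact ((DerivedCategory.homologyFunctor (ModuleCat.{u} A) n).mapIso e).toLinearEquiv.toEquiv.subsingleton_congr.1 h'
  rw [subsingleton_HD_iff]
  intro x hx
  have hS : DRing.VanishesAbove (sng n (ModuleCat.of A A)) n := fun i hi => isZero_sng n _ (by omega)
  haveI := isKProjective_of_vanishesAbove hS fun i => by
    by_cases hi : i = n
    · subst hi
      exact Module.Projective.of_equiv
        (HomologicalComplex.singleObjXSelf (ComplexShape.up ℤ) i (ModuleCat.of A A)).symm.toLinearEquiv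
    · haveI := ModuleCat.subsingleton_of_isZero (isZero_sng n (ModuleCat.of A A) hi)
      exact inferInstance
  obtain ⟨g, hg⟩ := exists_lift_of_null n (ModuleCat.of A A) (quotient_eq_zero_of_isKProjective
      (e.homToEquiv.subsingleton_congr.2 ((subsingleton_sng_hom_iff K n _).1 h)))
    (ModuleCat.ofHom (LinearMap.toSpanSingleton A _ x)) (by ext; simp [hx])
  exact ⟨g.hom 1, (congr($(hg).hom (1 : A))).trans (LinearMap.toSpanSingleton_apply_one _ _ x)⟩

theorem exists_injAmp {K : Dual.D A} {a b : ℤ}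
    (h : ∀ (I : Ideal A) (i : ℤ), (i < a ∨ b < i) → Subsingleton (Dual.inD A (A ⧸ I) ⟶ K⟦i⟧)) :
    DRing.HasInjAmplitudeIn A a b K := by
  have hH : ∀ n : ℤ, (n < a ∨ b < n) → Subsingleton (Dual.HD A K n) := fun n hn => by
    refine subsingleton_HD_of_hom_unit K n ?_
    haveI := h ⊥ n hn
    exact (((DerivedCategory.singleFunctor (ModuleCat.{u} A) 0).mapIso
      (Submodule.quotEquivOfEqBot (⊥ : Ideal A) rfl).toModuleIso).homFromEquiv (Z := K⟦n⟧)).subsingleton_congr.1
      inferInstance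
  obtain ⟨G, ⟨e₀⟩⟩ : ∃ G : DRing.Cx A, Nonempty (DRing.toD G ≅ K) :=
    ⟨_, ⟨DerivedCategory.Q.objObjPreimageIso K⟩⟩
  haveI : G.IsGE a := (CochainComplex.isGE_iff _ _).2 fun i hi => by
    rw [exactAt_iff_isZero_homologyFunctor]
    exact IsZero.of_iso (ModuleCat.isZero_iff_subsingleton.2 (hH i (Or.inl hi)))
      ((DerivedCategory.homologyFunctor _ i).mapIso e₀)
  haveI := isIso_Q_map (G.πTruncGE a) inferInstance
  obtain ⟨E, ι, hι, hE, hEa⟩ : ∃ (E : DRing.Cx A) (ι : G.truncGE a ⟶ E), QuasiIso ι ∧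
      (∀ n, Injective (E.X n)) ∧ E.IsStrictlyGE a := by
    obtain ⟨L, ι, h1, h2, h3⟩ := CochainComplex.Plus.modelCategoryQuillen.exists_quasiIso_injective (G.truncGE a) a
    exact ⟨L, ι, h1, h2, h3⟩
  haveI := hι
  haveI := hE
  haveI := hEa
  haveI : E.IsKInjective := CochainComplex.isKInjective_of_injective E a
  haveI := isIso_Q_map ι inferInstance
  let e : DRing.toD E ≅ K := (asIso (DerivedCategory.Q.map ι)).symm ≪≫
    (asIso (DerivedCategory.Q.map (G.πTruncGE a))).symm ≪≫ e₀
  haveI : E.IsLE b := (CochainComplex.isLE_iff _ _).2 fun i hi => by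
    rw [exactAt_iff_isZero_homologyFunctor]
    exact IsZero.of_iso (ModuleCat.isZero_iff_subsingleton.2 (hH i (Or.inr hi)))
      ((DerivedCategory.homologyFunctor _ i).mapIso e)
  haveI := isIso_Q_map (E.ιTruncLE b) inferInstance
  have hker : Module.Injective A (LinearMap.ker (E.d b (b + 1)).hom) := by
    refine Module.Baer.injective fun I g => ?_
    have hEb : Module.Injective A (E.X b) := (Module.injective_iff_injective_object A (E.X b)).2 (hE b)
    obtain ⟨hh, hhg⟩ := hEb.out I.subtype Subtype.val_injective ((LinearMap.ker _).subtype ∘ₗ g)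
    have hI : I ≤ LinearMap.ker ((E.d b (b + 1)).hom ∘ₗ hh) := fun x hx => by
      show (E.d b (b + 1)).hom (hh x) = 0
      rw [show hh x = (g ⟨x, hx⟩).1 from hhg ⟨x, hx⟩]
      exact (g ⟨x, hx⟩).2
    obtain ⟨k, hk⟩ := exists_lift_of_null (b + 1) (ModuleCat.of A (A ⧸ I)) (quotient_eq_zero_of_isKInjective
        (e.homToEquiv.subsingleton_congr.2 ((subsingleton_sng_hom_iff K (b + 1) _).1 (h I (b + 1) (Or.inr (by omega))))))
      (ModuleCat.ofHom (I.liftQ _ hI)) (by
        refine ModuleCat.hom_ext (Submodule.linearMap_qext _ (LinearMap.ext fun x => ?_))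
        exact congr($(E.d_comp_d b (b + 1) (b + 1 + 1)).hom (hh x)))
    have hcast : ∀ j, j = b → ∀ k' : ModuleCat.of A (A ⧸ I) ⟶ E.X j,
        k' ≫ E.d j (b + 1) = ModuleCat.ofHom (I.liftQ _ hI) →
        ∃ k'' : ModuleCat.of A (A ⧸ I) ⟶ E.X b, k'' ≫ E.d b (b + 1) = ModuleCat.ofHom (I.liftQ _ hI) := by
      rintro j rfl k' h'
      exact ⟨k', h'⟩
    obtain ⟨k', hk'⟩ := hcast _ (by omega) k hk
    refine ⟨LinearMap.codRestrict _ (hh - k'.hom ∘ₗ I.mkQ) fun x => ?_, fun x hx => Subtype.ext ?_⟩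
    · show (E.d b (b + 1)).hom (hh x - k'.hom (Submodule.Quotient.mk x)) = 0
      rw [map_sub, show (E.d b (b + 1)).hom (k'.hom (Submodule.Quotient.mk x)) = (E.d b (b + 1)).hom (hh x) from
        congr($(hk').hom (Submodule.Quotient.mk x)), sub_self]
    · show hh x - k'.hom (Submodule.Quotient.mk x) = (g ⟨x, hx⟩).1
      rw [(Submodule.Quotient.mk_eq_zero I).2 hx, map_zero, sub_zero]
      exact hhg ⟨x, hx⟩
  refine ⟨E.truncLE b, fun i hi => ?_, fun i => ?_, ⟨asIso (DerivedCategory.Q.map (E.ιTruncLE b)) ≪≫ e⟩⟩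
  · rcases le_or_gt i b with hib | hib
    · have hia : i < a := hi.resolve_right (by omega)
      rcases lt_or_eq_of_le hib with hib' | rfl
      · exact (E.isZero_of_isStrictlyGE a i hia).of_iso (E.truncLEXIso b i hib')
      · haveI := ModuleCat.subsingleton_of_isZero (E.isZero_of_isStrictlyGE a i hia)
        haveI : Subsingleton (ModuleCat.kernelCone (E.d i (i + 1))).pt :=
          inferInstanceAs (Subsingleton (LinearMap.ker (E.d i (i + 1)).hom))
        exact IsZero.of_iso (ModuleCat.isZero_iff_subsingleton.2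
            ((E.cyclesIsKernel i (i + 1) (by simp)).conePointUniqueUpToIso
              (ModuleCat.kernelIsLimit (E.d i (i + 1)))).toLinearEquiv.toEquiv.subsingleton)
          (E.truncLEXIsoCycles i)
    · exact CochainComplex.isZero_of_isStrictlyLE _ b i hib
  · show Module.Injective A ((E.truncLE b).X i)
    rw [Module.injective_iff_injective_object]
    rcases lt_trichotomy i b with hi | rfl | hi
    · exact Injective.of_iso (E.truncLEXIso b i hi).symm (hE i)
    · refine Injective.of_iso (E.truncLEXIsoCycles i).symm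
        (Injective.of_iso ((E.cyclesIsKernel i (i + 1) (by simp)).conePointUniqueUpToIso
          (ModuleCat.kernelIsLimit (E.d i (i + 1)))).symm ?_)
      exact (Module.injective_iff_injective_object A _).1 hker
    · exact (CochainComplex.isZero_of_isStrictlyLE (E.truncLE b) b i hi).injective

theorem injAmp_tfae (K : Dual.D A) (a b : ℤ) :
    [DRing.HasInjAmplitudeIn A a b K,
      ∀ (N : Type u) [AddCommGroup N] [Module A N] (i : ℤ), (i < a ∨ b < i) →
        Subsingleton (DRing.ExtD A (Dual.inD A N) K i),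
      ∀ (I : Ideal A) (i : ℤ), (i < a ∨ b < i) → Subsingleton (DRing.ExtD A (Dual.inD A (A ⧸ I)) K i)].TFAE := by
  tfae_have 1 → 2 := fun h N _ _ i hi => subsingleton_hom_of_injAmp h (ModuleCat.of A N) i hi
  tfae_have 2 → 3 := fun h I i hi => h (A ⧸ I) i hi
  tfae_have 3 → 1 := exists_injAmp
  tfae_finish

theorem injAmp_mono {K : Dual.D A} {a b a' b' : ℤ} (h : DRing.HasInjAmplitudeIn A a b K) (ha : a' ≤ a)
    (hb : b ≤ b') : DRing.HasInjAmplitudeIn A a' b' K := by
  obtain ⟨E, hE, hEi, he⟩ := h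
  exact ⟨E, fun i hi => hE i (by omega), hEi, he⟩

theorem finiteInjDim_of_iso {K L : Dual.D A} (e : K ≅ L) (h : DRing.HasFiniteInjDim A K) :
    DRing.HasFiniteInjDim A L := by
  obtain ⟨a, b, E, hE, hEi, ⟨e'⟩⟩ := h
  exact ⟨a, b, E, hE, hEi, ⟨e' ≪≫ e⟩⟩

theorem finiteInjDim_of_isZero {K : Dual.D A} (h : IsZero K) : DRing.HasFiniteInjDim A K :=
  ⟨0, 0, HomologicalComplex.zero, fun _ _ => isZero_zero _,
    fun i => (Module.injective_iff_injective_object A _).2
      (show Injective ((HomologicalComplex.zero : DRing.Cx A).X i) from (isZero_zero _).injective),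
    ⟨(DerivedCategory.Q.map_isZero HomologicalComplex.isZero_zero).iso h⟩⟩

theorem finiteInjDim_obj₂ (T : Triangle (Dual.D A)) (hT : T ∈ distTriang _)
    (h₁ : DRing.HasFiniteInjDim A T.obj₁) (h₃ : DRing.HasFiniteInjDim A T.obj₃) :
    DRing.HasFiniteInjDim A T.obj₂ := by
  obtain ⟨a₁, b₁, h₁⟩ := h₁
  obtain ⟨a₃, b₃, h₃⟩ := h₃
  refine ⟨min a₁ a₃, max b₁ b₃, exists_injAmp fun I i hi => subsingleton_of_forall_eq 0 fun f => ?_⟩
  haveI := subsingleton_hom_of_injAmp h₁ (ModuleCat.of A (A ⧸ I)) i (by omega)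
  haveI := subsingleton_hom_of_injAmp h₃ (ModuleCat.of A (A ⧸ I)) i (by omega)
  obtain ⟨g, rfl⟩ := Triangle.coyoneda_exact₂ _ (Triangle.shift_distinguished T hT i) f
    ((show Subsingleton (Dual.inD A (A ⧸ I) ⟶ T.obj₃⟦i⟧) by assumption).elim _ _)
  rw [(show Subsingleton (Dual.inD A (A ⧸ I) ⟶ T.obj₁⟦i⟧) by assumption).elim g 0, zero_comp]

theorem finiteInjDim_shift {K : Dual.D A} (h : DRing.HasFiniteInjDim A K) (n : ℤ) :
    DRing.HasFiniteInjDim A (K⟦n⟧) := by
  obtain ⟨a, b, E, hE, hEi, ⟨e⟩⟩ := h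
  exact ⟨a - n, b - n, E⟦n⟧, fun i hi => hE (i + n) (by omega), fun i => hEi (i + n),
    ⟨(DerivedCategory.Q.commShiftIso n).app E ≪≫ (CategoryTheory.shiftFunctor (Dual.D A) n).mapIso e⟩⟩

theorem finiteInjDim_of_bounded :
    (∀ (K : Dual.D A), (∃ a b : ℤ, ∀ i : ℤ, (i < a ∨ b < i) → Subsingleton (Dual.HD A K i)) →
        (∀ i : ℤ, DRing.HasFiniteInjDim A (Dual.inD A (Dual.HD A K i))) → DRing.HasFiniteInjDim A K) ∧
      (∀ (K : DRing.Cx A) (a b : ℤ), DRing.VanishesOutside K a b →
        (∀ i : ℤ, DRing.HasFiniteInjDim A (Dual.inD A (K.X i))) → DRing.HasFiniteInjDim A (DRing.toD K)) := by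
  constructor
  · rintro K ⟨a, b, hab⟩ h
    exact of_bounded_homology (P := fun L => DRing.HasFiniteInjDim A L) finiteInjDim_of_iso
      finiteInjDim_of_isZero finiteInjDim_obj₂ (b + 1 - a).toNat a K
      ((DerivedCategory.isGE_iff K a).2 fun i hi => ModuleCat.isZero_iff_subsingleton.2 (hab i (Or.inl hi)))
      (fun i hi => ModuleCat.isZero_iff_subsingleton.2 (hab i (Or.inr (by omega))))
      fun i => finiteInjDim_shift (h i) (-i)
  · intro K a b hab h
    exact of_bounded_terms (P := fun L => DRing.HasFiniteInjDim A L) finiteInjDim_of_iso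
      finiteInjDim_of_isZero finiteInjDim_obj₂ hab fun i => finiteInjDim_shift (h i) (-i)

end Groth.Agent.DRingLib
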