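import Groth.Agent.DRingLib.Descent
import Groth.Agent.DRingLib.PerfTor
import Groth.Agent.DRingLib.FlatBC
import Mathlib.LinearAlgebra.Charpoly.Basic

/-!
# Perfectness from the fibres at the maximal ideals
-/

set_option autoImplicit false
set_option linter.style.haveILetI false
set_option backward.isDefEq.respectTransparency false

universe u

open CategoryTheory Limits MonoidalCategory
open scoped TensorProduct
attribute [local instance] HasDerivedCategory.standard

noncomputable section

namespace Groth.Agent.DRingLib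

open Groth.Agent.DCohLib Groth.Agent.DTenLib

variable {A : Type u} [CommRing A]

/-- A map to a finite projective module which is injective on every fibre is split injective. -/
theorem exists_leftInverse_of_fibres {C F : Type u} [AddCommGroup C] [Module A C] [Module.Finite A C]
    [AddCommGroup F] [Module A F] [Module.Projective A F] (φ : C →ₗ[A] F)
    (h : ∀ m : Ideal A, m.IsMaximal → ∀ c, φ c ∈ m • (⊤ : Submodule A F) → c ∈ m • (⊤ : Submodule A C)) :
    ∃ l : F →ₗ[A] C, l ∘ₗ φ = LinearMap.id := by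
  let I : Submodule A (Module.End A C) := LinearMap.range (LinearMap.lcomp A C φ)
  let J : Ideal A := I.comap (LinearMap.toSpanSingleton A (Module.End A C) LinearMap.id)
  suffices hJ : J = ⊤ by
    obtain ⟨l, hl⟩ : (1 : A) • (LinearMap.id : Module.End A C) ∈ I := (Ideal.eq_top_iff_one J).1 hJ
    exact ⟨l, by rw [show l ∘ₗ φ = LinearMap.lcomp A C φ l from rfl, hl, one_smul]⟩
  by_contra hJ
  obtain ⟨m, hm, hJm⟩ := Ideal.exists_le_maximal J hJ
  letI := Ideal.Quotient.field m
  let C' := C ⧸ (m • (⊤ : Submodule A C))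
  let F' := F ⧸ (m • (⊤ : Submodule A F))
  let φ₀ : C' →ₗ[A] F' := Submodule.mapQ _ _ φ (by
    rw [← Submodule.map_le_iff_le_comap, Submodule.map_smul'']
    exact Submodule.smul_mono le_rfl le_top)
  let φ' : C' →ₗ[A ⧸ m] F' := φ₀.extendScalarsOfSurjective Ideal.Quotient.mk_surjective
  have hinj : LinearMap.ker φ' = ⊥ := LinearMap.ker_eq_bot'.2 fun x hx => by
    obtain ⟨c, rfl⟩ := Submodule.mkQ_surjective _ x
    exact (Submodule.Quotient.mk_eq_zero _).2 (h m hm c ((Submodule.Quotient.mk_eq_zero _).1 hx))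
  obtain ⟨s, hs⟩ := φ'.exists_leftInverse_of_injective hinj
  obtain ⟨l, hl⟩ := Module.projective_lifting_property (m • (⊤ : Submodule A C)).mkQ
    (((s.restrictScalars A).comp (m • (⊤ : Submodule A F)).mkQ)) (Submodule.mkQ_surjective _)
  let g : Module.End A C := l ∘ₗ φ
  have hrange : LinearMap.range (1 - g) ≤ m • (⊤ : Submodule A C) := by
    rintro - ⟨c, rfl⟩
    refine (Submodule.Quotient.mk_eq_zero _).1 ?_
    have h1 := LinearMap.congr_fun hl (φ c)
    have h2 := LinearMap.congr_fun hs (Submodule.Quotient.mk c)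
    show Submodule.Quotient.mk (c - l (φ c)) = 0
    rw [Submodule.Quotient.mk_sub, sub_eq_zero]
    exact h2.symm.trans h1.symm
  obtain ⟨p, hp1, _, hp2, hp3⟩ :=
    LinearMap.exists_monic_and_coeff_mem_pow_and_aeval_eq_zero_of_range_le_smul A (1 - g) m hrange
  obtain ⟨q, hq⟩ : ∃ q : Polynomial A, p - Polynomial.C (p.eval 1) = (Polynomial.X - Polynomial.C 1) * q :=
    Polynomial.X_sub_C_dvd_sub_C_eval
  have hmem : p.eval 1 ∈ J := by
    refine ⟨Polynomial.aeval (1 - g) q ∘ₗ l, ?_⟩
    have h1 := congrArg (Polynomial.aeval (1 - g)) hq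
    rw [map_sub, hp3, map_mul, map_sub, Polynomial.aeval_X, Polynomial.aeval_C, Polynomial.aeval_C,
      map_one, zero_sub, show (1 - g - 1 : Module.End A C) = -g by abel, neg_mul, neg_inj] at h1
    show Polynomial.aeval (1 - g) q * g = p.eval 1 • (1 : Module.End A C)
    rw [← Algebra.algebraMap_eq_smul_one, h1]
    have hg : Polynomial.aeval (1 - g) (1 - Polynomial.X : Polynomial A) = g := by
      rw [map_sub, map_one, Polynomial.aeval_X, sub_sub_cancel]
    calc Polynomial.aeval (1 - g) q * g = Polynomial.aeval (1 - g) (q * (1 - Polynomial.X)) := by rw [map_mul, hg]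
      _ = g * Polynomial.aeval (1 - g) q := by rw [mul_comm q, map_mul, hg]
  refine hm.ne_top ((Ideal.eq_top_iff_one m).2 ?_)
  have hlow : ∀ k ∈ Finset.range p.natDegree, p.coeff k * 1 ^ k ∈ m := fun k hk => by
    rw [one_pow, mul_one]
    have := hp2 k
    exact Ideal.pow_le_self (by simp at hk; omega) this
  have h1 := hJm hmem
  rw [Polynomial.eval_eq_sum_range, Finset.sum_range_succ, hp1.coeff_natDegree, one_pow, mul_one] at h1
  exact (Submodule.add_mem_iff_right m (sum_mem hlow)).1 h1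

variable {E : DRing.Cx A}

theorem exact_lTensor_of_fibres {P₂ P₁ P₀ : Type u} [AddCommGroup P₂] [Module A P₂] [AddCommGroup P₁]
    [Module A P₁] [Module.Finite A P₁] [AddCommGroup P₀] [Module A P₀] [Module.Projective A P₀]
    (f : P₂ →ₗ[A] P₁) (g : P₁ →ₗ[A] P₀) (hfg : g ∘ₗ f = 0)
    (h : ∀ m : Ideal A, m.IsMaximal → Function.Exact (f.lTensor (A ⧸ m)) (g.lTensor (A ⧸ m)))
    (M : Type u) [AddCommGroup M] [Module A M] : Function.Exact (f.lTensor M) (g.lTensor M) := by
  let π := (LinearMap.range f).mkQ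
  let φ : (P₁ ⧸ LinearMap.range f) →ₗ[A] P₀ := (LinearMap.range f).liftQ g (by
    rintro - ⟨x, rfl⟩
    exact LinearMap.congr_fun hfg x)
  obtain ⟨l, hl⟩ := exists_leftInverse_of_fibres φ fun m hm c hc => by
    obtain ⟨x, rfl⟩ := Submodule.mkQ_surjective _ c
    let e : ∀ (P : Type u) [AddCommGroup P] [Module A P], ((A ⧸ m) ⊗[A] P) ≃ₗ[A] P ⧸ (m • (⊤ : Submodule A P)) :=
      fun P _ _ => TensorProduct.quotTensorEquivQuotSMul P m
    have hx : g.lTensor (A ⧸ m) ((1 : A ⧸ m) ⊗ₜ[A] x) = 0 := by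
      refine (e P₀).injective ?_
      rw [map_zero, LinearMap.lTensor_tmul]
      show TensorProduct.quotTensorEquivQuotSMul P₀ m (Ideal.Quotient.mk m 1 ⊗ₜ[A] g x) = 0
      rw [TensorProduct.quotTensorEquivQuotSMul_mk_tmul, one_smul]
      exact (Submodule.Quotient.mk_eq_zero _).2 hc
    obtain ⟨y, hy⟩ := (h m hm _).1 hx
    have key : ∀ y : (A ⧸ m) ⊗[A] P₂, ∃ z, e P₁ (f.lTensor (A ⧸ m) y) = Submodule.Quotient.mk (f z) := by
      intro y
      induction y using TensorProduct.induction_on with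
      | zero => exact ⟨0, by simp⟩
      | tmul r p =>
        obtain ⟨r, rfl⟩ := Ideal.Quotient.mk_surjective r
        refine ⟨r • p, ?_⟩
        rw [LinearMap.lTensor_tmul, map_smul]
        exact TensorProduct.quotTensorEquivQuotSMul_mk_tmul m r (f p)
      | add a b ha hb =>
        obtain ⟨za, ha⟩ := ha
        obtain ⟨zb, hb⟩ := hb
        exact ⟨za + zb, by rw [map_add, map_add, ha, hb, map_add, Submodule.Quotient.mk_add]⟩
    obtain ⟨z, hz⟩ := key y
    rw [hy] at hz
    change TensorProduct.quotTensorEquivQuotSMul P₁ m (Ideal.Quotient.mk m 1 ⊗ₜ[A] x) = _ at hz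
    rw [TensorProduct.quotTensorEquivQuotSMul_mk_tmul, one_smul, Submodule.Quotient.eq] at hz
    have h1 := Submodule.mem_map_of_mem (f := (LinearMap.range f).mkQ) hz
    rw [Submodule.map_smul'', map_sub,
      show (LinearMap.range f).mkQ (f z) = 0 from (Submodule.Quotient.mk_eq_zero _).2 ⟨z, rfl⟩, sub_zero] at h1
    exact Submodule.smul_mono le_rfl le_top h1
  refine LinearMap.exact_iff.2 (le_antisymm (fun x hx => ?_) ?_)
  · refine (lTensor_exact M (LinearMap.exact_map_mkQ_range f) (Submodule.mkQ_surjective _) x).1 ?_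
    have hgπ : g = φ ∘ₗ π := LinearMap.ext fun x => rfl
    rw [LinearMap.mem_ker, hgπ, LinearMap.lTensor_comp_apply] at hx
    have h2 := congrArg (l.lTensor M) hx
    rwa [map_zero, ← LinearMap.lTensor_comp_apply, hl, LinearMap.lTensor_id_apply] at h2
  · rintro - ⟨y, rfl⟩
    rw [LinearMap.mem_ker, ← LinearMap.lTensor_comp_apply, hfg, LinearMap.lTensor_zero, LinearMap.zero_apply]

variable [∀ m : Ideal A, DRing.HasLBaseChange (Ideal.Quotient.mk m)]

theorem exact_fibre_of_vanishing {E : DRing.Cx A} {K : Dual.D A} (hE : DRing.IsKFlat A E)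
    (e : DRing.toD E ≅ K) (m : Ideal A) {i : ℤ}
    (h : Subsingleton (Dual.HD (A ⧸ m) ((DRing.LBaseChange (Ideal.Quotient.mk m)).obj K) i)) :
    Function.Exact ((E.d (i - 1) i).hom.lTensor (A ⧸ m)) ((E.d i (i + 1)).hom.lTensor (A ⧸ m)) := by
  let φ := Ideal.Quotient.mk m
  let e₁ : (DRing.LBaseChange φ).obj K ≅ DRing.toD ((DTen.extCx φ).obj E) :=
    (DRing.LBaseChange φ).mapIso e.symm ≪≫ lbcIso φ E hE
  haveI := h
  have hex : ((DTen.extCx φ).obj E).ExactAt i := (exactAt_iff_isZero_homologyFunctor _ i).2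
    ((ModuleCat.isZero_of_subsingleton _).of_iso ((DerivedCategory.homologyFunctor _ i).mapIso e₁.symm))
  have h1 : ((tensM (baseMod φ)).obj E).ExactAt i := by
    refine HomologicalComplex.ExactAt.of_iso ?_
      ((NatIso.mapHomologicalComplex (extResIso φ) (ComplexShape.up ℤ)).app E)
    rw [HomologicalComplex.exactAt_iff] at hex ⊢
    exact hex.map (ModuleCat.restrictScalars.{u} φ)
  rw [HomologicalComplex.exactAt_iff' _ (i - 1) i (i + 1) (by simp) (by simp),
    ShortComplex.ShortExact.moduleCat_exact_iff_function_exact] at h1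
  let e₂ := baseModEquiv A (A ⧸ m)
  exact (Function.Exact.iff_of_ladder_linearEquiv
    (f₁₂ := (E.d (i - 1) i).hom.lTensor (baseMod φ)) (f₂₃ := (E.d i (i + 1)).hom.lTensor (baseMod φ))
    (e₁ := TensorProduct.congr e₂ (LinearEquiv.refl A _))
    (e₂ := TensorProduct.congr e₂ (LinearEquiv.refl A _)) (e₃ := TensorProduct.congr e₂ (LinearEquiv.refl A _))
    (TensorProduct.ext' fun x y => rfl) (TensorProduct.ext' fun x y => rfl)).2 h1

/-- Perfectness and tor amplitude from the fibres at the maximal ideals. -/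
theorem perfect_of_fibres {K : Dual.D A} (hK : DRing.IsPseudoCoherent' A K) (a b : ℤ)
    (h : ∀ (m : Ideal A), m.IsMaximal → ∀ i : ℤ, (i < a ∨ b < i) →
      Subsingleton (Dual.HD (A ⧸ m) ((DRing.LBaseChange (Ideal.Quotient.mk m)).obj K) i)) :
    DRing.IsPerfect A K ∧ DRing.HasTorAmplitudeIn A a b K := by
  obtain ⟨E, c, hc, hE, ⟨e⟩⟩ := id hK
  have hEp : ∀ i, Module.Projective A (E.X i) := fun i => (fFree_imp_fProj (hE i)).2
  have hEk := isKFlat_of_projective hc hEp
  have hamp : DRing.HasTorAmplitudeIn A a b K := amp_of_iso e (amp_of_tensVanish hEk fun M i hi => by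
    rw [HomologicalComplex.exactAt_iff' _ (i - 1) i (i + 1) (by simp) (by simp),
      ShortComplex.ShortExact.moduleCat_exact_iff_function_exact]
    haveI := (hE i).1
    haveI := hEp (i + 1)
    exact exact_lTensor_of_fibres (E.d (i - 1) i).hom (E.d i (i + 1)).hom
      (by rw [← ModuleCat.hom_comp, E.d_comp_d]; rfl)
      (fun m hm => exact_fibre_of_vanishing hEk e m (h m hm i hi)) M)
  exact ⟨(isPerfect_iff K).2 ((perf_iff K).2 ⟨hK, a, b, hamp⟩), hamp⟩

end Groth.Agent.DRingLib
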