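import Groth.Agent.DRingLib.HomProj
import Groth.Agent.DRingLib.Perfect
import Groth.Agent.KInj.DerivedCx
import Mathlib.Algebra.Homology.HomotopyCategory.HomComplexSingle
import Mathlib.LinearAlgebra.Dual.Lemmas

/-!
# Duals of perfect complexes
-/

set_option autoImplicit false
set_option linter.style.haveILetI false
set_option backward.isDefEq.respectTransparency false

universe u

open CategoryTheory Limits CochainComplex CochainComplex.HomComplex
attribute [local instance] HasDerivedCategory.standard

noncomputable section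

namespace Groth.Agent.DRingLib

variable {A : Type u} [CommRing A]

section Homotopy

variable (K : DRing.Cx A) {L L' : DRing.Cx A}

/-- Composition with a cochain, as a linear map. -/
def compCochainLin {n i j : ℤ} (γ : Cochain L L' n) (h : i + n = j) :
    Cochain K L i →ₗ[A] Cochain K L' j where
  toFun z := z.comp γ h
  map_add' z z' := by simp
  map_smul' a z := by simp

/-- The functor `Hom•(K, -)` preserves homotopies. -/
def homCxHomotopy {f g : L ⟶ L'} (H : Homotopy f g) : Homotopy (DRing.homCxMap K f) (DRing.homCxMap K g) where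
  hom i j := if h : j + 1 = i then ModuleCat.ofHom (compCochainLin K (Cochain.ofHomotopy H) (show i + (-1) = j by omega))
    else 0
  zero i j h := dif_neg h
  comm i := by
    rw [dNext_eq _ (show (ComplexShape.up ℤ).Rel i (i + 1) from rfl),
      prevD_eq _ (show (ComplexShape.up ℤ).Rel (i - 1) i by simp), dif_pos rfl, dif_pos (by omega)]
    refine ModuleCat.hom_ext (LinearMap.ext fun (z : Cochain K L i) => ?_)
    show z.comp (Cochain.ofHom f) (add_zero i) =
      (δ i (i + 1) z).comp (Cochain.ofHomotopy H) (by omega) +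
        δ (i - 1) i (z.comp (Cochain.ofHomotopy H) (by omega)) + z.comp (Cochain.ofHom g) (add_zero i)
    rw [δ_comp z (Cochain.ofHomotopy H) (show i + (-1) = i - 1 by omega) (i + 1) 0 i (by omega) rfl (by omega),
      δ_ofHomotopy, Cochain.comp_sub]
    simp only [Int.negOnePow_neg, Int.negOnePow_one, Units.neg_smul, one_smul]
    abel

/-- `Hom•(K, -)` on the homotopy category, followed by localisation. -/
def homKhQ : HomotopyCategory (ModuleCat.{u} A) (ComplexShape.up ℤ) ⥤ Dual.D A :=
  CategoryTheory.Quotient.lift _ (DRing.homCxQ K) fun _ _ _ _ ⟨H⟩ =>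
    DerivedCategory.Q_map_eq_of_homotopy (C := ModuleCat.{u} A) (homCxHomotopy K H)

/-- The factorisation through the homotopy category. -/
def homKhQFac : HomotopyCategory.quotient _ _ ⋙ homKhQ K ≅ DRing.homCxQ K :=
  CategoryTheory.Quotient.lift.isLift _ _ _

theorem nonempty_RHomCx_kInjective [DRing.HasRHomCx K] (I : DRing.Cx A) [I.IsKInjective] :
    Nonempty ((DRing.RHomCx K).obj (DRing.toD I) ≅ DRing.toD (DRing.homCx K I)) := by
  haveI := KInj.isIso_app_cx (KInj.hres_of_isGrothendieckAbelian (ModuleCat.{u} A)) (homKhQFac K)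
    (DRing.RHomCx K) ((DRing.homCxQ K).totalRightDerivedUnit DerivedCategory.Q
      (HomologicalComplex.quasiIso (ModuleCat.{u} A) (ComplexShape.up ℤ))) I
  exact ⟨(asIso (((DRing.homCxQ K).totalRightDerivedUnit DerivedCategory.Q
      (HomologicalComplex.quasiIso (ModuleCat.{u} A) (ComplexShape.up ℤ))).app I)).symm⟩

end Homotopy

section Precomp

variable {P E : DRing.Cx A} (s : P ⟶ E) (I : DRing.Cx A)

/-- Precomposition on Hom complexes. -/
def homCxPre : DRing.homCx E I ⟶ DRing.homCx P I where
  f i := ModuleCat.ofHom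
    { toFun := fun (z : Cochain E I i) => (Cochain.ofHom s).comp z (zero_add i)
      map_add' := fun z z' => by simp
      map_smul' := fun a z => by simp }
  comm' i j _ := by
    ext z
    show δ i j ((Cochain.ofHom s).comp z (zero_add i)) = (Cochain.ofHom s).comp (δ i j z) (zero_add j)
    exact δ_ofHom_comp s z j

theorem bijective_precomp_of_kInjective [I.IsKInjective] (hs : QuasiIso s) :
    Function.Bijective (fun g : (HomotopyCategory.quotient (ModuleCat.{u} A) _).obj E ⟶
      (HomotopyCategory.quotient _ _).obj I => (HomotopyCategory.quotient _ _).map s ≫ g) := by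
  haveI : IsIso (DerivedCategory.Qh.map ((HomotopyCategory.quotient (ModuleCat.{u} A) (ComplexShape.up ℤ)).map s)) :=
    Localization.inverts DerivedCategory.Qh (HomotopyCategory.quasiIso (ModuleCat.{u} A) (ComplexShape.up ℤ)) _
      ((HomotopyCategory.quotient_map_mem_quasiIso_iff _).2 ((HomologicalComplex.mem_quasiIso_iff _).2 hs))
  have hE := CochainComplex.IsKInjective.Qh_map_bijective ((HomotopyCategory.quotient _ _).obj E) I
  have hP := CochainComplex.IsKInjective.Qh_map_bijective ((HomotopyCategory.quotient _ _).obj P) I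
  refine ⟨fun g g' h => hE.1 ?_, fun h => ?_⟩
  · rw [← cancel_epi (DerivedCategory.Qh.map ((HomotopyCategory.quotient (ModuleCat.{u} A) (ComplexShape.up ℤ)).map s)),
      ← Functor.map_comp, ← Functor.map_comp]
    exact congrArg DerivedCategory.Qh.map h
  · obtain ⟨g, hg⟩ := hE.2 (inv (DerivedCategory.Qh.map
      ((HomotopyCategory.quotient (ModuleCat.{u} A) (ComplexShape.up ℤ)).map s)) ≫ DerivedCategory.Qh.map h)
    exact ⟨g, hP.1 (by rw [Functor.map_comp, hg, IsIso.hom_inv_id_assoc])⟩

theorem quasiIso_homCxPre [I.IsKInjective] (hs : QuasiIso s) : QuasiIso (homCxPre s I) := by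
  refine quasiIso_of_elements _ (fun n x hx hw => ?_) (fun n y hy => ?_)
  · obtain ⟨w, hw⟩ := hw
    let z : Cocycle E I n := Cocycle.mk (x : Cochain E I n) (n + 1) rfl hx
    haveI : (I⟦n⟧).IsKInjective := inferInstance
    have h0 : CohomologyClass.toHom (CohomologyClass.mk z) = 0 := by
      apply (bijective_precomp_of_kInjective s (I⟦n⟧) hs).1
      show _ = (HomotopyCategory.quotient _ _).map s ≫ 0
      rw [comp_zero, CohomologyClass.toHom_mk]
      show (HomotopyCategory.quotient _ _).map s ≫ (HomotopyCategory.quotient _ _).map _ = 0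
      rw [← Functor.map_comp, ← Cocycle.equivHomShift_symm_precomp, ← CohomologyClass.toHom_mk,
        CohomologyClass.toHom_mk_eq_zero_iff]
      exact ⟨n - 1, by omega, w, hw⟩
    obtain ⟨m, hm, β, hβ⟩ := (CohomologyClass.toHom_mk_eq_zero_iff z).1 h0
    obtain rfl : m = n - 1 := by omega
    exact ⟨β, hβ⟩
  · let z : Cocycle P I n := Cocycle.mk (y : Cochain P I n) (n + 1) rfl hy
    haveI : (I⟦n⟧).IsKInjective := inferInstance
    obtain ⟨g, hg⟩ := (bijective_precomp_of_kInjective s (I⟦n⟧) hs).2 (CohomologyClass.toHom (CohomologyClass.mk z))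
    obtain ⟨g, rfl⟩ := Functor.map_surjective _ g
    let x : Cocycle E I n := Cocycle.equivHomShift g
    have h0 : CohomologyClass.toHom (CohomologyClass.mk (x.precomp s - z)) = 0 := by
      rw [CohomologyClass.mk_sub, map_sub, CohomologyClass.toHom_mk, Cocycle.equivHomShift_symm_precomp,
        AddEquiv.symm_apply_apply, Functor.map_comp, sub_eq_zero]
      exact hg
    obtain ⟨m, hm, β, hβ⟩ := (CohomologyClass.toHom_mk_eq_zero_iff _).1 h0
    obtain rfl : m = n - 1 := by omega
    refine ⟨(x : Cochain E I n), β, x.δ_eq_zero (n + 1), ?_⟩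
    exact eq_add_of_sub_eq' (show ((x.precomp s - z : Cocycle P I n) : Cochain P I n) = δ (n - 1) n β from hβ.symm)

end Precomp

section Dual

variable (A) in
/-- The coefficient ring as a complex. -/
abbrev oneCx : DRing.Cx A := (CochainComplex.singleFunctor (ModuleCat.{u} A) 0).obj (ModuleCat.of A A)

/-- The dual complex. -/
abbrev dualCx (P : DRing.Cx A) : DRing.Cx A := DRing.homCx P (oneCx A)

variable {P : DRing.Cx A}

/-- The terms of the dual complex. -/
def dualE {p i : ℤ} (h : p + i = 0) : Cochain P (oneCx A) i ≃ₗ[A] Module.Dual A (P.X p) where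
  toFun z := (Cochain.toSingleEquiv h z).hom
  map_add' z z' := by rw [map_add]; rfl
  map_smul' a z := by
    apply LinearMap.ext
    intro x
    show (HomologicalComplex.singleObjXSelf (ComplexShape.up ℤ) 0 (ModuleCat.of A A)).hom.hom ((a • z).v p 0 h x) = _
    rw [Cochain.smul_v]
    exact map_smul _ a _
  invFun f := (Cochain.toSingleEquiv h).symm (ModuleCat.ofHom f)
  left_inv z := by
    show (Cochain.toSingleEquiv h).symm (Cochain.toSingleEquiv h z) = z
    exact AddEquiv.symm_apply_apply _ _
  right_inv f := by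
    show ((Cochain.toSingleEquiv h) ((Cochain.toSingleEquiv h).symm (ModuleCat.ofHom f))).hom = f
    rw [AddEquiv.apply_symm_apply]
    rfl

theorem dualE_d {p p' i j : ℤ} (h : p + i = 0) (h' : p' + j = 0) (hij : i + 1 = j) (z : Cochain P (oneCx A) i)
    (x : P.X p') : dualE h' (δ i j z) x = ((j.negOnePow : ℤˣ) : ℤ) • dualE h z ((P.d p' p).hom x) := by
  show (HomologicalComplex.singleObjXSelf (ComplexShape.up ℤ) 0 (ModuleCat.of A A)).hom.hom ((δ i j z).v p' 0 h' x) = _
  rw [δ_v i j hij z p' 0 h' (-1) p (by omega) (by omega),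
    (HomologicalComplex.isZero_single_obj_X (ComplexShape.up ℤ) 0 (ModuleCat.of A A) (-1) (by omega)).eq_of_src
      ((oneCx A).d (-1) 0) 0, comp_zero, zero_add]
  simp only [Units.smul_def, ModuleCat.hom_zsmul, LinearMap.smul_apply, map_zsmul]
  rfl

theorem dualCx_bdd (hP : Bdd FProj P) : Bdd FProj (dualCx P) := by
  obtain ⟨⟨a, b, hab⟩, hΦ⟩ := hP
  refine ⟨⟨-b, -a, fun i hi => ?_⟩, fun i => ?_⟩
  · haveI : Subsingleton (P.X (-i)) := ModuleCat.subsingleton_of_isZero (hab (-i) (by omega))
    haveI : Subsingleton (Module.Dual A (P.X (-i))) :=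
      ⟨fun f g => LinearMap.ext fun x => by rw [Subsingleton.elim x 0, map_zero, map_zero]⟩
    haveI : Subsingleton (Cochain P (oneCx A) i) := (dualE (neg_add_cancel i)).toEquiv.subsingleton
    exact ModuleCat.isZero_of_subsingleton (ModuleCat.of A (Cochain P (oneCx A) i))
  · haveI := (hΦ (-i)).1
    haveI := (hΦ (-i)).2
    exact ⟨Module.Finite.equiv (dualE (neg_add_cancel i)).symm, Module.Projective.of_equiv (dualE (neg_add_cancel i)).symm⟩

/-- The double dual of a term, with the sign. -/
def biDualE (hP : ∀ i, FProj (P.X i)) (i : ℤ) : P.X i ≃ₗ[A] Cochain (dualCx P) (oneCx A) i :=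
  haveI := (hP i).1
  haveI := (hP i).2
  ((Module.evalEquiv A (P.X i)).trans ((dualE (add_neg_cancel i)).dualMap.trans
    (dualE (P := dualCx P) (neg_add_cancel i)).symm)).trans
    (LinearEquiv.smulOfUnit (Units.map (Int.castRingHom A).toMonoidHom i.negOnePow))

theorem biDualE_apply (hP : ∀ i, FProj (P.X i)) (i : ℤ) (x : P.X i) (w : Cochain P (oneCx A) (-i)) :
    dualE (P := dualCx P) (neg_add_cancel i) (biDualE hP i x) w =
      (((i.negOnePow : ℤˣ) : ℤ) : A) * dualE (add_neg_cancel i) w x := by
  show dualE (P := dualCx P) (neg_add_cancel i) ((((i.negOnePow : ℤˣ) : ℤ) : A) •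
    (dualE (P := dualCx P) (neg_add_cancel i)).symm _) w = _
  rw [map_smul, LinearEquiv.apply_symm_apply]
  rfl

/-- The double dual of a bounded complex of finite projective modules. -/
def biDualIso (hP : ∀ i, FProj (P.X i)) : P ≅ dualCx (dualCx P) :=
  HomologicalComplex.Hom.isoOfComponents (fun i => (biDualE hP i).toModuleIso)
    (fun i j hij => by
      obtain rfl : i + 1 = j := hij
      refine ModuleCat.hom_ext (LinearMap.ext fun x => (dualE (P := dualCx P) (neg_add_cancel (i + 1))).injective ?_)
      refine LinearMap.ext fun w => ?_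
      show dualE (P := dualCx P) (neg_add_cancel (i + 1)) (δ i (i + 1) (biDualE hP i x)) w =
        dualE (P := dualCx P) (neg_add_cancel (i + 1)) (biDualE hP (i + 1) ((P.d i (i + 1)).hom x)) w
      rw [dualE_d (P := dualCx P) (neg_add_cancel i) (neg_add_cancel (i + 1)) rfl, biDualE_apply, biDualE_apply]
      show _ • ((((i.negOnePow : ℤˣ) : ℤ) : A) * dualE (add_neg_cancel i) (δ (-(i + 1)) (-i) w) x) = _
      rw [dualE_d (add_neg_cancel (i + 1)) (add_neg_cancel i) (by omega)]
      simp only [zsmul_eq_mul, Int.negOnePow_succ, Int.negOnePow_neg, Units.val_neg, Int.cast_neg]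
      have hu : (((i.negOnePow : ℤˣ) : ℤ) : A) * (((i.negOnePow : ℤˣ) : ℤ) : A) = 1 := by
        rw [← Int.cast_mul, ← Units.val_mul, Int.units_mul_self, Units.val_one, Int.cast_one]
      linear_combination (-(((i.negOnePow : ℤˣ) : ℤ) : A) * dualE (add_neg_cancel (i + 1)) w ((P.d i (i + 1)).hom x)) * hu)

theorem nonempty_RHomCx_dual (hP : Bdd FProj P) {E : DRing.Cx A} [DRing.HasRHomCx E]
    (e : DRing.toD P ≅ DRing.toD E) :
    Nonempty ((DRing.RHomCx E).obj (Dual.inD A A) ≅ DRing.toD (dualCx P)) := by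
  haveI := hP.isKProjective projClass_fProj
  obtain ⟨s, hs⟩ := Q_map_surjective P E e.hom
  haveI : IsIso (DerivedCategory.Q.map s) := hs ▸ inferInstance
  have hsq : QuasiIso s := (DerivedCategory.isIso_Q_map_iff_quasiIso (φ := s)).1 inferInstance
  obtain ⟨I, ι, hI, hι⟩ := KInj.hres_of_isGrothendieckAbelian (ModuleCat.{u} A) (oneCx A)
  haveI := hI
  obtain ⟨e₁⟩ := nonempty_RHomCx_kInjective E I
  haveI := isIso_Q_of_qis _ (quasiIso_homCxPre s I hsq)
  haveI := isIso_Q_of_qis _ (quasiIso_homCxMap P ι hι)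
  haveI := isIso_Q_of_qis _ hι
  exact ⟨(DRing.RHomCx E).mapIso ((singleQZeroIso (ModuleCat.of A A)).symm ≪≫ asIso (DerivedCategory.Q.map ι)) ≪≫
    e₁ ≪≫ asIso (DerivedCategory.Q.map (homCxPre s I)) ≪≫ (asIso (DerivedCategory.Q.map (DRing.homCxMap P ι))).symm⟩

end Dual

end Groth.Agent.DRingLib
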