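import Groth.Agent.DRingLib.DualPerfect
import Groth.Agent.DRingLib.BaseChange
import Groth.Agent.DTenLib.Res
import Mathlib.Algebra.Homology.BifunctorHomotopy

/-!
# Hom complexes out of perfect complexes are K-flat
-/

set_option autoImplicit false
set_option linter.style.haveILetI false
set_option backward.isDefEq.respectTransparency false

universe u

open CategoryTheory Limits MonoidalCategory CochainComplex CochainComplex.HomComplex
attribute [local instance] HasDerivedCategory.standard

noncomputable section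

namespace Groth.Agent.DRingLib

open Groth.Agent.DCohLib Groth.Agent.DTenLib

variable {A : Type u} [CommRing A] {P E G : DRing.Cx A} (K : DRing.Cx A)

/-- Precomposition with a cochain of degree zero. -/
def preLin (γ : Cochain P E 0) (n : ℤ) : Cochain E K n →ₗ[A] Cochain P K n where
  toFun z := γ.comp z (zero_add n)
  map_add' z z' := by simp
  map_smul' a z := by simp

theorem preLin_comp (γ : Cochain P E 0) (γ' : Cochain E G 0) (n : ℤ) (z : Cochain G K n) :
    preLin K γ n (preLin K γ' n z) = preLin K (γ.comp γ' (zero_add 0)) n z :=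
  (Cochain.comp_assoc_of_first_is_zero_cochain γ γ' z (zero_add n)).symm

theorem homCxPre_comp (f : P ⟶ E) (g : E ⟶ G) : homCxPre (f ≫ g) K = homCxPre g K ≫ homCxPre f K := by
  refine HomologicalComplex.hom_ext _ _ fun n => ModuleCat.hom_ext (LinearMap.ext fun (z : Cochain G K n) => ?_)
  show (Cochain.ofHom (f ≫ g)).comp z (zero_add n) = preLin K (Cochain.ofHom f) n (preLin K (Cochain.ofHom g) n z)
  rw [preLin_comp, ← Cochain.ofHom_comp]
  rfl

theorem homCxPre_id : homCxPre (𝟙 P) K = 𝟙 _ := by
  refine HomologicalComplex.hom_ext _ _ fun n => ModuleCat.hom_ext (LinearMap.ext fun (z : Cochain P K n) => ?_)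
  exact Cochain.id_comp z

theorem homCxPre_zero : homCxPre (0 : P ⟶ E) K = 0 := by
  refine HomologicalComplex.hom_ext _ _ fun n => ModuleCat.hom_ext (LinearMap.ext fun (z : Cochain E K n) => ?_)
  show (Cochain.ofHom (0 : P ⟶ E)).comp z (zero_add n) = 0
  simp

theorem homCxPre_add (f g : P ⟶ E) : homCxPre (f + g) K = homCxPre f K + homCxPre g K := by
  refine HomologicalComplex.hom_ext _ _ fun n => ModuleCat.hom_ext (LinearMap.ext fun (z : Cochain E K n) => ?_)
  show (Cochain.ofHom (f + g)).comp z (zero_add n) =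
    (Cochain.ofHom f).comp z (zero_add n) + (Cochain.ofHom g).comp z (zero_add n)
  rw [Cochain.ofHom_add, Cochain.add_comp]

theorem homCxPre_sum {ι : Type} (s : Finset ι) (f : ι → (P ⟶ E)) :
    homCxPre (∑ j ∈ s, f j) K = ∑ j ∈ s, homCxPre (f j) K :=
  map_sum (AddMonoidHom.mk' (fun f : P ⟶ E => homCxPre f K) (homCxPre_add K)) f s

/-- Precomposition with homotopic maps gives homotopic maps. -/
def homCxPreHomotopy {f g : P ⟶ E} (H : Homotopy f g) : Homotopy (homCxPre f K) (homCxPre g K) where
  hom i j := if h : j + 1 = i then ModuleCat.ofHom (i.negOnePow •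
      ({ toFun := fun z => (Cochain.ofHomotopy H).comp z (show (-1) + i = j by omega)
         map_add' := fun z z' => by simp
         map_smul' := fun a z => by simp } : Cochain E K i →ₗ[A] Cochain P K j))
    else 0
  zero i j h := dif_neg h
  comm n := by
    rw [dNext_eq _ (show (ComplexShape.up ℤ).Rel n (n + 1) from rfl),
      prevD_eq _ (show (ComplexShape.up ℤ).Rel (n - 1) n by simp), dif_pos rfl, dif_pos (by omega)]
    refine ModuleCat.hom_ext (LinearMap.ext fun (z : Cochain E K n) => ?_)
    show (Cochain.ofHom f).comp z (zero_add n) =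
      (n + 1).negOnePow • (Cochain.ofHomotopy H).comp (δ n (n + 1) z) (by omega) +
        δ (n - 1) n (n.negOnePow • (Cochain.ofHomotopy H).comp z (by omega)) +
          (Cochain.ofHom g).comp z (zero_add n)
    rw [δ_units_smul, δ_comp (Cochain.ofHomotopy H) z (show (-1) + n = n - 1 by omega) 0 (n + 1) n (by omega) (by omega) rfl,
      δ_ofHomotopy, Cochain.sub_comp, smul_add, smul_smul, Int.negOnePow_succ]
    simp only [Int.units_mul_self, one_smul, Units.neg_smul]
    abel

/-- The tensor product as a bifunctor. -/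
abbrev tF (A : Type u) [CommRing A] : ModuleCat.{u} A ⥤ ModuleCat.{u} A ⥤ ModuleCat.{u} A :=
  curriedTensor (ModuleCat.{u} A)

theorem kflat_of_homotopy_retract {X Y : DRing.Cx A} (f : Y ⟶ X) (g : X ⟶ Y) (H : Homotopy (f ≫ g) (𝟙 Y))
    (h : KFlat.IsKFlatFor (tF A) X) : KFlat.IsKFlatFor (tF A) Y := fun L hL i => by
  rw [HomologicalComplex.exactAt_iff_isZero_homology, IsZero.iff_id_eq_zero]
  have h' := (HomologicalComplex.mapBifunctorMapHomotopy₂ (𝟙 L) H (tF A) (ComplexShape.up ℤ)).homologyMap_eq i
  rw [← HomologicalComplex.homologyMap_id, ← (KFlat.tot (tF A) L).map_id]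
  refine h'.symm.trans ?_
  show HomologicalComplex.homologyMap ((KFlat.tot (tF A) L).map (f ≫ g)) i = 0
  rw [Functor.map_comp, HomologicalComplex.homologyMap_comp, (h L hL i).isZero_homology.eq_of_tgt
    (HomologicalComplex.homologyMap ((KFlat.tot (tF A) L).map f) i) 0, zero_comp]

theorem kflat_of_sum {X : DRing.Cx A} {ι : Type} (s : Finset ι) (Y : ι → DRing.Cx A) (f : ∀ j, X ⟶ Y j)
    (g : ∀ j, Y j ⟶ X) (hid : 𝟙 X = ∑ j ∈ s, f j ≫ g j) (h : ∀ j ∈ s, KFlat.IsKFlatFor (tF A) (Y j)) :
    KFlat.IsKFlatFor (tF A) X := fun L hL i => by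
  rw [HomologicalComplex.exactAt_iff_isZero_homology, IsZero.iff_id_eq_zero]
  show 𝟙 ((HomologicalComplex.homologyFunctor (ModuleCat.{u} A) (ComplexShape.up ℤ) i).obj ((KFlat.tot (tF A) L).obj X)) = 0
  rw [← (HomologicalComplex.homologyFunctor (ModuleCat.{u} A) (ComplexShape.up ℤ) i).map_id,
    ← (KFlat.tot (tF A) L).map_id, hid, Functor.map_sum, Functor.map_sum]
  refine Finset.sum_eq_zero fun j hj => ?_
  rw [Functor.map_comp, Functor.map_comp]
  exact (h j hj L hL i).isZero_homology.eq_of_tgt
    ((HomologicalComplex.homologyFunctor _ _ i).map ((KFlat.tot (tF A) L).map (f j))) 0 ▸ zero_comp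

/-- Cochains out of a copy of the ring are given by their value at one. -/
def singleEval {a q n : ℤ} (h : a + n = q) :
    Cochain ((CochainComplex.singleFunctor (ModuleCat.{u} A) a).obj (ModuleCat.of A A)) K n ≃ₗ[A] K.X q where
  toFun z := (Cochain.fromSingleEquiv h z).hom (1 : A)
  map_add' z z' := by
    rw [map_add, ModuleCat.hom_add]
    rfl
  map_smul' r z := by
    show ((HomologicalComplex.singleObjXSelf (ComplexShape.up ℤ) a _).inv ≫ (r • z).v a q h).hom (1 : A) =
      r • ((HomologicalComplex.singleObjXSelf (ComplexShape.up ℤ) a _).inv ≫ z.v a q h).hom (1 : A)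
    rfl
  invFun x := (Cochain.fromSingleEquiv h).symm (ModuleCat.ofHom (LinearMap.toSpanSingleton A (K.X q) x))
  left_inv z := by
    apply (Cochain.fromSingleEquiv h).injective
    rw [AddEquiv.apply_symm_apply]
    exact ModuleCat.hom_ext (LinearMap.ext_ring (LinearMap.toSpanSingleton_apply_one A (K.X q) _))
  right_inv x := by
    show ((Cochain.fromSingleEquiv h) ((Cochain.fromSingleEquiv h).symm
      (ModuleCat.ofHom (LinearMap.toSpanSingleton A (K.X q) x)))).hom (1 : A) = x
    rw [AddEquiv.apply_symm_apply]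
    exact LinearMap.toSpanSingleton_apply_one A (K.X q) x

theorem singleEval_δ {a i : ℤ} (z : Cochain ((CochainComplex.singleFunctor (ModuleCat.{u} A) a).obj (ModuleCat.of A A)) K i) :
    singleEval K (add_comm a (i + 1)) (δ i (i + 1) z) =
      (K.d (i + a) (i + 1 + a)).hom (singleEval K (add_comm a i) z) := by
  obtain ⟨f, rfl⟩ := Cochain.fromSingleMk_surjective z (i + a) (add_comm a i)
  rw [Cochain.δ_fromSingleMk f (add_comm a i) (i + 1) (i + 1 + a) (add_comm a (i + 1))]
  show (Cochain.fromSingleEquiv (add_comm a (i + 1))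
      (Cochain.fromSingleMk (f ≫ K.d (i + a) (i + 1 + a)) (add_comm a (i + 1)))).hom (1 : A) =
    (K.d (i + a) (i + 1 + a)).hom ((Cochain.fromSingleEquiv (add_comm a i) (Cochain.fromSingleMk f (add_comm a i))).hom (1 : A))
  rw [Cochain.fromSingleEquiv_fromSingleMk, Cochain.fromSingleEquiv_fromSingleMk]
  rfl

/-- Multiplication by a sign. -/
def signEquiv (c : ℤˣ) (M : Type u) [AddCommGroup M] [Module A M] : M ≃ₗ[A] M where
  toFun x := c • x
  map_add' := smul_add c
  map_smul' r x := smul_comm c r x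
  invFun x := c • x
  left_inv x := by simp [smul_smul, Int.units_mul_self]
  right_inv x := by simp [smul_smul, Int.units_mul_self]

/-- Hom complexes out of a shifted copy of the ring. -/
def homSingleUnitIso (a : ℤ) :
    DRing.homCx ((CochainComplex.singleFunctor (ModuleCat.{u} A) a).obj (ModuleCat.of A A)) K ≅ K⟦a⟧ :=
  HomologicalComplex.Hom.isoOfComponents (fun n => LinearEquiv.toModuleIso
    (X₁ := Cochain ((CochainComplex.singleFunctor (ModuleCat.{u} A) a).obj (ModuleCat.of A A)) K n)
    (X₂ := K.X (n + a))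
    ((singleEval K (add_comm a n)).trans (signEquiv (a * n).negOnePow (K.X (n + a)))))
    fun i j hij => by
      obtain rfl : i + 1 = j := hij
      refine ModuleCat.hom_ext (LinearMap.ext fun z => ?_)
      show a.negOnePow • (K.d (i + a) (i + 1 + a)).hom ((a * i).negOnePow • singleEval K (add_comm a i) z) =
        (a * (i + 1)).negOnePow • singleEval K (add_comm a (i + 1)) (δ i (i + 1) z)
      rw [singleEval_δ, show a * (i + 1) = a + a * i by ring, Int.negOnePow_add, ← smul_smul]
      simp only [Units.smul_def, map_zsmul]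

theorem kflat_homCx_single (hK : KFlat.IsKFlatFor (tF A) K) (a : ℤ) (M : ModuleCat.{u} A) [Module.Finite A M]
    [Module.Projective A M] :
    KFlat.IsKFlatFor (tF A) (DRing.homCx ((CochainComplex.singleFunctor (ModuleCat.{u} A) a).obj M) K) := by
  obtain ⟨n, s, hs⟩ := Module.Finite.exists_fin' A M
  obtain ⟨t, ht⟩ := Module.projective_lifting_property s LinearMap.id hs
  let S := CochainComplex.singleFunctor (ModuleCat.{u} A) a
  let f : Fin n → (M ⟶ ModuleCat.of A A) := fun j => ModuleCat.ofHom (LinearMap.proj j ∘ₗ t)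
  let g : Fin n → (ModuleCat.of A A ⟶ M) := fun j =>
    ModuleCat.ofHom (LinearMap.toSpanSingleton A M (s (Pi.single j 1)))
  have hM : 𝟙 M = ∑ j, f j ≫ g j := ModuleCat.hom_ext (LinearMap.ext fun x => by
    rw [ModuleCat.hom_sum, LinearMap.sum_apply]
    show x = ∑ j, t x j • s (Pi.single j 1)
    conv_lhs => rw [← LinearMap.id_apply (R := A) x, ← ht, LinearMap.comp_apply, pi_eq_sum_univ' (t x), map_sum]
    exact Finset.sum_congr rfl fun j _ => map_smul s _ _)
  refine kflat_of_sum Finset.univ (fun _ => DRing.homCx (S.obj (ModuleCat.of A A)) K)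
    (fun j => homCxPre (S.map (g j)) K) (fun j => homCxPre (S.map (f j)) K) ?_ fun j _ => ?_
  · rw [← homCxPre_id, ← S.map_id, hM, Functor.map_sum, homCxPre_sum]
    exact Finset.sum_congr rfl fun j _ => by rw [Functor.map_comp, homCxPre_comp]
  · exact KFlat.isKFlatFor_of_iso (tF A) (homSingleUnitIso K a).symm (KFlat.isKFlatFor_shift (tF A) hK a)

/-- A degreewise split short exact sequence gives one of Hom complexes. -/
def homShortComplex (S : ShortComplex (DRing.Cx A)) : ShortComplex (DRing.Cx A) :=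
  ShortComplex.mk (homCxPre S.g K) (homCxPre S.f K) (by rw [← homCxPre_comp, S.zero, homCxPre_zero])

/-- The degreewise splitting of the Hom complexes. -/
def homSplitting (S : ShortComplex (DRing.Cx A))
    (σ : ∀ q, (S.map (HomologicalComplex.eval (ModuleCat.{u} A) (ComplexShape.up ℤ) q)).Splitting) (n : ℤ) :
    ((homShortComplex K S).map (HomologicalComplex.eval (ModuleCat.{u} A) (ComplexShape.up ℤ) n)).Splitting where
  r := ModuleCat.ofHom (preLin K (Cochain.ofHoms fun p => (σ p).s) n)
  s := ModuleCat.ofHom (preLin K (Cochain.ofHoms fun p => (σ p).r) n)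
  f_r := ModuleCat.hom_ext (LinearMap.ext fun (z : Cochain S.X₃ K n) => by
    show preLin K (Cochain.ofHoms fun p => (σ p).s) n (preLin K (Cochain.ofHom S.g) n z) = z
    rw [preLin_comp, Cochain.ofHom, Cochain.ofHoms_comp,
      show (fun p => (σ p).s ≫ S.g.f p) = fun p => (𝟙 S.X₃ : S.X₃ ⟶ S.X₃).f p from funext fun p => (σ p).s_g]
    exact Cochain.id_comp z)
  s_g := ModuleCat.hom_ext (LinearMap.ext fun (z : Cochain S.X₁ K n) => by
    show preLin K (Cochain.ofHom S.f) n (preLin K (Cochain.ofHoms fun p => (σ p).r) n z) = z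
    rw [preLin_comp, Cochain.ofHom, Cochain.ofHoms_comp,
      show (fun p => S.f.f p ≫ (σ p).r) = fun p => (𝟙 S.X₁ : S.X₁ ⟶ S.X₁).f p from funext fun p => (σ p).f_r]
    exact Cochain.id_comp z)
  id := ModuleCat.hom_ext (LinearMap.ext fun (z : Cochain S.X₂ K n) => by
    show preLin K (Cochain.ofHom S.g) n (preLin K (Cochain.ofHoms fun p => (σ p).s) n z) +
      preLin K (Cochain.ofHoms fun p => (σ p).r) n (preLin K (Cochain.ofHom S.f) n z) = z
    rw [preLin_comp, preLin_comp, Cochain.ofHom, Cochain.ofHom, Cochain.ofHoms_comp, Cochain.ofHoms_comp]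
    show Cochain.comp _ z (zero_add n) + Cochain.comp _ z (zero_add n) = z
    rw [← Cochain.add_comp, show Cochain.ofHoms (fun p => S.g.f p ≫ (σ p).s) +
        Cochain.ofHoms (fun p => (σ p).r ≫ S.f.f p) = Cochain.ofHom (𝟙 S.X₂) from ?_]
    · exact Cochain.id_comp z
    refine Cochain.ext _ _ fun p q hpq => ?_
    obtain rfl : p = q := by omega
    simp only [Cochain.add_v, Cochain.ofHoms_v, Cochain.ofHom_v, add_comm (S.g.f p ≫ _)]
    exact (σ p).id)

theorem kflat_homCx_of_bounded (hK : KFlat.IsKFlatFor (tF A) K) {a b : ℤ} (hE : DRing.VanishesOutside E a b)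
    (hp : DRing.TermwiseFiniteProjective E) : KFlat.IsKFlatFor (tF A) (DRing.homCx E K) := by
  suffices key : ∀ N : ℕ, KFlat.IsKFlatFor (tF A) (DRing.homCx (KFlat.brutal E (b + 1 - N)) K) by
    haveI : IsIso (KFlat.brutalι E (b + 1 - ((b + 1 - a).toNat : ℕ))) :=
      isIso_brutalι_of_le fun i hi => hE i (Or.inl (by omega))
    exact kflat_of_homotopy_retract (homCxPre (KFlat.brutalι E (b + 1 - ((b + 1 - a).toNat : ℕ))) K)
      (homCxPre (inv (KFlat.brutalι E (b + 1 - ((b + 1 - a).toNat : ℕ)))) K)
      (Homotopy.ofEq (by rw [← homCxPre_comp, IsIso.inv_hom_id, homCxPre_id])) (key _)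
  intro N
  induction N with
  | zero =>
    refine KFlat.isZero_tot (tF A) ((IsZero.iff_id_eq_zero _).2 ?_)
    have h0 : (𝟙 (KFlat.brutal E (b + 1 - ((0 : ℕ) : ℤ)))) = 0 := HomologicalComplex.hom_ext _ _ fun n => by
      by_cases hn : n < b + 1 - ((0 : ℕ) : ℤ)
      · exact (KFlat.isZero_brutal E _ hn).eq_of_src _ _
      · exact (KFlat.isZero_brutal_of_isZero E _ (hE n (Or.inr (by push_cast at hn; omega)))).eq_of_src _ _
    rw [← homCxPre_id, h0, homCxPre_zero]
  | succ N ih =>
    obtain ⟨c, hc⟩ : ∃ c : ℤ, c = b + 1 - (N + 1 : ℕ) := ⟨_, rfl⟩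
    rw [← hc]
    rw [show b + 1 - (N : ℤ) = c + 1 by omega] at ih
    let S := KFlat.brutalShortComplex E c
    obtain ⟨-, h, -⟩ := KFlat.twoOfThree (tF A) (homShortComplex K S) fun L =>
      KFlat.shortExact_tot_of_splitting (tF A) L _ (homSplitting K S (KFlat.brutalSplitting E c))
    haveI := (hp c).1
    haveI := (hp c).2
    exact h (kflat_homCx_single K hK c (E.X c)) ih

/-- The Hom complex out of a perfect complex of projectives into a K-flat complex is K-flat. -/
theorem kflat_homCx_of_perfect (hK : KFlat.IsKFlatFor (tF A) K) {b : ℤ} (hPb : DRing.VanishesAbove P b)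
    (hPp : ∀ i, Module.Projective A (P.X i)) (hperf : DRing.IsPerfect A (DRing.toD P)) :
    KFlat.IsKFlatFor (tF A) (DRing.homCx P K) := by
  obtain ⟨E, a, c, hE, hEp, ⟨e⟩⟩ := hperf
  haveI : CochainComplex.IsKProjective P := isKProjective_of_vanishesAbove hPb hPp
  haveI : CochainComplex.IsKProjective E :=
    isKProjective_of_vanishesAbove (b := c) (fun i hi => hE i (Or.inr hi)) fun i => (hEp i).2
  obtain ⟨f, hf⟩ := Q_map_surjective P E e.inv
  obtain ⟨g, hg⟩ := Q_map_surjective E P e.hom
  obtain ⟨H⟩ := homotopic_zero P (f ≫ g - 𝟙 P) (by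
    rw [Functor.map_sub, Functor.map_comp, hf, hg, e.inv_hom_id, CategoryTheory.Functor.map_id, sub_self])
  have H' : Homotopy (f ≫ g) (𝟙 P) := Homotopy.equivSubZero.symm H
  exact kflat_of_homotopy_retract (homCxPre g K) (homCxPre f K)
    ((Homotopy.ofEq (homCxPre_comp K f g).symm).trans ((homCxPreHomotopy K H').trans
      (Homotopy.ofEq (homCxPre_id K)))) (kflat_homCx_of_bounded K hK hE hEp)

end Groth.Agent.DRingLib
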