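import Groth.Agent.DRingLib.WeaklyEtaleAmp
import Groth.Agent.DRingLib.FlatBC
import Groth.Agent.DRingLib.Descent

/-!
# Tor amplitude of restrictions, and faithfully flat base change of the coefficient ring
-/

set_option autoImplicit false
set_option linter.style.haveILetI false
set_option backward.isDefEq.respectTransparency false

universe u

open CategoryTheory Limits MonoidalCategory
attribute [local instance] HasDerivedCategory.standard

noncomputable section

namespace Groth.Agent.DRingLib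

open Groth.Agent.DCohLib Groth.Agent.DTenLib

/-- The single complex of a module. -/
abbrev single₀ {A : Type u} [CommRing A] (M : ModuleCat.{u} A) : DRing.Cx A :=
  (HomologicalComplex.single (ModuleCat.{u} A) (ComplexShape.up ℤ) 0).obj M

/-- Tensoring with a single complex. -/
def singleTensorIso {A : Type u} [CommRing A] (M : ModuleCat.{u} A) (K : DRing.Cx A) :
    (tensM M).obj K ≅ (single₀ M ⊗ K : DRing.Cx A) :=
  (singleTotRIso M ≪≫
    (KFlat.totRIso (curriedTensor (ModuleCat.{u} A)).flip (single₀ M)).symm).app K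

theorem exactAt_iff_of_quasiIso {A : Type u} [CommRing A] {K L : DRing.Cx A} (f : K ⟶ L) (hf : QuasiIso f)
    (i : ℤ) : K.ExactAt i ↔ L.ExactAt i := by
  haveI := hf
  exact ⟨fun h => (HomologicalComplex.exactAt_iff_isZero_homology _ _).2
      (h.isZero_homology.of_iso (isoOfQuasiIsoAt f i).symm),
    fun h => (HomologicalComplex.exactAt_iff_isZero_homology _ _).2
      (h.isZero_homology.of_iso (isoOfQuasiIsoAt f i))⟩

theorem exactAt_iff_of_iso {A : Type u} [CommRing A] {K L : DRing.Cx A} (e : K ≅ L) (i : ℤ) :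
    K.ExactAt i ↔ L.ExactAt i := ⟨fun h => h.of_iso e, fun h => h.of_iso e.symm⟩

theorem exactAt_resCx_iff {R A : Type u} [CommRing R] [CommRing A] (φ : R →+* A) (Z : DRing.Cx A) (i : ℤ) :
    ((DTen.resCx φ).obj Z).ExactAt i ↔ Z.ExactAt i := by
  rw [HomologicalComplex.exactAt_iff, HomologicalComplex.exactAt_iff]
  exact ShortComplex.exact_map_iff_of_faithful (Z.sc i) (ModuleCat.restrictScalars.{u} φ)

section Criterion

variable {R A : Type u} [CommRing R] [CommRing A] (φ : R →+* A)

/-- The flat resolution of a module. -/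
abbrev resM (M : ModuleCat.{u} R) : DRing.Cx R := (resA R).obj (single₀ M)

theorem exactAt_tensM_resA_iff (Y : DRing.Cx A) (M : ModuleCat.{u} R) (i : ℤ) :
    ((tensM M).obj ((resA R).obj ((DTen.resCx φ).obj Y))).ExactAt i ↔
      (Y ⊗ (DTen.extCx φ).obj (resM M) : DRing.Cx A).ExactAt i := by
  let X := (DTen.resCx φ).obj Y
  let Q := (resA R).obj X
  let F := resM M
  haveI : QuasiIso ((resAπ R).app X) := quasiIso_resAπ X
  haveI : QuasiIso ((resAπ R).app (single₀ M)) := quasiIso_resAπ _
  refine (exactAt_iff_of_iso (singleTensorIso M Q) i).trans ?_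
  refine (exactAt_iff_of_quasiIso _ (quasiIso_whiskerRight ((resAπ R).app (single₀ M)) (isKFlat_resA X)) i).symm.trans ?_
  refine (exactAt_iff_of_iso (DTen.braidCx F Q) i).trans ?_
  refine (exactAt_iff_of_quasiIso _ (quasiIso_whiskerRight ((resAπ R).app X) (isKFlat_resA (single₀ M))) i).trans ?_
  refine ((exactAt_iff_of_iso (KFlat.mapTotIso (cancelBiIso φ) Y F) i).symm).trans ?_
  exact exactAt_resCx_iff φ (Y ⊗ (DTen.extCx φ).obj F) i

theorem amp_restrict_iff (Y : DRing.Cx A) (a b : ℤ) :
    DRing.HasTorAmplitudeIn R a b ((DRing.restrictD φ).obj (DRing.toD Y)) ↔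
      ∀ (M : ModuleCat.{u} R) (i : ℤ), (i < a ∨ b < i) →
        (Y ⊗ (DTen.extCx φ).obj (resM M) : DRing.Cx A).ExactAt i := by
  let e : DRing.toD ((resA R).obj ((DTen.resCx φ).obj Y)) ≅ (DRing.restrictD φ).obj (DRing.toD Y) :=
    @asIso _ _ _ _ (DerivedCategory.Q.map ((resAπ R).app ((DTen.resCx φ).obj Y)))
      (isIso_Q_of_quasiIso _ (quasiIso_resAπ _)) ≪≫ ((DTen.resFactors φ).app Y).symm
  constructor
  · intro h M i hi
    exact (exactAt_tensM_resA_iff φ Y M i).1
      (tensVanish_of_amplitude (isKFlat_resA _) (amp_of_iso e.symm h) M i hi)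
  · intro h
    exact amp_of_iso e (amp_of_tensVanish (isKFlat_resA _) fun M i hi =>
      (exactAt_tensM_resA_iff φ Y M i).2 (h M i hi))

end Criterion

section FaithfullyFlat

variable {R A B : Type u} [CommRing R] [CommRing A] [CommRing B] (φ : R →+* A) (χ : A →+* B)

theorem exactAt_tensM_iff (hχ : Module.FaithfullyFlat A (baseMod χ)) (Z : DRing.Cx A) (i : ℤ) :
    ((tensM (baseMod χ)).obj Z).ExactAt i ↔ Z.ExactAt i := by
  haveI := hχ
  rw [HomologicalComplex.exactAt_iff, HomologicalComplex.exactAt_iff,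
    ShortComplex.ShortExact.moduleCat_exact_iff_function_exact,
    ShortComplex.ShortExact.moduleCat_exact_iff_function_exact]
  exact Module.FaithfullyFlat.lTensor_exact_iff_exact A (baseMod χ)
    (l12 := (Z.sc i).f.hom) (l23 := (Z.sc i).g.hom)

/-- The iterated extension of scalars. -/
def extCompIso (F : DRing.Cx R) : (DTen.extCx (χ.comp φ)).obj F ≅ (DTen.extCx χ).obj ((DTen.extCx φ).obj F) :=
  (NatIso.mapHomologicalComplex (ModuleCat.extendScalarsComp φ χ) (ComplexShape.up ℤ)).app F

theorem exactAt_extCx_tensor_iff (hχ : Module.FaithfullyFlat A (baseMod χ)) (P : DRing.Cx A)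
    (F : DRing.Cx R) (i : ℤ) :
    ((DTen.extCx χ).obj P ⊗ (DTen.extCx (χ.comp φ)).obj F : DRing.Cx B).ExactAt i ↔
      (P ⊗ (DTen.extCx φ).obj F : DRing.Cx A).ExactAt i := by
  let W := (DTen.extCx φ).obj F
  let N := baseMod χ
  let e₁ : ((DTen.resCx χ).obj ((DTen.extCx χ).obj P) : DRing.Cx A) ≅ (tensM N).obj P :=
    (NatIso.mapHomologicalComplex (extResIso χ) (ComplexShape.up ℤ)).app P
  refine (exactAt_iff_of_iso (whiskerLeftIso ((DTen.extCx χ).obj P) (extCompIso φ χ F)) i).trans ?_
  refine (exactAt_resCx_iff χ ((DTen.extCx χ).obj P ⊗ (DTen.extCx χ).obj W) i).symm.trans ?_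
  refine (exactAt_iff_of_iso (KFlat.mapTotIso (cancelBiIso χ) ((DTen.extCx χ).obj P) W) i).trans ?_
  refine (exactAt_iff_of_iso (whiskerRightIso (e₁ ≪≫ singleTensorIso N P) W ≪≫ α_ (single₀ N) P W ≪≫
    (singleTensorIso N (P ⊗ W : DRing.Cx A)).symm) i).trans ?_
  exact exactAt_tensM_iff χ hχ _ i

theorem amp_restrict_lbc_iff [DRing.HasLBaseChange χ] (hχ : Module.FaithfullyFlat A (baseMod χ))
    (K : Dual.D A) (a b : ℤ) :
    DRing.HasTorAmplitudeIn R a b ((DRing.restrictD φ).obj K) ↔
      DRing.HasTorAmplitudeIn R a b ((DRing.restrictD (χ.comp φ)).obj ((DRing.LBaseChange χ).obj K)) := by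
  haveI : Module.Flat A (baseMod χ) := inferInstance
  let e := DerivedCategory.Q.objObjPreimageIso K
  let P := DerivedCategory.Q.objPreimage K
  let e' : (DRing.restrictD (χ.comp φ)).obj (DRing.toD ((DTen.extCx χ).obj P)) ≅
      (DRing.restrictD (χ.comp φ)).obj ((DRing.LBaseChange χ).obj K) :=
    (DRing.restrictD (χ.comp φ)).mapIso ((lbcIsoOfFlat χ inferInstance P).symm ≪≫
      (DRing.LBaseChange χ).mapIso e)
  constructor
  · intro h
    refine amp_of_iso e' ((amp_restrict_iff _ _ a b).2 fun M i hi => ?_)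
    exact (exactAt_extCx_tensor_iff φ χ hχ P _ i).2
      ((amp_restrict_iff φ P a b).1 (amp_of_iso ((DRing.restrictD φ).mapIso e.symm) h) M i hi)
  · intro h
    refine amp_of_iso ((DRing.restrictD φ).mapIso e) ((amp_restrict_iff φ P a b).2 fun M i hi => ?_)
    exact (exactAt_extCx_tensor_iff φ χ hχ P _ i).1
      ((amp_restrict_iff _ _ a b).1 (amp_of_iso e'.symm h) M i hi)

end FaithfullyFlat

end Groth.Agent.DRingLib
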