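import Groth.Agent.DRingLib.HomTensor
import Groth.Agent.DRingLib.DualPerfect
import Groth.Agent.DRingLib.HomKFlat
import Groth.Agent.DRingLib.RestrictAmp
import Groth.Agent.DRingLib.FlatCoker
import Groth.Agent.KInj.Derived

/-!
# The Hom complex out of a K-flat complex into a K-injective one
-/

set_option autoImplicit false
set_option linter.style.haveILetI false
set_option backward.isDefEq.respectTransparency false

universe u

open CategoryTheory Limits MonoidalCategory CochainComplex.HomComplex

attribute [local instance] HasDerivedCategory.standard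

noncomputable section

namespace Groth.Agent.DRingLib

variable {A : Type u} [CommRing A]

theorem homTensorEquiv_δ_symm {K L M : DRing.Cx A} (i j : ℤ) (hij : i + 1 = j)
    (Z : Cochain (K ⊗ L : DRing.Cx A) M i) :
    δ i j ((homTensorEquiv i).symm Z : Cochain K (DRing.homCx L M) i) = (homTensorEquiv j).symm (δ i j Z) := by
  apply (homTensorEquiv j).injective
  rw [← homTensorEquiv_δ i j hij, LinearEquiv.apply_symm_apply, LinearEquiv.apply_symm_apply]

/-- Hom out of a tensor product. -/
def homCxTensorIso (K L M : DRing.Cx A) : DRing.homCx K (DRing.homCx L M) ≅ DRing.homCx (K ⊗ L : DRing.Cx A) M :=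
  HomologicalComplex.Hom.isoOfComponents (fun i => (homTensorEquiv i).toModuleIso) fun i j hij => by
    ext z
    exact homTensorEquiv_δ i j hij z

/-- An isomorphism in the first variable. -/
def homCxPreIso {P E : DRing.Cx A} (e : P ≅ E) (I : DRing.Cx A) : DRing.homCx E I ≅ DRing.homCx P I where
  hom := homCxPre e.hom I
  inv := homCxPre e.inv I
  hom_inv_id := by rw [← homCxPre_comp, e.inv_hom_id, homCxPre_id]
  inv_hom_id := by rw [← homCxPre_comp, e.hom_inv_id, homCxPre_id]

theorem isKInjective_homCx (S I : DRing.Cx A) (hS : DRing.IsKFlat A S) [I.IsKInjective] :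
    CochainComplex.IsKInjective (DRing.homCx S I) := by
  refine ⟨fun {L} φ hL => ?_⟩
  have hLS : (L ⊗ S : DRing.Cx A).Acyclic := fun i =>
    (HomologicalComplex.exactAt_iff_isZero_homology _ _).2 (hS L (fun j => (hL j).isZero_homology) i)
  let z := Cochain.ofHom φ
  have hZ : δ 0 1 (homTensorEquiv 0 z) = 0 := by
    rw [homTensorEquiv_δ 0 1 rfl, δ_ofHom, map_zero]
  let ψ : (L ⊗ S : DRing.Cx A) ⟶ I := Cocycle.homOf (Cocycle.mk (homTensorEquiv 0 z) 1 rfl hZ)
  obtain ⟨H⟩ := CochainComplex.IsKInjective.nonempty_homotopy_zero ψ hLS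
  obtain ⟨w, hw⟩ := Cochain.equivHomotopy ψ 0 H
  have hψ : Cochain.ofHom ψ = homTensorEquiv 0 z := Cocycle.cochain_ofHom_homOf_eq_coe _
  rw [Cochain.ofHom_zero, add_zero, hψ] at hw
  refine ⟨(Cochain.equivHomotopy φ 0).symm ⟨(homTensorEquiv (-1)).symm w, ?_⟩⟩
  rw [Cochain.ofHom_zero, add_zero, homTensorEquiv_δ_symm (-1) 0 rfl, ← hw, LinearEquiv.symm_apply_apply]

theorem nonempty_RHomCx_RHomCx {E : DRing.Cx A} (T S : DRing.Cx A) (eE : E ≅ (T ⊗ S : DRing.Cx A))
    (hS : DRing.IsKFlat A S) [DRing.HasRHomCx T] [DRing.HasRHomCx S] [DRing.HasRHomCx E] (K : Dual.D A) :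
    Nonempty ((DRing.RHomCx T).obj ((DRing.RHomCx S).obj K) ≅ (DRing.RHomCx E).obj K) := by
  obtain ⟨I, hI, ⟨e⟩⟩ := KInj.exists_kInjective_iso (KInj.hres_of_isGrothendieckAbelian (ModuleCat.{u} A)) K
  haveI := hI
  haveI := isKInjective_homCx S I hS
  let e' : DRing.toD I ≅ K := ((DerivedCategory.quotientCompQhIso (ModuleCat.{u} A)).app I).symm ≪≫ e
  obtain ⟨e₁⟩ := nonempty_RHomCx_kInjective S I
  obtain ⟨e₂⟩ := nonempty_RHomCx_kInjective T (DRing.homCx S I)
  obtain ⟨e₃⟩ := nonempty_RHomCx_kInjective E I
  exact ⟨(DRing.RHomCx T).mapIso ((DRing.RHomCx S).mapIso e'.symm ≪≫ e₁) ≪≫ e₂ ≪≫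
    DerivedCategory.Q.mapIso (homCxTensorIso T S I ≪≫ homCxPreIso eE I) ≪≫ e₃.symm ≪≫
    (DRing.RHomCx E).mapIso e'⟩

/-- The tensor product of two single complexes. -/
def single₀Tensor (M N : ModuleCat.{u} A) : (single₀ M ⊗ single₀ N : DRing.Cx A) ≅ single₀ (M ⊗ N) :=
  (singleTensorIso M (single₀ N)).symm ≪≫
    (HomologicalComplex.singleMapHomologicalComplex (tensorLeft M) (ComplexShape.up ℤ) 0).app N

theorem isKFlat_single₀ (M : ModuleCat.{u} A) (hM : Module.Flat A M) : DRing.IsKFlat A (single₀ M) := by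
  refine isKFlat_of_vanishesAbove (b := 0) (fun i hi => HomologicalComplex.isZero_single_obj_X _ _ _ _ (by omega))
    fun i => ?_
  by_cases hi : i = 0
  · subst hi
    haveI := hM
    exact Module.Flat.of_linearEquiv (HomologicalComplex.singleObjXSelf (ComplexShape.up ℤ) 0 M).toLinearEquiv
  · haveI := ModuleCat.subsingleton_of_isZero
      (HomologicalComplex.isZero_single_obj_X (ComplexShape.up ℤ) 0 M i hi)
    infer_instance

open scoped TensorProduct in
theorem nonempty_away_tensor_iso (f g : A) :
    Nonempty (ModuleCat.of A (Localization.Away (f * g)) ≅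
      ((ModuleCat.of A (Localization.Away f)) ⊗ (ModuleCat.of A (Localization.Away g)) : ModuleCat.{u} A)) := by
  let T := Localization.Away f ⊗[A] Localization.Away g
  have hu : IsUnit (algebraMap A T (f * g)) := by
    rw [map_mul]
    refine IsUnit.mul ?_ ?_
    · rw [← (Algebra.TensorProduct.includeLeft : Localization.Away f →ₐ[A] T).commutes f]
      exact (IsLocalization.Away.algebraMap_isUnit f).map _
    · rw [← (Algebra.TensorProduct.includeRight : Localization.Away g →ₐ[A] T).commutes g]
      exact (IsLocalization.Away.algebraMap_isUnit g).map _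
  let θ : Localization.Away (f * g) →ₐ[A] T :=
    { IsLocalization.Away.lift (f * g) hu with commutes' := fun r => IsLocalization.Away.lift_eq _ hu r }
  have hfg : IsUnit (algebraMap A (Localization.Away (f * g)) f) ∧
      IsUnit (algebraMap A (Localization.Away (f * g)) g) := by
    have := IsLocalization.Away.algebraMap_isUnit (S := Localization.Away (f * g)) (f * g)
    rw [map_mul] at this
    exact IsUnit.mul_iff.1 this
  let a : Localization.Away f →ₐ[A] Localization.Away (f * g) :=
    { IsLocalization.Away.lift f hfg.1 with commutes' := fun r => IsLocalization.Away.lift_eq _ hfg.1 r }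
  let b : Localization.Away g →ₐ[A] Localization.Away (f * g) :=
    { IsLocalization.Away.lift g hfg.2 with commutes' := fun r => IsLocalization.Away.lift_eq _ hfg.2 r }
  let η : T →ₐ[A] Localization.Away (f * g) := Algebra.TensorProduct.lift a b fun _ _ => Commute.all _ _
  have h1 : η.comp θ = AlgHom.id A _ := IsLocalization.algHom_ext (Submonoid.powers (f * g)) (by ext)
  have h2 : θ.comp η = AlgHom.id A _ := Algebra.TensorProduct.ext
    (IsLocalization.algHom_ext (Submonoid.powers f) (by ext))
    (IsLocalization.algHom_ext (Submonoid.powers g) (by ext))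
  exact ⟨(AlgEquiv.ofAlgHom θ η h2 h1).toLinearEquiv.toModuleIso⟩

theorem nonempty_RHomCx_away (f g : A) [DRing.HasRHomCx (single₀ (ModuleCat.of A (Localization.Away f)))]
    [DRing.HasRHomCx (single₀ (ModuleCat.of A (Localization.Away g)))]
    [DRing.HasRHomCx (single₀ (ModuleCat.of A (Localization.Away (f * g))))] (K : Dual.D A) :
    Nonempty ((DRing.RHomCx (single₀ (ModuleCat.of A (Localization.Away f)))).obj
        ((DRing.RHomCx (single₀ (ModuleCat.of A (Localization.Away g)))).obj K) ≅
      (DRing.RHomCx (single₀ (ModuleCat.of A (Localization.Away (f * g))))).obj K) := by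
  let Sf := single₀ (ModuleCat.of A (Localization.Away f))
  let Sg := single₀ (ModuleCat.of A (Localization.Away g))
  obtain ⟨em⟩ := nonempty_away_tensor_iso f g
  let e : single₀ (ModuleCat.of A (Localization.Away (f * g))) ≅ (Sf ⊗ Sg : DRing.Cx A) :=
    (HomologicalComplex.single (ModuleCat.{u} A) (ComplexShape.up ℤ) 0).mapIso em ≪≫ (single₀Tensor _ _).symm
  exact nonempty_RHomCx_RHomCx Sf Sg e
    (isKFlat_single₀ _ (IsLocalization.flat (Localization.Away g) (Submonoid.powers g))) K

end Groth.Agent.DRingLib
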