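import Mathlib

/-!
# Spreading out exactness at a point to a neighbourhood
-/

set_option autoImplicit false
set_option linter.style.haveILetI false

universe u

open TensorProduct Polynomial

noncomputable section

namespace Groth.Agent.DRingLib

variable {R : Type u} [CommRing R] (p : Ideal R) [p.IsPrime]

theorem exists_smul_eq_tmul {N : Type u} [AddCommGroup N] [Module R N] (x : p.ResidueField ⊗[R] N) :
    ∃ c : R, c ∉ p ∧ ∃ y : N, c • x = 1 ⊗ₜ y := by
  induction x using TensorProduct.induction_on with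
  | zero => exact ⟨1, p.one_notMem, 0, by simp⟩
  | tmul k n =>
    obtain ⟨r, s, hs, rfl⟩ := IsFractionRing.div_surjective (R ⧸ p) k
    obtain ⟨r, rfl⟩ := Ideal.Quotient.mk_surjective r
    obtain ⟨s, rfl⟩ := Ideal.Quotient.mk_surjective s
    have hs' : s ∉ p := fun h => nonZeroDivisors.ne_zero hs (Ideal.Quotient.eq_zero_iff_mem.2 h)
    refine ⟨s, hs', r • n, ?_⟩
    rw [TensorProduct.tmul_smul, TensorProduct.smul_tmul', TensorProduct.smul_tmul']
    congr 1
    rw [Algebra.smul_def, Algebra.smul_def, mul_one, IsScalarTower.algebraMap_apply R (R ⧸ p) p.ResidueField s,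
      IsScalarTower.algebraMap_apply R (R ⧸ p) p.ResidueField r]
    exact mul_div_cancel₀ _ (IsFractionRing.to_map_ne_zero_of_mem_nonZeroDivisors hs)
  | add x y hx hy =>
    obtain ⟨c, hc, y₁, h₁⟩ := hx
    obtain ⟨c', hc', y₂, h₂⟩ := hy
    refine ⟨c * c', fun h => (Ideal.IsPrime.mem_or_mem inferInstance h).elim hc hc', c' • y₁ + c • y₂, ?_⟩
    rw [smul_add, TensorProduct.tmul_add, TensorProduct.tmul_smul, TensorProduct.tmul_smul, ← h₁, ← h₂,
      smul_smul, smul_smul, mul_comm c']

theorem exists_lift_baseChange {M N : Type u} [AddCommGroup M] [Module R M] [Module.Free R M] [Module.Finite R M]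
    [AddCommGroup N] [Module R N] (h : p.ResidueField ⊗[R] M →ₗ[p.ResidueField] p.ResidueField ⊗[R] N) :
    ∃ c : R, c ∉ p ∧ ∃ g : M →ₗ[R] N, g.baseChange p.ResidueField = algebraMap R p.ResidueField c • h := by
  classical
  let b := Module.Free.chooseBasis R M
  choose c hc y hy using fun j => exists_smul_eq_tmul p (h (1 ⊗ₜ b j))
  refine ⟨∏ j, c j, fun h => ?_, b.constr R fun j => (∏ l ∈ Finset.univ.erase j, c l) • y j, ?_⟩
  · obtain ⟨j, -, hj⟩ := (Ideal.IsPrime.prod_mem_iff).1 h
    exact hc j hj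
  · refine (b.baseChange p.ResidueField).ext fun j => ?_
    rw [Module.Basis.baseChange_apply, LinearMap.baseChange_tmul, Module.Basis.constr_basis, LinearMap.smul_apply,
      algebraMap_smul, TensorProduct.tmul_smul, ← hy, smul_smul, Finset.prod_erase_mul _ _ (Finset.mem_univ j)]

/-- A finite free piece of a complex exact at `p` is split exact near `p`. -/
theorem exists_split_near {E₀ E₁ E₂ : Type u} [AddCommGroup E₀] [Module R E₀] [AddCommGroup E₁] [Module R E₁]
    [AddCommGroup E₂] [Module R E₂] [Module.Free R E₁] [Module.Finite R E₁]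
    [Module.Free R E₂] [Module.Finite R E₂] (a : E₀ →ₗ[R] E₁) (b : E₁ →ₗ[R] E₂)
    (hab : ∀ x, b (a x) = 0) (hex : Function.Exact (a.baseChange p.ResidueField) (b.baseChange p.ResidueField)) :
    ∃ f : R, f ∉ p ∧ ∃ (g : E₁ →ₗ[R] E₀) (h : E₂ →ₗ[R] E₁), a ∘ₗ g + h ∘ₗ b = f • LinearMap.id := by
  let a' := a.baseChange p.ResidueField
  let b' := b.baseChange p.ResidueField
  haveI : Module.Free p.ResidueField (LinearMap.range b') :=
    Module.Free.of_divisionRing p.ResidueField (↥(LinearMap.range b'))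
  haveI : Module.Free p.ResidueField (LinearMap.range a') :=
    Module.Free.of_divisionRing p.ResidueField (↥(LinearMap.range a'))
  obtain ⟨σ, hσ⟩ := LinearMap.exists_rightInverse_of_surjective b'.rangeRestrict b'.range_rangeRestrict
  obtain ⟨h₀, hh₀⟩ := LinearMap.exists_extend σ
  obtain ⟨τ, hτ⟩ := LinearMap.exists_rightInverse_of_surjective a'.rangeRestrict a'.range_rangeRestrict
  have he : ∀ x, x - h₀ (b' x) ∈ LinearMap.range a' := fun x => by
    refine (hex _).1 ?_
    show b' (x - h₀ (b' x)) = 0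
    have h1 : h₀ (b' x) = σ (b'.rangeRestrict x) := LinearMap.congr_fun hh₀ (b'.rangeRestrict x)
    have h2 : b' (σ (b'.rangeRestrict x)) = b' x :=
      congrArg Subtype.val (LinearMap.congr_fun hσ (b'.rangeRestrict x))
    rw [map_sub, h1, h2, sub_self]
  let g₀ := τ ∘ₗ LinearMap.codRestrict _ (LinearMap.id - h₀ ∘ₗ b') he
  have hid : a' ∘ₗ g₀ + h₀ ∘ₗ b' = LinearMap.id := LinearMap.ext fun x => by
    have h1 : a' (g₀ x) = x - h₀ (b' x) := congrArg Subtype.val (LinearMap.congr_fun hτ _)
    simp [h1]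
  obtain ⟨c₁, hc₁, g, hg⟩ := exists_lift_baseChange p g₀
  obtain ⟨c₂, hc₂, h, hh⟩ := exists_lift_baseChange p h₀
  let θ : E₁ →ₗ[R] E₁ := a ∘ₗ (c₂ • g) + (c₁ • h) ∘ₗ b
  have hθ : θ.baseChange p.ResidueField = algebraMap R p.ResidueField (c₁ * c₂) • LinearMap.id := by
    rw [← hid]
    simp only [θ, LinearMap.baseChange_add, LinearMap.baseChange_comp, LinearMap.baseChange_smul, hg, hh, map_mul,
      ← algebraMap_smul p.ResidueField c₁, ← algebraMap_smul p.ResidueField c₂, LinearMap.comp_smul, LinearMap.smul_comp, smul_smul, smul_add]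
    rw [mul_comm (algebraMap R p.ResidueField c₂) (algebraMap R p.ResidueField c₁)]
  have hdet : θ.det ∉ p := fun hmem => by
    have h1 : algebraMap R p.ResidueField θ.det = 0 := Ideal.algebraMap_residueField_eq_zero.2 hmem
    rw [← LinearMap.det_baseChange, hθ, LinearMap.det_smul, LinearMap.det_id, mul_one] at h1
    have := pow_eq_zero_iff'.1 h1
    rw [map_mul, mul_eq_zero] at this
    rcases this.1 with h | h
    exacts [hc₁ (Ideal.algebraMap_residueField_eq_zero.1 h), hc₂ (Ideal.algebraMap_residueField_eq_zero.1 h)]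
  let q := θ.charpoly.divX
  have hq : Polynomial.aeval θ q ∘ₗ θ = -(θ.charpoly.coeff 0) • LinearMap.id := by
    have h := LinearMap.aeval_self_charpoly θ
    rw [← θ.charpoly.divX_mul_X_add, map_add, map_mul, aeval_X, aeval_C] at h
    rw [neg_smul]
    refine eq_neg_of_add_eq_zero_left ?_
    exact h
  have hqa : ∀ P : R[X], Polynomial.aeval θ P ∘ₗ a = a ∘ₗ Polynomial.aeval ((c₂ • g) ∘ₗ a) P := by
    intro P
    induction P using Polynomial.induction_on with
    | C r => ext x; simp [Algebra.algebraMap_eq_smul_one]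
    | add P Q hP hQ => simp [LinearMap.add_comp, LinearMap.comp_add, hP, hQ]
    | monomial n r ih =>
      have hθa : θ ∘ₗ a = a ∘ₗ ((c₂ • g) ∘ₗ a) := LinearMap.ext fun x => by
        simp only [θ, LinearMap.add_comp, LinearMap.add_apply, LinearMap.comp_apply]
        rw [hab x]
        simp
      rw [pow_succ, ← mul_assoc, map_mul, map_mul (Polynomial.aeval ((c₂ • g) ∘ₗ a)), aeval_X, aeval_X]
      show (Polynomial.aeval θ _ ∘ₗ θ) ∘ₗ a = a ∘ₗ (_ ∘ₗ _)
      rw [LinearMap.comp_assoc, hθa, ← LinearMap.comp_assoc, ih, LinearMap.comp_assoc]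
  refine ⟨-(θ.charpoly.coeff 0), ?_, Polynomial.aeval ((c₂ • g) ∘ₗ a) q ∘ₗ (c₂ • g),
    Polynomial.aeval θ q ∘ₗ (c₁ • h), ?_⟩
  · intro hmem
    refine hdet ?_
    rw [LinearMap.det_eq_sign_charpoly_coeff]
    exact Ideal.mul_mem_left _ _ (neg_mem_iff.1 hmem)
  · rw [← hq, ← LinearMap.comp_assoc, ← hqa]
    simp only [θ, LinearMap.comp_add, LinearMap.comp_assoc]

end Groth.Agent.DRingLib
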