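import Groth.Agent.DRingLib.Split
import Groth.Agent.DRingLib.FlatBC
import Groth.Agent.DRingLib.FibreExact

/-!
# Splitting truncations near a point where a fibre cohomology vanishes
-/

set_option autoImplicit false
set_option linter.style.haveILetI false
set_option backward.isDefEq.respectTransparency false

universe u

open CategoryTheory Limits MonoidalCategory
attribute [local instance] HasDerivedCategory.standard

noncomputable section

namespace Groth.Agent.DRingLib

open Groth.Agent.DCohLib Groth.Agent.DTenLib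

variable {A : Type u} [CommRing A]

theorem isIso_homology_truncGEπ (K : Dual.D A) {m i : ℤ} (hi : m ≤ i) :
    IsIso ((DerivedCategory.homologyFunctor (ModuleCat.{u} A) i).map (((stdT A).truncGEπ m).app K)) := by
  let H := DerivedCategory.homologyFunctor (ModuleCat.{u} A) i
  let T := ((stdT A).triangleLTGE m).obj K
  have hT : T ∈ distTriang _ := (stdT A).triangleLTGE_distinguished m K
  haveI : DerivedCategory.IsLE T.obj₁ (m - 1) := inferInstanceAs ((stdT A).IsLE (((stdT A).truncLT m).obj K) (m - 1))
  haveI : Mono (H.map T.mor₂) := (DerivedCategory.HomologySequence.mono_homologyMap_mor₂_iff T hT i).2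
    ((DerivedCategory.isZero_of_isLE T.obj₁ (m - 1) i (by omega)).eq_of_src _ _)
  haveI : Epi (H.map T.mor₂) := (DerivedCategory.HomologySequence.epi_homologyMap_mor₂_iff T hT i (i + 1) rfl).2
    ((DerivedCategory.isZero_of_isLE T.obj₁ (m - 1) (i + 1) (by omega)).eq_of_tgt _ _)
  exact isIso_of_mono_of_epi (H.map T.mor₂)

/-- The truncation of a complex represents the truncation. -/
theorem nonempty_truncGE_iso (N : DRing.Cx A) (m : ℤ) :
    Nonempty (DRing.toD (N.truncGE m) ≅ ((stdT A).truncGE m).obj (DRing.toD N)) := by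
  haveI : (stdT A).IsGE (DRing.toD (N.truncGE m)) m :=
    (DerivedCategory.isGE_Q_obj_iff (N.truncGE m) m).2 inferInstance
  let f := (stdT A).descTruncGE (DerivedCategory.Q.map (N.πTruncGE m)) m
  haveI : IsIso f := (DerivedCategory.isIso_iff (ModuleCat.{u} A) f).2 fun i => by
    rcases lt_or_ge i m with hi | hi
    · exact (DerivedCategory.isZero_of_isGE _ m i hi).isIso (DerivedCategory.isZero_of_isGE _ m i hi) _
    · haveI := isIso_homology_truncGEπ (DRing.toD N) hi
      haveI : IsIso ((DerivedCategory.homologyFunctor (ModuleCat.{u} A) i).map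
          (((stdT A).truncGEπ m).app (DRing.toD N)) ≫ (DerivedCategory.homologyFunctor (ModuleCat.{u} A) i).map f) := by
        rw [← Functor.map_comp, Triangulated.TStructure.π_descTruncGE]
        haveI : QuasiIsoAt (N.πTruncGE m) i := N.quasiIsoAt_πTruncGE m i hi
        exact (NatIso.isIso_map_iff (DerivedCategory.homologyFunctorFactors (ModuleCat.{u} A) i) _).2
          (inferInstanceAs (IsIso (HomologicalComplex.homologyMap (N.πTruncGE m) i)))
      exact IsIso.of_isIso_comp_left ((DerivedCategory.homologyFunctor (ModuleCat.{u} A) i).map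
        (((stdT A).truncGEπ m).app (DRing.toD N))) _
  exact ⟨(asIso f).symm⟩

variable {B : Type u} [CommRing B] (φ : A →+* B)

theorem quasiIso_extCx_map_of_flat (hφ : Module.Flat A (baseMod φ)) {P Q : DRing.Cx A} (α : P ⟶ Q)
    (hα : QuasiIso α) : QuasiIso ((DTen.extCx φ).map α) := by
  haveI := preservesHomology_tensorLeft_of_flat (baseMod φ) hφ
  haveI := hα
  have h₁ : QuasiIso (((tensorLeft (baseMod φ)).mapHomologicalComplex (ComplexShape.up ℤ)).map α) :=
    HomologicalComplex.quasiIso_map_of_preservesHomology α (tensorLeft (baseMod φ))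
  rw [← HomologicalComplex.quasiIso_map_iff_of_preservesHomology _ (ModuleCat.restrictScalars.{u} φ)]
  exact (quasiIso_iff_of_arrow_mk_iso _ _ (((Functor.mapArrowFunctor _ _).mapIso
    (NatIso.mapHomologicalComplex (extResIso φ) (ComplexShape.up ℤ))).app (Arrow.mk α))).2 h₁

theorem extendScalars_map_smul_id (M : ModuleCat.{u} A) (f : A) :
    (ModuleCat.extendScalars.{u, u, u} φ).map (f • 𝟙 M) = φ f • 𝟙 _ := by
  refine ModuleCat.ExtendScalars.hom_ext fun m => ?_
  letI := φ.toAlgebra
  show (1 : B) ⊗ₜ[A] (f • m) = φ f • ((1 : B) ⊗ₜ[A] m)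
  rw [TensorProduct.tmul_smul]
  rfl

/-- Contracting data makes a complex split exact in a degree. -/
theorem exactAt_and_projective_of_split (N : DRing.Cx A) (i : ℤ) (g : N.X i ⟶ N.X (i - 1)) (h : N.X (i + 1) ⟶ N.X i)
    (hgh : g ≫ N.d (i - 1) i + N.d i (i + 1) ≫ h = 𝟙 _) (hp : Module.Projective A (N.X (i + 1))) :
    N.ExactAt i ∧ Projective (N.opcycles (i + 1)) := by
  constructor
  · rw [HomologicalComplex.exactAt_iff' _ (i - 1) i (i + 1) (by simp) (by simp), ShortComplex.moduleCat_exact_iff]
    intro x hx
    refine ⟨g.hom x, ?_⟩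
    have := congr(($hgh).hom x)
    change (N.d (i - 1) i).hom (g.hom x) + h.hom ((N.d i (i + 1)).hom x) = x at this
    rw [show (N.d i (i + 1)).hom x = 0 from hx, map_zero, add_zero] at this
    exact this
  · have he : N.d i (i + 1) ≫ (𝟙 _ - h ≫ N.d i (i + 1)) = 0 := by
      have := congrArg (· ≫ N.d i (i + 1)) hgh
      simp only [Preadditive.add_comp, Category.assoc, N.d_comp_d, comp_zero, zero_add, Category.id_comp] at this
      simp [Preadditive.comp_sub, this]
    let s := N.descOpcycles (𝟙 _ - h ≫ N.d i (i + 1)) i (CochainComplex.prev ℤ (i + 1) |>.trans (by omega)) he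
    have hs : s ≫ N.pOpcycles (i + 1) = 𝟙 _ := by
      rw [← cancel_epi (N.pOpcycles (i + 1)), HomologicalComplex.p_descOpcycles_assoc, Category.comp_id]
      simp [Preadditive.sub_comp]
    haveI : Projective (N.X (i + 1)) := by
      haveI := hp
      exact ModuleCat.projective_of_categoryTheory_projective (N.X (i + 1))
    exact (Retract.mk s (N.pOpcycles (i + 1)) hs).projective

theorem exists_split_ext {R : Type u} [CommRing R] (p : Ideal R) [p.IsPrime] (E : DRing.Cx R) (i : ℤ)
    (hE : ∀ j, FFree (E.X j))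
    (hex : ((DTen.extCx (algebraMap R p.ResidueField)).obj E).ExactAt i) :
    ∃ f : R, f ∉ p ∧ ((DTen.extCx (algebraMap R (Localization.Away f))).obj E).ExactAt i ∧
      Projective (((DTen.extCx (algebraMap R (Localization.Away f))).obj E).opcycles (i + 1)) := by
  haveI := (hE i).1
  haveI := (hE i).2
  haveI := (hE (i + 1)).1
  haveI := (hE (i + 1)).2
  let κ := p.ResidueField
  have nat : ∀ {M N : ModuleCat.{u} R} (u : M ⟶ N) x,
      extendScalarsTensorEquiv R κ N (((ModuleCat.extendScalars.{u, u, u} (algebraMap R κ)).map u).hom x) =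
        u.hom.baseChange κ (extendScalarsTensorEquiv R κ M x) := by
    intro M N u x
    refine TensorProduct.induction_on x ?_ (fun _ _ => rfl) (fun y z hy hz => ?_)
    · exact (congrArg _ (map_zero _)).trans ((map_zero _).trans ((map_zero _).symm.trans
        (congrArg _ (map_zero _).symm)))
    · exact (congrArg _ (map_add _ y z)).trans ((map_add _ _ _).trans ((congrArg₂ (· + ·) hy hz).trans
        ((map_add _ _ _).symm.trans (congrArg _ (map_add _ y z).symm))))
  rw [HomologicalComplex.exactAt_iff' _ (i - 1) i (i + 1) (by simp) (by simp),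
    ShortComplex.ShortExact.moduleCat_exact_iff_function_exact] at hex
  have hex' : Function.Exact ((E.d (i - 1) i).hom.baseChange κ) ((E.d i (i + 1)).hom.baseChange κ) := by
    refine Function.Exact.of_ladder_linearEquiv_of_exact (e₁ := extendScalarsTensorEquiv R κ (E.X (i - 1)))
      (e₂ := extendScalarsTensorEquiv R κ (E.X i)) (e₃ := extendScalarsTensorEquiv R κ (E.X (i + 1))) ?_ ?_ hex
    · exact LinearMap.ext fun x => (nat _ x).symm
    · exact LinearMap.ext fun x => (nat _ x).symm
  obtain ⟨f, hf, g, h, hgh⟩ := exists_split_near p (E.d (i - 1) i).hom (E.d i (i + 1)).hom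
    (fun x => congr($(E.d_comp_d (i - 1) i (i + 1)).hom x)) hex'
  refine ⟨f, hf, ?_⟩
  let φ := algebraMap R (Localization.Away f)
  let F := ModuleCat.extendScalars.{u, u, u} φ
  obtain ⟨v, hv⟩ := IsLocalization.Away.algebraMap_isUnit (S := Localization.Away f) f
  have hid : ModuleCat.ofHom g ≫ E.d (i - 1) i + E.d i (i + 1) ≫ ModuleCat.ofHom h = f • 𝟙 (E.X i) :=
    ModuleCat.hom_ext hgh
  have hid' := congrArg F.map hid
  rw [Functor.map_add, Functor.map_comp, Functor.map_comp, extendScalars_map_smul_id] at hid'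
  refine exactAt_and_projective_of_split _ i (((v⁻¹ : (Localization.Away f)ˣ) : Localization.Away f) • F.map (ModuleCat.ofHom g))
    (((v⁻¹ : (Localization.Away f)ˣ) : Localization.Away f) • F.map (ModuleCat.ofHom h)) ?_
    (fFree_imp_fProj (fFree_extend φ (hE (i + 1)))).2
  rw [Linear.smul_comp, Linear.comp_smul, ← smul_add]
  refine (congrArg _ hid').trans ?_
  rw [smul_smul, show φ f = (v : Localization.Away f) from hv.symm, Units.inv_mul, one_smul]
  rfl

theorem split_near {R : Type u} [CommRing R] (p : Ideal R) [p.IsPrime]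
    [DRing.HasLBaseChange (algebraMap R p.ResidueField)] (i : ℤ) (K : DRing.Cx R)
    (hK : DRing.IsPseudoCoherent' R (DRing.toD K))
    (hi : Subsingleton (Dual.HD p.ResidueField ((DRing.LBaseChange (algebraMap R p.ResidueField)).obj (DRing.toD K)) i)) :
    ∃ f : R, f ∉ p ∧ ∃ (P : DRing.Cx (Localization.Away f)) (b : ℤ),
      DRing.VanishesOutside P (i + 1) b ∧ (∀ j, FProj (P.X j)) ∧
      Nonempty (DRing.toD P ≅ ((stdT (Localization.Away f)).truncGE (i + 1)).obj
        (DRing.toD ((DTen.extCx (algebraMap R (Localization.Away f))).obj K))) ∧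
      IsZero ((DerivedCategory.homologyFunctor (ModuleCat.{u} (Localization.Away f)) i).obj
        (DRing.toD ((DTen.extCx (algebraMap R (Localization.Away f))).obj K))) := by
  obtain ⟨E, b, hEb, hE, ⟨e⟩⟩ := hK
  have hEp : ∀ j, Module.Projective R (E.X j) := fun j => (fFree_imp_fProj (hE j)).2
  haveI : CochainComplex.IsKProjective E := isKProjective_of_vanishesAbove hEb hEp
  obtain ⟨α, hα⟩ := Q_map_surjective E K e.hom
  haveI : IsIso (DerivedCategory.Q.map α) := hα ▸ inferInstance
  have hq : QuasiIso α := (DerivedCategory.isIso_Q_map_iff_quasiIso _ α).1 inferInstance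
  have hex : ((DTen.extCx (algebraMap R p.ResidueField)).obj E).ExactAt i :=
    (exactAt_iff_isZero_homologyFunctor _ i).2 ((@ModuleCat.isZero_of_subsingleton _ _ _ hi).of_iso
      ((DerivedCategory.homologyFunctor _ i).mapIso ((lbcIso (algebraMap R p.ResidueField) E
        (isKFlat_of_projective hEb hEp)).symm ≪≫ (DRing.LBaseChange _).mapIso e)))
  obtain ⟨f, hf, hexf, hop⟩ := exists_split_ext p E i hE hex
  let φ := algebraMap R (Localization.Away f)
  haveI : Module.Flat R (Localization.Away f) := IsLocalization.flat (Localization.Away f) (Submonoid.powers f)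
  haveI := quasiIso_extCx_map_of_flat φ (flat_baseMod R (Localization.Away f)) α hq
  let eK : DRing.toD ((DTen.extCx φ).obj E) ≅ DRing.toD ((DTen.extCx φ).obj K) :=
    @asIso _ _ _ _ (DerivedCategory.Q.map ((DTen.extCx φ).map α)) (isIso_Q_map _ inferInstance)
  let N := (DTen.extCx φ).obj E
  have hN : ∀ j, FProj (N.X j) := fun j => fFree_imp_fProj (fFree_extend φ (hE j))
  obtain ⟨eT⟩ := nonempty_truncGE_iso N (i + 1)
  refine ⟨f, hf, N.truncGE (i + 1), max (i + 1) b, fun j hj => ?_, fun j => ?_,
    ⟨eT ≪≫ ((stdT (Localization.Away f)).truncGE (i + 1)).mapIso eK⟩,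
    ((exactAt_iff_isZero_homologyFunctor N i).1 hexf).of_iso
      ((DerivedCategory.homologyFunctor _ i).mapIso eK).symm⟩
  · rcases hj with hj | hj
    · exact CochainComplex.isZero_of_isStrictlyGE _ (i + 1) j hj
    · exact ((ModuleCat.extendScalars.{u, u, u} φ).map_isZero (hEb j (by omega))).of_iso
        (CochainComplex.truncGEXIso N (i + 1) j (by omega))
  · rcases lt_trichotomy j (i + 1) with hj | rfl | hj
    · exact projClass_fProj.zero (CochainComplex.isZero_of_isStrictlyGE (N.truncGE (i + 1)) (i + 1) j hj)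
    · refine projClass_fProj.iso (CochainComplex.truncGEXIsoOpcycles N (i + 1)).symm ⟨?_, ?_⟩
      · haveI := (hN (i + 1)).1
        exact Module.Finite.of_surjective (N.pOpcycles (i + 1)).hom ((ModuleCat.epi_iff_surjective _).1 inferInstance)
      · exact (IsProjective.iff_projective _).2 hop
    · exact projClass_fProj.iso (CochainComplex.truncGEXIso N (i + 1) j hj).symm (hN j)

end Groth.Agent.DRingLib
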