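import Groth.Agent.DRingLib.Perfect
import Groth.Agent.DRingLib.FlatCoker
import Groth.Agent.DTenLib.Res
import Groth.Prelude.Def_DRing4

/-!
# Derived tensor products of bounded above complexes of finite projective modules
-/

set_option autoImplicit false
set_option linter.style.haveILetI false
set_option backward.isDefEq.respectTransparency false

universe u

open CategoryTheory Limits MonoidalCategory
attribute [local instance] HasDerivedCategory.standard

noncomputable section

namespace Groth.Agent.DRingLib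

open Groth.Agent.DCohLib Groth.Agent.DTenLib

variable {A : Type u} [CommRing A]

open scoped DirectSum in
theorem tensor_X_class (Ψ : ModuleCat.{u} A → Prop)
    (hiso : ∀ {M N : ModuleCat.{u} A}, (M ≅ N) → Ψ M → Ψ N)
    (hsum : ∀ {ι : Type} (Z : ι → ModuleCat.{u} A) (s : Finset ι), (∀ i, i ∉ s → IsZero (Z i)) →
      (∀ i, Ψ (Z i)) → Ψ (ModuleCat.of A (⨁ i, Z i)))
    (htens : ∀ {M N : ModuleCat.{u} A}, Ψ M → Ψ N → Ψ (M ⊗ N))
    {X Y : DRing.Cx A} {b d : ℤ} (hX : DRing.VanishesAbove X b) (hY : DRing.VanishesAbove Y d)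
    (hXΨ : ∀ i, Ψ (X.X i)) (hYΨ : ∀ i, Ψ (Y.X i)) (n : ℤ) :
    Ψ ((X ⊗ Y : DRing.Cx A).X n) := by
  classical
  let Z : KFlat.Idx n → ModuleCat.{u} A := fun i => X.X i.1.1 ⊗ Y.X i.1.2
  have hz : ∀ i : KFlat.Idx n, i ∉ ((Finset.Icc (n - d) b).image
      (fun p => (⟨(p, n - p), show p + (n - p) = n by omega⟩ : KFlat.Idx n))) → IsZero (Z i) := by
    rintro ⟨⟨p, q⟩, hpq⟩ hi
    have hpq' : p + q = n := hpq
    simp only [Finset.mem_image, Finset.mem_Icc, not_exists, not_and, Subtype.mk.injEq, Prod.mk.injEq] at hi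
    by_cases hp : b < p
    · exact (tensorRight (Y.X q)).map_isZero (hX p hp)
    · by_cases hq : d < q
      · exact (tensorLeft (X.X p)).map_isZero (hY q hq)
      · exact absurd (show n - p = q by omega) (hi p (by omega) rfl)
  exact hiso (ModuleCat.coprodIsoDirectSum Z).symm (hsum Z _ hz fun i => htens (hXΨ _) (hYΨ _))

theorem isZero_tensor_X {X Y : DRing.Cx A} {n : ℤ}
    (h : ∀ p q : ℤ, p + q = n → IsZero (X.X p) ∨ IsZero (Y.X q)) : IsZero ((X ⊗ Y : DRing.Cx A).X n) := by
  rw [IsZero.iff_id_eq_zero]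
  refine HomologicalComplex.mapBifunctor.hom_ext fun p q hpq => ?_
  rcases h p q hpq with h' | h'
  · exact ((tensorRight (Y.X q)).map_isZero h').eq_of_src _ _
  · exact ((tensorLeft (X.X p)).map_isZero h').eq_of_src _ _

open scoped DirectSum in
theorem finite_directSum {ι : Type} (Z : ι → ModuleCat.{u} A) (s : Finset ι)
    (hs : ∀ i, i ∉ s → IsZero (Z i)) (h : ∀ i, Module.Finite A (Z i)) :
    Module.Finite A (⨁ i, Z i) := by
  classical
  refine ⟨?_⟩
  have htop : (⊤ : Submodule A (⨁ i, Z i)) = ⨆ i ∈ s, LinearMap.range (DirectSum.lof A ι (fun i => Z i) i) := by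
    refine (eq_top_iff.2 fun x _ => ?_).symm
    refine DirectSum.induction_on x (zero_mem _) (fun i z => ?_) (fun a b ha hb => add_mem ha hb)
    by_cases hi : i ∈ s
    · exact Submodule.mem_iSup_of_mem i (Submodule.mem_iSup_of_mem hi ⟨z, rfl⟩)
    · haveI := ModuleCat.subsingleton_of_isZero (hs i hi)
      rw [Subsingleton.elim z 0, map_zero]
      exact zero_mem _
  rw [htop]
  exact Submodule.fg_biSup s _ fun i _ => by
    haveI := h i
    exact Module.Finite.iff_fg.1 inferInstance

open scoped DirectSum in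
theorem fFree_tensor_X {X Y : DRing.Cx A} {b d : ℤ} (hX : DRing.VanishesAbove X b) (hY : DRing.VanishesAbove Y d)
    (hXΨ : DRing.TermwiseFiniteFree X) (hYΨ : DRing.TermwiseFiniteFree Y) :
    DRing.TermwiseFiniteFree (X ⊗ Y : DRing.Cx A) := fun n =>
  tensor_X_class (fun M => Module.Finite A M ∧ Module.Free A M)
    (fun e h => by
      haveI := h.1; haveI := h.2
      exact ⟨Module.Finite.equiv e.toLinearEquiv, Module.Free.of_equiv e.toLinearEquiv⟩)
    (fun Z s hs h => ⟨finite_directSum Z s hs fun i => (h i).1, by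
      haveI := fun i => (h i).2
      infer_instance⟩)
    (fun {M N} hM hN => by
      haveI := hM.1; haveI := hM.2; haveI := hN.1; haveI := hN.2
      exact ⟨inferInstanceAs (Module.Finite A (TensorProduct A M N)),
        inferInstanceAs (Module.Free A (TensorProduct A M N))⟩)
    hX hY hXΨ hYΨ n

open scoped DirectSum in
theorem fProj_tensor_X {X Y : DRing.Cx A} {b d : ℤ} (hX : DRing.VanishesAbove X b) (hY : DRing.VanishesAbove Y d)
    (hXΨ : DRing.TermwiseFiniteProjective X) (hYΨ : DRing.TermwiseFiniteProjective Y) :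
    DRing.TermwiseFiniteProjective (X ⊗ Y : DRing.Cx A) := fun n =>
  tensor_X_class (fun M => Module.Finite A M ∧ Module.Projective A M)
    (fun e h => by
      haveI := h.1; haveI := h.2
      exact ⟨Module.Finite.equiv e.toLinearEquiv, Module.Projective.of_equiv e.toLinearEquiv⟩)
    (fun Z s hs h => ⟨finite_directSum Z s hs fun i => (h i).1, by
      haveI := fun i => (h i).2
      infer_instance⟩)
    (fun {M N} hM hN => by
      haveI := hM.1; haveI := hM.2; haveI := hN.1; haveI := hN.2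
      exact ⟨inferInstanceAs (Module.Finite A (TensorProduct A M N)),
        inferInstanceAs (Module.Projective A (TensorProduct A M N))⟩)
    hX hY hXΨ hYΨ n

section Derived

variable (E : DRing.Cx A)

theorem quasiIso_whiskerRight_of_isKFlat {K K' : DRing.Cx A} (f : K ⟶ K') (hf : QuasiIso f)
    (hK : DRing.IsKFlat A K) (hK' : DRing.IsKFlat A K') : QuasiIso (f ▷ E) := by
  haveI := hf
  haveI := quasiIso_whiskerLeft E f hK hK'
  have h : Arrow.mk (f ▷ E) ≅ Arrow.mk (E ◁ f) :=
    Arrow.isoMk (DTen.braidCx K E) (DTen.braidCx K' E) (by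
      have := DTen.braidCx_naturality f (𝟙 E)
      rw [tensorHom_id, id_tensorHom] at this
      exact this.symm)
  exact (quasiIso_iff_of_arrow_mk_iso _ _ h).2 inferInstance

/-- The resolution adapted to tensoring with a complex. -/
def adaptedTensorCx :
    Adapted (HomologicalComplex.quasiIso (ModuleCat.{u} A) (ComplexShape.up ℤ)) (DRing.tensorCxQ A E) where
  P := resA A
  ψ := resAπ A
  hψ X := (HomologicalComplex.mem_quasiIso_iff _).2 (quasiIso_resAπ X)
  inverts _ _ f hf := isIso_Q_of_quasiIso _ (quasiIso_whiskerRight_of_isKFlat E _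
    (quasiIso_resA_map _ ((HomologicalComplex.mem_quasiIso_iff _).1 hf)) (isKFlat_resA _) (isKFlat_resA _))
  isIso_map X := isIso_Q_of_quasiIso _ (quasiIso_whiskerRight_of_isKFlat E _
    (quasiIso_resAπ _) (isKFlat_resA _) (isKFlat_resA _))

theorem nonempty_LTensorCx_iso [DRing.HasLTensorCx A E] {X Y : DRing.Cx A} (hX : DRing.IsKFlat A X)
    {K : Dual.D A} (eX : DRing.toD X ≅ K) (eY : DRing.toD Y ≅ DRing.toD E) :
    Nonempty (DRing.toD (Y ⊗ X : DRing.Cx A) ≅ (DRing.LTensorCx A E).obj K) := by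
  haveI := hasLTen A
  haveI h₁ : IsIso (((DRing.tensorCxQ A E).totalLeftDerivedCounit DerivedCategory.Q
      (HomologicalComplex.quasiIso (ModuleCat.{u} A) (ComplexShape.up ℤ))).app X) :=
    (adaptedTensorCx E).isIso_app DerivedCategory.Q (DRing.LTensorCx A E) _ X
      (isIso_Q_of_quasiIso _ (quasiIso_whiskerRight_of_isKFlat E _ (quasiIso_resAπ X) (isKFlat_resA X) hX))
  haveI := isIso_ε_right E X hX
  haveI := isIso_ε_right Y X hX
  exact ⟨(asIso ((DTen.ε A).app (Y, X))).symm ≪≫ (DTen.LTen₂ A).mapIso (Iso.prod eY (Iso.refl _)) ≪≫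
    asIso ((DTen.ε A).app (E, X)) ≪≫ DerivedCategory.Q.mapIso (DTen.braidCx E X) ≪≫
    (asIso (((DRing.tensorCxQ A E).totalLeftDerivedCounit DerivedCategory.Q
      (HomologicalComplex.quasiIso (ModuleCat.{u} A) (ComplexShape.up ℤ))).app X)).symm ≪≫
    (DRing.LTensorCx A E).mapIso eX⟩

theorem isPerfect_LTensorCx [DRing.HasLTensorCx A E] {K : Dual.D A} (hK : DRing.IsPerfect A K)
    (hE : DRing.IsPerfect A (DRing.toD E)) : DRing.IsPerfect A ((DRing.LTensorCx A E).obj K) := by
  obtain ⟨X, a, b, hX, hXp, ⟨eX⟩⟩ := hK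
  obtain ⟨Y, c, d, hY, hYp, ⟨eY⟩⟩ := hE
  have hXk : DRing.IsKFlat A X := isKFlat_of_vanishesAbove (b := b) (fun i hi => hX i (Or.inr hi))
    fun i => by haveI := (hXp i).2; exact Module.Flat.of_projective
  refine ⟨Y ⊗ X, c + a, d + b, fun n hn => isZero_tensor_X fun p q hpq => ?_,
    fProj_tensor_X (b := d) (d := b) (fun i hi => hY i (Or.inr hi)) (fun i hi => hX i (Or.inr hi)) hYp hXp,
    nonempty_LTensorCx_iso E hXk eX eY⟩
  by_cases hp : p < c ∨ d < p
  · exact Or.inl (hY p hp)
  · exact Or.inr (hX q (by omega))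

theorem isPseudoCoherent'_LTensorCx [DRing.HasLTensorCx A E] {K : Dual.D A} (hK : DRing.IsPseudoCoherent' A K)
    (hE : DRing.IsPseudoCoherent' A (DRing.toD E)) :
    DRing.IsPseudoCoherent' A ((DRing.LTensorCx A E).obj K) := by
  obtain ⟨X, b, hX, hXp, ⟨eX⟩⟩ := hK
  obtain ⟨Y, d, hY, hYp, ⟨eY⟩⟩ := hE
  have hXk : DRing.IsKFlat A X := isKFlat_of_vanishesAbove hX
    fun i => by haveI := (hXp i).2; infer_instance
  refine ⟨Y ⊗ X, d + b, fun n hn => isZero_tensor_X fun p q hpq => ?_, fFree_tensor_X hY hX hYp hXp,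
    nonempty_LTensorCx_iso E hXk eX eY⟩
  by_cases hp : d < p
  · exact Or.inl (hY p hp)
  · exact Or.inr (hX q (by omega))

end Derived

end Groth.Agent.DRingLib
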