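import Groth.Agent.DRingLib.RestrictAmp
import Groth.Agent.DRingLib.TensorPerfect

/-!
# Tor amplitude of restrictions: localisation and derived tensor products
-/

set_option autoImplicit false
set_option linter.style.haveILetI false
set_option backward.isDefEq.respectTransparency false

universe u

open CategoryTheory Limits MonoidalCategory
open scoped TensorProduct
attribute [local instance] HasDerivedCategory.standard

noncomputable section

namespace Groth.Agent.DRingLib

open Groth.Agent.DCohLib Groth.Agent.DTenLib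

variable {R A : Type u} [CommRing R] [CommRing A] (φ : R →+* A)

theorem exactAt_extCx_tensor_iff' {B : Type u} [CommRing B] (χ : A →+* B) (P : DRing.Cx A)
    (F : DRing.Cx R) (i : ℤ) :
    ((DTen.extCx χ).obj P ⊗ (DTen.extCx (χ.comp φ)).obj F : DRing.Cx B).ExactAt i ↔
      ((tensM (baseMod χ)).obj (P ⊗ (DTen.extCx φ).obj F : DRing.Cx A)).ExactAt i := by
  let W := (DTen.extCx φ).obj F
  let N := baseMod χ
  let e₁ : ((DTen.resCx χ).obj ((DTen.extCx χ).obj P) : DRing.Cx A) ≅ (tensM N).obj P :=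
    (NatIso.mapHomologicalComplex (extResIso χ) (ComplexShape.up ℤ)).app P
  refine (exactAt_iff_of_iso (whiskerLeftIso ((DTen.extCx χ).obj P) (extCompIso φ χ F)) i).trans ?_
  refine (exactAt_resCx_iff χ ((DTen.extCx χ).obj P ⊗ (DTen.extCx χ).obj W) i).symm.trans ?_
  refine (exactAt_iff_of_iso (KFlat.mapTotIso (cancelBiIso χ) ((DTen.extCx χ).obj P) W) i).trans ?_
  exact exactAt_iff_of_iso (whiskerRightIso (e₁ ≪≫ singleTensorIso N P) W ≪≫ α_ (single₀ N) P W ≪≫
    (singleTensorIso N (P ⊗ W : DRing.Cx A)).symm) i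

/-- Tor amplitude of a restriction may be checked at the maximal ideals. -/
theorem amp_restrict_of_maximal (K : DRing.Cx A) (a b : ℤ)
    (h : ∀ (m : Ideal A) [m.IsMaximal], DRing.HasTorAmplitudeIn R a b
      ((DRing.restrictD ((algebraMap A (Localization.AtPrime m)).comp φ)).obj
        (DRing.toD ((DTen.extCx (algebraMap A (Localization.AtPrime m))).obj K)))) :
    DRing.HasTorAmplitudeIn R a b ((DRing.restrictD φ).obj (DRing.toD K)) := by
  refine (amp_restrict_iff φ K a b).2 fun M i hi => ?_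
  let Z : DRing.Cx A := K ⊗ (DTen.extCx φ).obj (resM M)
  have hZ : ∀ (m : Ideal A) [m.IsMaximal],
      ((tensM (baseMod (algebraMap A (Localization.AtPrime m)))).obj Z).ExactAt i := fun m _ =>
    (exactAt_extCx_tensor_iff' φ _ K (resM M) i).1 ((amp_restrict_iff _ _ a b).1 (h m) M i hi)
  change Z.ExactAt i
  rw [HomologicalComplex.exactAt_iff, ShortComplex.ShortExact.moduleCat_exact_iff_function_exact]
  let L : ∀ m : Ideal A, [m.IsMaximal] → Type u := fun m _ => Localization.AtPrime m
  refine exact_of_isLocalized_maximal (fun m _ => L m ⊗[A] (Z.sc i).X₁) (fun m _ => TensorProduct.mk A (L m) _ 1)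
    (fun m _ => L m ⊗[A] (Z.sc i).X₂) (fun m _ => TensorProduct.mk A (L m) _ 1)
    (fun m _ => L m ⊗[A] (Z.sc i).X₃) (fun m _ => TensorProduct.mk A (L m) _ 1) _ _ fun m hm => ?_
  have h1 := hZ m
  rw [HomologicalComplex.exactAt_iff, ShortComplex.ShortExact.moduleCat_exact_iff_function_exact] at h1
  let e := baseModEquiv A (Localization.AtPrime m)
  have key : ∀ {M N : Type u} [AddCommGroup M] [Module A M] [AddCommGroup N] [Module A N] (g : M →ₗ[A] N),
      IsLocalizedModule.map m.primeCompl (TensorProduct.mk A (L m) M 1) (TensorProduct.mk A (L m) N 1) g =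
        g.lTensor (L m) := fun g =>
    IsLocalizedModule.linearMap_ext m.primeCompl (TensorProduct.mk A (L m) _ 1) (TensorProduct.mk A (L m) _ 1)
      (LinearMap.ext fun x => IsLocalizedModule.map_apply m.primeCompl (TensorProduct.mk A (L m) _ 1) (TensorProduct.mk A (L m) _ 1) g x)
  rw [key, key]
  exact (Function.Exact.iff_of_ladder_linearEquiv (e₁ := TensorProduct.congr e (LinearEquiv.refl A _))
    (e₂ := TensorProduct.congr e (LinearEquiv.refl A _)) (e₃ := TensorProduct.congr e (LinearEquiv.refl A _))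
    (TensorProduct.ext' fun x y => rfl) (TensorProduct.ext' fun x y => rfl)).2 h1

/-- Tor amplitude adds up in derived tensor products. -/
theorem amp_restrict_LTensorCx (L : DRing.Cx A) [DRing.HasLTensorCx A L] {K : Dual.D A} {a b c d : ℤ}
    (hK : DRing.HasTorAmplitudeIn A a b K)
    (hL : DRing.HasTorAmplitudeIn R c d ((DRing.restrictD φ).obj (DRing.toD L))) :
    DRing.HasTorAmplitudeIn R (a + c) (b + d) ((DRing.restrictD φ).obj ((DRing.LTensorCx A L).obj K)) := by
  obtain ⟨X, hX, hXf, ⟨eX⟩⟩ := hK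
  have hXk : DRing.IsKFlat A X := isKFlat_of_vanishesAbove (b := b) (fun i hi => hX i (Or.inr hi)) hXf
  obtain ⟨e⟩ := nonempty_LTensorCx_iso L hXk eX (Iso.refl (DRing.toD L))
  refine amp_of_iso ((DRing.restrictD φ).mapIso e) ((amp_restrict_iff φ _ _ _).2 fun M i hi => ?_)
  let F := (DTen.extCx φ).obj (resM M)
  let W : DRing.Cx A := L ⊗ F
  have hW : ∀ j, (j < c ∨ d < j) → W.ExactAt j := (amp_restrict_iff φ L c d).1 hL M
  haveI : W.IsGE c := (CochainComplex.isGE_iff _ _).2 fun j hj => hW j (Or.inl hj)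
  haveI : W.IsLE d := (CochainComplex.isLE_iff _ _).2 fun j hj => hW j (Or.inr hj)
  let W₁ := W.truncLE d
  haveI : W₁.IsGE c := (CochainComplex.isGE_iff _ _).2 fun j hj =>
    (exactAt_iff_of_quasiIso (W.ιTruncLE d) inferInstance j).2 (hW j (Or.inl hj))
  let W₂ := W₁.truncGE c
  refine (exactAt_iff_of_iso (α_ L X F ≪≫ whiskerLeftIso L (DTen.braidCx X F) ≪≫ (α_ L F X).symm) i).2 ?_
  refine (exactAt_iff_of_quasiIso _ (quasiIso_whiskerRight (W.ιTruncLE d) hXk) i).1 ?_
  refine (exactAt_iff_of_quasiIso _ (quasiIso_whiskerRight (W₁.πTruncGE c) hXk) i).2 ?_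
  refine ShortComplex.exact_of_isZero_X₂ _ (isZero_tensor_X fun p q hpq => ?_)
  by_cases hp : p < c
  · exact Or.inl (CochainComplex.isZero_of_isStrictlyGE W₂ c p hp)
  · by_cases hp' : d < p
    · refine Or.inl ?_
      rcases eq_or_lt_of_le (show c ≤ p by omega) with rfl | h'
      · exact IsZero.of_iso (IsZero.of_epi (W₁.pOpcycles c) (CochainComplex.isZero_of_isStrictlyLE W₁ d c hp'))
          (W₁.truncGEXIsoOpcycles c)
      · exact (CochainComplex.isZero_of_isStrictlyLE W₁ d p hp').of_iso (W₁.truncGEXIso c p h')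
    · exact Or.inr (hX q (by omega))

end Groth.Agent.DRingLib
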