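import Groth.Agent.DRingLib.Finite
import Groth.Agent.KFlat.BddResolution
import Groth.Agent.KFlat.Module
import Mathlib.Algebra.Homology.HomotopyCategory.HomComplexSingle

/-!
# Bounded above finite free representatives of pseudo-coherent objects
-/

set_option autoImplicit false
set_option linter.style.haveILetI false
set_option backward.isDefEq.respectTransparency false

universe u

open CategoryTheory Limits Pretriangulated
attribute [local instance] HasDerivedCategory.standard

noncomputable section

namespace Groth.Agent.DRingLib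

open Groth.Agent.DCohLib CochainComplex HomComplex

variable {A : Type u} [CommRing A]

section Cell

variable {E F : DRing.Cx A} (f : E ⟶ F) {S : ModuleCat.{u} A} (m n : ℤ) (hn : n + 1 = m)
  (φ : S ⟶ (mappingCone f).cycles n)

/-- The component of the cell in the source. -/
def cellZ : S ⟶ E.X m := φ ≫ (mappingCone f).iCycles n ≫ (mappingCone.fst f).1.v n m hn

/-- The component of the cell in the target. -/
def cellW : S ⟶ F.X n := φ ≫ (mappingCone f).iCycles n ≫ (mappingCone.snd f).v n n (add_zero n)

theorem cellZ_d (j : ℤ) : cellZ f m n hn φ ≫ E.d m j = 0 := by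
  by_cases h : m + 1 = j
  · have h0 := congr_arg (· ≫ (mappingCone.fst f).1.v m j h) ((mappingCone f).iCycles_d n m)
    simp only [Category.assoc, zero_comp, mappingCone.d_fst_v f n m j hn h, Preadditive.comp_neg,
      neg_eq_zero] at h0
    simp only [cellZ, Category.assoc, h0, comp_zero]
  · rw [E.shape _ _ h, comp_zero]

theorem cellZ_comp : cellZ f m n hn φ ≫ f.f m + cellW f n φ ≫ F.d n m = 0 := by
  have h0 := congr_arg (· ≫ (mappingCone.snd f).v m m (add_zero m))
    ((mappingCone f).iCycles_d n m)
  simp only [Category.assoc, zero_comp, mappingCone.d_snd_v f n m hn, Preadditive.comp_add] at h0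
  simp only [cellZ, cellW, Category.assoc, ← Preadditive.comp_add, h0, comp_zero]

theorem cell_eq : φ ≫ (mappingCone f).iCycles n =
    cellZ f m n hn φ ≫ (mappingCone.inl f).v m n (by omega) + cellW f n φ ≫ (mappingCone.inr f).f n := by
  apply mappingCone.ext_to f n m hn <;> simp [cellZ, cellW, Preadditive.add_comp]

/-- The attaching map. -/
def att : (CochainComplex.singleFunctor (ModuleCat.{u} A) m).obj S ⟶ E :=
  HomologicalComplex.mkHomFromSingle (cellZ f m n hn φ) fun j _ => cellZ_d f m n hn φ j

theorem att_f : (att f m n hn φ).f m =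
    (HomologicalComplex.singleObjXSelf (ComplexShape.up ℤ) m S).hom ≫ cellZ f m n hn φ :=
  HomologicalComplex.mkHomFromSingle_f _ _

/-- The null homotopy of the attaching map in the target. -/
def attH : Cochain ((CochainComplex.singleFunctor (ModuleCat.{u} A) m).obj S) F (-1) :=
  Cochain.fromSingleMk (-cellW f n φ) (show m + -1 = n by omega)

theorem δ_attH : δ (-1) 0 (attH f m n hn φ) = Cochain.ofHom (att f m n hn φ ≫ f) := by
  rw [attH, Cochain.δ_fromSingleMk _ _ 0 m (add_zero m)]
  refine Cochain.ext₀ _ _ fun p => ?_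
  by_cases hp : p = m
  · subst hp
    rw [Cochain.fromSingleMk_v, Cochain.ofHom_v, HomologicalComplex.comp_f, att_f, Category.assoc,
      Preadditive.neg_comp, eq_neg_of_add_eq_zero_left (cellZ_comp f p n hn φ)]
  · exact (HomologicalComplex.isZero_single_obj_X (ComplexShape.up ℤ) m S p hp).eq_of_src _ _

/-- The complex with the cell attached. -/
abbrev cellObj : DRing.Cx A := mappingCone (att f m n hn φ)

/-- The extended map. -/
abbrev cellMap : cellObj f m n hn φ ⟶ F :=
  mappingCone.desc (att f m n hn φ) (attH f m n hn φ) f (δ_attH f m n hn φ)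

/-- The inclusion of the source. -/
abbrev cellι : E ⟶ cellObj f m n hn φ := mappingCone.inr (att f m n hn φ)

theorem cellι_comp : cellι f m n hn φ ≫ cellMap f m n hn φ = f :=
  mappingCone.inr_desc _ _ _ _

theorem isIso_cellι_f (j : ℤ) (hj : j + 1 ≠ m) : IsIso ((cellι f m n hn φ).f j) := by
  refine ⟨(mappingCone.snd (att f m n hn φ)).v j j (add_zero j), by simp, ?_⟩
  refine mappingCone.ext_from (att f m n hn φ) (j + 1) j rfl ?_ (by simp)
  exact (HomologicalComplex.isZero_single_obj_X (ComplexShape.up ℤ) m S (j + 1) hj).eq_of_src _ _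

/-- The map of cones. -/
abbrev cellCone : mappingCone f ⟶ mappingCone (cellMap f m n hn φ) :=
  mappingCone.map _ _ (cellι f m n hn φ) (𝟙 F) (by rw [Category.comp_id, cellι_comp])

theorem inl_cellCone (p q : ℤ) (h : p + (-1) = q) :
    (mappingCone.inl f).v p q h ≫ (cellCone f m n hn φ).f q =
      (cellι f m n hn φ).f p ≫ (mappingCone.inl (cellMap f m n hn φ)).v p q h := by
  simp [mappingCone.map]

theorem inr_cellCone (q : ℤ) :
    (mappingCone.inr f).f q ≫ (cellCone f m n hn φ).f q = (mappingCone.inr (cellMap f m n hn φ)).f q := by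
  simp [mappingCone.map]

theorem isIso_cellCone_f (i : ℤ) (hi : i + 1 + 1 ≠ m) : IsIso ((cellCone f m n hn φ).f i) := by
  haveI := isIso_cellι_f f m n hn φ (i + 1) hi
  refine ⟨(mappingCone.fst (cellMap f m n hn φ)).1.v i (i + 1) rfl ≫ inv ((cellι f m n hn φ).f (i + 1)) ≫
      (mappingCone.inl f).v (i + 1) i (by omega) +
    (mappingCone.snd (cellMap f m n hn φ)).v i i (add_zero i) ≫ (mappingCone.inr f).f i, ?_, ?_⟩
  · refine mappingCone.ext_from f (i + 1) i rfl ?_ ?_
    · rw [reassoc_of% (inl_cellCone f m n hn φ (i + 1) i (by omega))]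
      simp
    · rw [reassoc_of% (inr_cellCone f m n hn φ i)]
      simp
  · refine mappingCone.ext_from (cellMap f m n hn φ) (i + 1) i rfl ?_ ?_
    · simp only [Preadditive.add_comp, Preadditive.comp_add, Category.assoc, mappingCone.inl_v_fst_v_assoc,
        mappingCone.inl_v_snd_v_assoc, zero_comp, add_zero]
      rw [inl_cellCone f m n hn φ (i + 1) i (by omega), IsIso.inv_hom_id_assoc, Category.comp_id]
    · simp only [Preadditive.comp_add, mappingCone.inr_f_fst_v_assoc, mappingCone.inr_f_snd_v_assoc,
        zero_comp, zero_add, Category.comp_id, Preadditive.add_comp, Category.assoc]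
      exact inr_cellCone f m n hn φ i

theorem cell_killed : φ ≫ HomologicalComplex.cyclesMap (cellCone f m n hn φ) n ≫
    (mappingCone (cellMap f m n hn φ)).homologyπ n = 0 := by
  obtain rfl : m = n + 1 := hn.symm
  let g := cellMap f (n + 1) n rfl φ
  let iA : S ⟶ (cellObj f (n + 1) n rfl φ).X n :=
    (HomologicalComplex.singleObjXSelf (ComplexShape.up ℤ) (n + 1) S).inv ≫
      (mappingCone.inl (att f (n + 1) n rfl φ)).v (n + 1) n (by omega)
  let y : S ⟶ (mappingCone g).X (n - 1) := -(iA ≫ (mappingCone.inl g).v n (n - 1) (by omega))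
  have e1 : iA ≫ g.f n = -cellW f n φ := by
    simp only [iA, g, Category.assoc]
    erw [mappingCone.inl_v_desc_f]
    rw [attH, Cochain.fromSingleMk_v]
    exact Iso.inv_hom_id_assoc _ _
  have e2 : iA ≫ (cellObj f (n + 1) n rfl φ).d n (n + 1) =
      cellZ f (n + 1) n rfl φ ≫ (cellι f (n + 1) n rfl φ).f (n + 1) := by
    simp only [iA, Category.assoc]
    rw [mappingCone.inl_v_d (att f (n + 1) n rfl φ) (n + 1) n (n + 1 + 1) (by omega) (by omega),
      att_f, Category.assoc]
    erw [HomologicalComplex.single_obj_d]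
    rw [zero_comp, sub_zero, Iso.inv_hom_id_assoc]
  have hy : φ ≫ (mappingCone f).iCycles n ≫ (cellCone f (n + 1) n rfl φ).f n =
      y ≫ (mappingCone g).d (n - 1) n := by
    rw [reassoc_of% (cell_eq f (n + 1) n rfl φ), Preadditive.add_comp, Category.assoc, Category.assoc,
      inl_cellCone, inr_cellCone]
    simp only [y, Preadditive.neg_comp, Category.assoc]
    rw [mappingCone.inl_v_d g n (n - 1) (n + 1) (by omega) (by omega)]
    simp only [Preadditive.comp_sub]
    rw [reassoc_of% e1, reassoc_of% e2, Preadditive.neg_comp]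
    abel
  have key : φ ≫ HomologicalComplex.cyclesMap (cellCone f (n + 1) n rfl φ) n =
      y ≫ (mappingCone g).toCycles (n - 1) n := by
    rw [← cancel_mono ((mappingCone g).iCycles n), Category.assoc, Category.assoc,
      HomologicalComplex.cyclesMap_i, HomologicalComplex.toCycles_i]
    exact hy
  rw [reassoc_of% key, HomologicalComplex.toCycles_comp_homologyπ, comp_zero]

theorem exactAt_cell (hC : ∀ i, m ≤ i → (mappingCone f).ExactAt i)
    (hφ : Epi (φ ≫ (mappingCone f).homologyπ n)) :
    ∀ i, n ≤ i → (mappingCone (cellMap f m n hn φ)).ExactAt i := by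
  intro i hi
  let c := cellCone f m n hn φ
  haveI : IsIso (c.f i) := isIso_cellCone_f f m n hn φ i (by omega)
  haveI : IsIso (c.f (i + 1)) := isIso_cellCone_f f m n hn φ (i + 1) (by omega)
  rcases eq_or_lt_of_le hi with rfl | hlt
  · rw [HomologicalComplex.exactAt_iff_isZero_homology]
    haveI : IsIso (HomologicalComplex.cyclesMap c n) := by
      let ψ := (HomologicalComplex.shortComplexFunctor (ModuleCat.{u} A) (ComplexShape.up ℤ) n).map c
      haveI : IsIso ψ.τ₂ := inferInstanceAs (IsIso (c.f n))
      haveI : Mono ψ.τ₃ := by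
        show Mono (c.f ((ComplexShape.up ℤ).next n))
        rw [CochainComplex.next]
        infer_instance
      exact ShortComplex.isIso_cyclesMap_of_isIso_of_mono ψ
    have h1 := cell_killed f m n hn φ
    rw [← HomologicalComplex.homologyπ_naturality, ← Category.assoc] at h1
    haveI := hφ
    have h2 : HomologicalComplex.homologyMap c n = 0 := by
      rw [← cancel_epi (φ ≫ (mappingCone f).homologyπ n), comp_zero]
      exact h1
    have h3 := HomologicalComplex.homologyπ_naturality c n
    rw [h2, comp_zero] at h3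
    rw [IsZero.iff_id_eq_zero, ← cancel_epi ((mappingCone (cellMap f m n hn φ)).homologyπ n),
      ← cancel_epi (HomologicalComplex.cyclesMap c n)]
    rw [comp_zero, comp_zero, Category.comp_id]
    exact h3.symm
  · haveI : IsIso (c.f (i - 1)) := isIso_cellCone_f f m n hn φ (i - 1) (by omega)
    haveI : QuasiIsoAt c i := by
      rw [quasiIsoAt_iff' _ (i - 1) i (i + 1) (by simp) (by simp)]
      let ψ := (HomologicalComplex.shortComplexFunctor' (ModuleCat.{u} A) (ComplexShape.up ℤ) (i - 1) i (i + 1)).map c
      haveI : Epi ψ.τ₁ := inferInstanceAs (Epi (c.f (i - 1)))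
      haveI : IsIso ψ.τ₂ := inferInstanceAs (IsIso (c.f i))
      haveI : Mono ψ.τ₃ := inferInstanceAs (Mono (c.f (i + 1)))
      exact ShortComplex.quasiIso_of_epi_of_isIso_of_mono ψ
    exact (exactAt_iff_of_quasiIsoAt c i).1 (hC i (by omega))

end Cell

/-- One stage of the construction. -/
structure PStage (F : DRing.Cx A) (b : ℤ) (n : ℤ) where
  /-- the complex -/
  E : DRing.Cx A
  /-- the map -/
  f : E ⟶ F
  bdd : Bdd FFree E
  above : DRing.VanishesAbove E b
  mIso : MIso n (DerivedCategory.Q.map f)

theorem exists_cell {F : DRing.Cx A} {b n : ℤ} (hn : n ≤ b) (hF : PC FFree (n - 1) (DRing.toD F))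
    (s : PStage F b n) :
    ∃ (t : PStage F b (n - 1)) (ι : s.E ⟶ t.E), ι ≫ t.f = s.f ∧ ∀ j, j + 1 ≠ n → IsIso (ι.f j) := by
  let T := DerivedCategory.Q.mapTriangle.obj (mappingCone.triangle s.f)
  have hT : DRing.toD (mappingCone s.f) = DerivedCategory.Q.obj (mappingCone s.f) := rfl
  have hD := DerivedCategory.mappingCone_triangle_distinguished s.f
  have hA : AboveZero n (DRing.toD (mappingCone s.f)) := s.mIso.cone _ hD
  have hP : PC FFree (n - 1) (DRing.toD (mappingCone s.f)) :=
    PC.obj₃ projClass_fFree _ hD (Perf.pc ⟨s.E, s.bdd, ⟨Iso.refl _⟩⟩ _) hF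
  have hC : ∀ i, n ≤ i → (mappingCone s.f).ExactAt i := fun i hi =>
    (HomologicalComplex.exactAt_iff_isZero_homology _ _).2
      ((hA i hi).of_iso ((DerivedCategory.homologyFunctorFactors _ i).app (mappingCone s.f)).symm)
  haveI := finite_HD hP (by simpa using hA)
  haveI : Module.Finite A ((DerivedCategory.Q ⋙ DerivedCategory.homologyFunctor (ModuleCat.{u} A) (n - 1)).obj
      (mappingCone s.f)) := ‹Module.Finite A (Dual.HD A (DRing.toD (mappingCone s.f)) (n - 1))›
  haveI : Module.Finite A ((mappingCone s.f).homology (n - 1)) :=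
    Module.Finite.equiv ((DerivedCategory.homologyFunctorFactors _ (n - 1)).app (mappingCone s.f)).toLinearEquiv
  obtain ⟨r, p, hp⟩ := Module.Finite.exists_fin' A ((mappingCone s.f).homology (n - 1))
  let S : ModuleCat.{u} A := ModuleCat.of A (Fin r → A)
  haveI : Projective S := ModuleCat.projective_of_categoryTheory_projective _
  let p' : S ⟶ (mappingCone s.f).homology (n - 1) := ModuleCat.ofHom p
  haveI : Epi ((mappingCone s.f).homologyπ (n - 1)) := by infer_instance
  let φ : S ⟶ (mappingCone s.f).cycles (n - 1) :=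
    Projective.factorThru p' ((mappingCone s.f).homologyπ (n - 1))
  have hφ : Epi (φ ≫ (mappingCone s.f).homologyπ (n - 1)) := by
    simp only [φ, Projective.factorThru_comp]
    exact (ModuleCat.epi_iff_surjective _).2 hp
  have hm : n - 1 + 1 = n := by omega
  have hS : Bdd FFree ((HomologicalComplex.single (ModuleCat.{u} A) (ComplexShape.up ℤ) n).obj S) := by
    refine ⟨⟨n, n, fun i hi => HomologicalComplex.isZero_single_obj_X _ _ _ _ (by omega)⟩, fun i => ?_⟩
    by_cases hi : i = n
    · subst hi
      exact projClass_fFree.iso (HomologicalComplex.singleObjXSelf _ i S).symm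
        ⟨inferInstanceAs (Module.Finite A (Fin r → A)), inferInstanceAs (Module.Free A (Fin r → A))⟩
    · exact projClass_fFree.zero (HomologicalComplex.isZero_single_obj_X _ _ _ _ hi)
  let t : PStage F b (n - 1) :=
    { E := cellObj s.f n (n - 1) hm φ
      f := cellMap s.f n (n - 1) hm φ
      bdd := hS.mappingCone projClass_fFree _ s.bdd
      above := fun i hi =>
        ((biprod_isZero_iff _ _).2
          ⟨HomologicalComplex.isZero_single_obj_X _ _ _ _ (by omega), s.above i hi⟩).of_iso
          (HomologicalComplex.homotopyCofiber.XIsoBiprod (att s.f n (n - 1) hm φ) i (i + 1) rfl)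
      mIso := by
        refine ⟨_, _, _, DerivedCategory.mappingCone_triangle_distinguished _, fun i hi => ?_⟩
        exact ((HomologicalComplex.exactAt_iff_isZero_homology _ _).1
          (exactAt_cell s.f n (n - 1) hm φ hC hφ i hi)).of_iso
            ((DerivedCategory.homologyFunctorFactors _ i).app _) }
  exact ⟨t, cellι s.f n (n - 1) hm φ, cellι_comp _ _ _ _ _, isIso_cellι_f s.f n (n - 1) hm φ⟩

theorem exists_representative (F : DRing.Cx A) (b : ℤ) (hb : AboveZero b (DRing.toD F))
    (hF : ∀ m, PC FFree m (DRing.toD F)) :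
    ∃ (P : DRing.Cx A) (g : P ⟶ F), DRing.VanishesAbove P b ∧ DRing.TermwiseFiniteFree P ∧ QuasiIso g := by
  classical
  have hz : IsZero (HomologicalComplex.zero : DRing.Cx A) := HomologicalComplex.isZero_zero
  let s₀ : PStage F b (b - (0 : ℕ)) :=
    { E := HomologicalComplex.zero
      f := 0
      bdd := bdd_zero projClass_fFree
      above := fun i _ => isZero_zero _
      mIso := by
        have h0 : AboveZero b (DRing.toD (HomologicalComplex.zero : DRing.Cx A)) :=
          aboveZero_zero b (DerivedCategory.Q.map_isZero hz)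
        rw [show (b - ((0 : ℕ) : ℤ)) = b by simp, mIso_iff]
        refine ⟨fun i hi => (h0 i hi.le).isIso (hb i hi.le) _, ?_⟩
        haveI := (h0 b le_rfl).isIso (hb b le_rfl) ((DerivedCategory.homologyFunctor (ModuleCat.{u} A) b).map
          (DerivedCategory.Q.map (0 : (HomologicalComplex.zero : DRing.Cx A) ⟶ F)))
        infer_instance }
  have next : ∀ (k : ℕ) (s : PStage F b (b - k)),
      ∃ (t : PStage F b (b - (k + 1 : ℕ))) (ι : s.E ⟶ t.E), ι ≫ t.f = s.f ∧
        ∀ j, j + 1 ≠ b - k → IsIso (ι.f j) := fun k s => by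
    rw [show (b - ((k + 1 : ℕ) : ℤ)) = b - k - 1 by push_cast; omega]
    exact exists_cell (by omega) (hF _) s
  choose nx ι hι hiso using next
  let st : ∀ k : ℕ, PStage F b (b - k) := fun k => Nat.rec s₀ (fun k s => nx k s) k
  let ts : ∀ k : ℕ, (st k).E ⟶ (st (k + 1)).E := fun k => ι k (st k)
  let Kc : ℕ ⥤ DRing.Cx A := Functor.ofSequence (X := fun k => (st k).E) ts
  have hmap : ∀ k, Kc.map (homOfLE (Nat.le_succ k)) = ts k := fun k =>
    Functor.ofSequence_map_homOfLE_succ _ k
  let co : Cocone Kc :=
    { pt := F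
      ι := NatTrans.ofSequence (fun k => (st k).f) fun k => by
        rw [hmap k]
        exact (hι k (st k)).trans (Category.comp_id _).symm }
  let g : colimit Kc ⟶ F := colimit.desc Kc co
  have hterm : ∀ (j : ℤ) (k : ℕ), b - k ≤ j → IsIso ((colimit.ι Kc k).f j) := fun j k hk => by
    have hev : (Kc ⋙ HomologicalComplex.eval (ModuleCat.{u} A) (ComplexShape.up ℤ) j).IsEventuallyConstantFrom k := by
      intro l f
      obtain ⟨d, rfl⟩ := Nat.le.dest f.le
      induction d with
      | zero => exact (Subsingleton.elim f (𝟙 k) ▸ inferInstance)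
      | succ d ih =>
        haveI := ih (homOfLE (Nat.le_add_right k d))
        haveI : IsIso ((Kc ⋙ HomologicalComplex.eval (ModuleCat.{u} A) (ComplexShape.up ℤ) j).map
            (homOfLE (Nat.le_succ (k + d)))) := by
          show IsIso ((Kc.map (homOfLE (Nat.le_succ (k + d)))).f j)
          rw [hmap]
          exact hiso (k + d) (st (k + d)) j (by omega)
        rw [Subsingleton.elim f (homOfLE (Nat.le_add_right k d) ≫ homOfLE (Nat.le_succ (k + d))),
          Functor.map_comp]
        infer_instance
    exact hev.isIso_ι_of_isColimit'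
      (isColimitOfPreserves (HomologicalComplex.eval (ModuleCat.{u} A) (ComplexShape.up ℤ) j) (colimit.isColimit Kc))
      k (𝟙 _)
  refine ⟨colimit Kc, g, fun j hj => ?_, fun j => ?_, ⟨fun i => ?_⟩⟩
  · haveI := hterm j 0 (by simp; omega)
    exact ((st 0).above j hj).of_iso (asIso ((colimit.ι Kc 0).f j)).symm
  · haveI := hterm j (b - j).toNat (by omega)
    exact projClass_fFree.iso (asIso ((colimit.ι Kc (b - j).toNat).f j)) ((st _).bdd.2 j)
  · let k := (b - i).toNat + 1
    haveI : QuasiIsoAt (colimit.ι Kc k) i := by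
      refine KFlat.quasiIsoAt_ι_of_isColimit Kc _ (colimit.isColimit Kc) i k fun l hl => ?_
      rw [hmap l]
      haveI := hiso l (st l) (i - 1) (by omega)
      haveI := hiso l (st l) i (by omega)
      haveI := hiso l (st l) (i + 1) (by omega)
      rw [quasiIsoAt_iff' _ (i - 1) i (i + 1) (by simp) (by simp)]
      let ψ := (HomologicalComplex.shortComplexFunctor' (ModuleCat.{u} A) (ComplexShape.up ℤ) (i - 1) i (i + 1)).map (ts l)
      haveI : Epi ψ.τ₁ := inferInstanceAs (Epi ((ts l).f (i - 1)))
      haveI : IsIso ψ.τ₂ := inferInstanceAs (IsIso ((ts l).f i))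
      haveI : Mono ψ.τ₃ := inferInstanceAs (Mono ((ts l).f (i + 1)))
      exact ShortComplex.quasiIso_of_epi_of_isIso_of_mono ψ
    haveI : QuasiIsoAt (colimit.ι Kc k ≫ g) i := by
      rw [show colimit.ι Kc k ≫ g = (st k).f from colimit.ι_desc co k, quasiIsoAt_iff_isIso_homologyMap]
      have h := ((mIso_iff _ _).1 (st k).mIso).1 i (by omega)
      exact ((MorphismProperty.isomorphisms (ModuleCat.{u} A)).arrow_mk_iso_iff
        (Arrow.isoMk ((DerivedCategory.homologyFunctorFactors _ i).app _)
          ((DerivedCategory.homologyFunctorFactors _ i).app _)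
          ((DerivedCategory.homologyFunctorFactors _ i).hom.naturality (st k).f).symm)).1 h
    exact quasiIsoAt_of_comp_left (colimit.ι Kc k) g i

end Groth.Agent.DRingLib
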