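import Groth.Agent.DRingLib.Complex

/-!
# Approximations by bounded complexes with terms in a class of projectives
-/

set_option autoImplicit false
set_option linter.style.haveILetI false

universe u

open CategoryTheory Limits Pretriangulated
attribute [local instance] HasDerivedCategory.standard

noncomputable section

namespace Groth.Agent.DRingLib

open Groth.Agent.DCohLib

variable {A : Type u} [CommRing A]

theorem MIso.shift {m : ℤ} {K L : Dual.D A} {α : K ⟶ L} (h : MIso m α) (n : ℤ) :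
    MIso (m - n) (α⟦n⟧') := by
  rw [mIso_iff] at h ⊢
  let H := fun i => DerivedCategory.homologyFunctor (ModuleCat.{u} A) i
  let e := fun i => Arrow.isoMk
    (f := Arrow.mk ((H i).map (α⟦n⟧'))) (g := Arrow.mk ((H (n + i)).map α))
    (((H 0).shiftIso n i (n + i) rfl).app K) (((H 0).shiftIso n i (n + i) rfl).app L)
    (((H 0).shiftIso n i (n + i) rfl).hom.naturality α).symm
  refine ⟨fun i hi => ((MorphismProperty.isomorphisms _).arrow_mk_iso_iff (e i)).2 (h.1 _ (by omega)),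
    ((MorphismProperty.epimorphisms _).arrow_mk_iso_iff (e (m - n))).2 ?_⟩
  rw [add_sub_cancel]
  exact h.2

theorem mIso_Q_map {E F : DRing.Cx A} (f : E ⟶ F) (m : ℤ)
    (hiso : ∀ i, m < i → IsIso (HomologicalComplex.homologyMap f i))
    (hepi : Epi (HomologicalComplex.homologyMap f m)) : MIso m (DerivedCategory.Q.map f) := by
  let e := fun i => Arrow.isoMk
    (f := Arrow.mk ((DerivedCategory.homologyFunctor (ModuleCat.{u} A) i).map (DerivedCategory.Q.map f)))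
    (g := Arrow.mk (HomologicalComplex.homologyMap f i))
    ((DerivedCategory.homologyFunctorFactors _ i).app E) ((DerivedCategory.homologyFunctorFactors _ i).app F)
    ((DerivedCategory.homologyFunctorFactors _ i).hom.naturality f).symm
  exact (mIso_iff _ _).2
    ⟨fun i hi => ((MorphismProperty.isomorphisms _).arrow_mk_iso_iff (e i)).2 (hiso i hi),
      ((MorphismProperty.epimorphisms _).arrow_mk_iso_iff (e m)).2 hepi⟩

/-- `m`-approximation by a bounded complex with terms in a class. -/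
def PC (Φ : ModuleCat.{u} A → Prop) (m : ℤ) (K : Dual.D A) : Prop :=
  ∃ (E : DRing.Cx A) (α : DRing.toD E ⟶ K), Bdd Φ E ∧ MIso m α

/-- Isomorphic to a bounded complex with terms in a class. -/
def Perf (Φ : ModuleCat.{u} A → Prop) (K : Dual.D A) : Prop :=
  ∃ E : DRing.Cx A, Bdd Φ E ∧ Nonempty (DRing.toD E ≅ K)

theorem isPseudoCoherent_iff (m : ℤ) (K : Dual.D A) :
    DRing.IsPseudoCoherent A m K ↔ PC FFree m K := by
  constructor
  · rintro ⟨E, a, b, α, hab, hE, h⟩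
    exact ⟨E, α, ⟨⟨a, b, hab⟩, hE⟩, (mIso_iff m α).2 h⟩
  · rintro ⟨E, α, ⟨⟨a, b, hab⟩, hE⟩, h⟩
    exact ⟨E, a, b, α, hab, hE, (mIso_iff m α).1 h⟩

theorem isPerfect_iff (K : Dual.D A) : DRing.IsPerfect A K ↔ Perf FProj K :=
  ⟨fun ⟨E, a, b, hab, hE, e⟩ => ⟨E, ⟨⟨a, b, hab⟩, hE⟩, e⟩,
    fun ⟨E, ⟨⟨a, b, hab⟩, hE⟩, e⟩ => ⟨E, a, b, hab, hE, e⟩⟩

variable {Φ : ModuleCat.{u} A → Prop}

theorem PC.of_iso {m : ℤ} {K L : Dual.D A} (h : PC Φ m K) (e : K ≅ L) : PC Φ m L := by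
  obtain ⟨E, α, hE, hα⟩ := h
  exact ⟨E, α ≫ e.hom, hE, hα.comp (mIso_of_isIso m e.hom)⟩

theorem PC.mono {m m' : ℤ} {K : Dual.D A} (h : PC Φ m K) (hm : m ≤ m') : PC Φ m' K := by
  obtain ⟨E, α, hE, hα⟩ := h
  exact ⟨E, α, hE, hα.mono hm⟩

theorem PC.shift {m : ℤ} {K : Dual.D A} (h : PC Φ m K) (n : ℤ) : PC Φ (m - n) (K⟦n⟧) := by
  obtain ⟨E, α, hE, hα⟩ := h
  exact ⟨E⟦n⟧, (DerivedCategory.Q.commShiftIso n).hom.app E ≫ α⟦n⟧', hE.shift n,
    (mIso_of_isIso _ _).comp (MIso.shift hα n)⟩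

theorem PC.shift' {m m' : ℤ} {K : Dual.D A} (h : PC Φ m K) (n : ℤ) (hm : m - n ≤ m') :
    PC Φ m' (K⟦n⟧) := (h.shift n).mono hm

theorem Perf.of_iso {K L : Dual.D A} (h : Perf Φ K) (e : K ≅ L) : Perf Φ L := by
  obtain ⟨E, hE, ⟨i⟩⟩ := h
  exact ⟨E, hE, ⟨i ≪≫ e⟩⟩

theorem Perf.shift {K : Dual.D A} (h : Perf Φ K) (n : ℤ) : Perf Φ (K⟦n⟧) := by
  obtain ⟨E, hE, ⟨i⟩⟩ := h
  exact ⟨E⟦n⟧, hE.shift n,
    ⟨(DerivedCategory.Q.commShiftIso n).app E ≪≫ (shiftFunctor (Dual.D A) n).mapIso i⟩⟩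

theorem Perf.pc {K : Dual.D A} (h : Perf Φ K) (m : ℤ) : PC Φ m K := by
  obtain ⟨E, hE, ⟨i⟩⟩ := h
  exact ⟨E, i.hom, hE, mIso_of_isIso m i.hom⟩

/-- Bounded above objects have an upper bound on cohomology. -/
theorem PC.exists_aboveZero {m : ℤ} {K : Dual.D A} (h : PC Φ m K) : ∃ n, AboveZero n K := by
  obtain ⟨E, α, ⟨⟨a, b, hab⟩, -⟩, hα⟩ := h
  refine ⟨max (b + 1) m, aboveZero_of_mIso_zero α (hα.mono (le_max_right _ _)) fun i hi => ?_⟩
  exact ((HomologicalComplex.exactAt_iff_isZero_homology _ _).1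
    (ShortComplex.exact_of_isZero_X₂ _ (hab i (Or.inr (by omega))))).of_iso
      ((DerivedCategory.homologyFunctorFactors _ i).app E)

variable (hΦ : ProjClass Φ)

include hΦ in
theorem pc_of_aboveZero {m : ℤ} {K : Dual.D A} (h : AboveZero m K) : PC Φ m K := by
  have hZ : IsZero (DRing.toD (HomologicalComplex.zero : DRing.Cx A)) :=
    DerivedCategory.Q.map_isZero HomologicalComplex.isZero_zero
  refine ⟨_, 0, bdd_zero hΦ, (mIso_iff m _).2 ⟨fun i hi => ?_, ?_⟩⟩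
  · exact (aboveZero_zero m hZ i hi.le).isIso (h i hi.le) _
  · haveI := (aboveZero_zero m hZ m le_rfl).isIso (h m le_rfl)
      ((DerivedCategory.homologyFunctor (ModuleCat.{u} A) m).map (0 : DRing.toD _ ⟶ K))
    infer_instance

include hΦ in
theorem PC.exists_brutal {m : ℤ} {K : Dual.D A} (h : PC Φ m K) :
    ∃ (E : DRing.Cx A) (α : DRing.toD E ⟶ K), Bdd Φ E ∧ (∀ i, i < m → IsZero (E.X i)) ∧ MIso m α := by
  obtain ⟨E, α, hE, hα⟩ := h
  exact ⟨KFlat.brutal E m, DerivedCategory.Q.map (KFlat.brutalι E m) ≫ α, hE.brutal hΦ m,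
    fun i hi => KFlat.isZero_brutal E m hi,
    MIso.comp (mIso_Q_map _ m (isIso_homologyMap_brutalι E m) (epi_homologyMap_brutalι E m)) hα⟩

theorem exists_mIso_cone {m : ℤ} (T : Triangle (Dual.D A)) (hT : T ∈ distTriang _)
    {X Y G : Dual.D A} {a : X ⟶ T.obj₁} {b : Y ⟶ T.obj₂} (ha : MIso (m + 1) a) (hb : MIso m b)
    (g : X ⟶ Y) (w : g ≫ b = a ≫ T.mor₁) {p : Y ⟶ G} {q : G ⟶ X⟦(1 : ℤ)⟧}
    (hG : Triangle.mk g p q ∈ distTriang _) : ∃ c : G ⟶ T.obj₃, MIso m c := by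
  obtain ⟨Ca, ga, ka, hA, hA0⟩ := ha
  obtain ⟨Cb, gb, kb, hB, hB0⟩ := hb
  obtain ⟨D, gd, kd, hD⟩ := distinguished_cocone_triangle (g ≫ b)
  let o₁ := Triangulated.someOctahedron rfl hG hB hD
  have hT' : Triangle.mk T.mor₁ T.mor₂ T.mor₃ ∈ distTriang _ := hT
  let o₂ := Triangulated.someOctahedron w.symm hA hT' hD
  have h1 : MIso m o₁.m₁ := ⟨_, _, _, o₁.mem, hB0⟩
  have h2 : MIso m o₂.m₃ := by
    refine ⟨_, _, _, rot_of_distTriang _ o₂.mem, ?_⟩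
    refine (aboveZero_shift_iff m 1 Ca).2 ?_
    exact hA0.mono (by omega)
  exact ⟨_, h1.comp h2⟩

include hΦ in
/-- The key case of two out of three. -/
theorem PC.obj₃ {m : ℤ} (T : Triangle (Dual.D A)) (hT : T ∈ distTriang _)
    (h₁ : PC Φ (m + 1) T.obj₁) (h₂ : PC Φ m T.obj₂) : PC Φ m T.obj₃ := by
  obtain ⟨E, a, hE, hE0, ha⟩ := h₁.exists_brutal hΦ
  obtain ⟨F, b, hF, hb⟩ := h₂
  obtain ⟨Cb, gb, kb, hCb, hCb0⟩ := id hb
  haveI := hE.isKProjective hΦ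
  obtain ⟨g, hg⟩ : ∃ g : DRing.toD E ⟶ DRing.toD F, a ≫ T.mor₁ = g ≫ b :=
    Triangle.coyoneda_exact₂ _ hCb (a ≫ T.mor₁) (hom_eq_zero hE0 (hCb0.mono (by omega)) _)
  obtain ⟨β, rfl⟩ := Q_map_surjective E F g
  obtain ⟨c, hc⟩ := exists_mIso_cone T hT ha hb _ hg.symm
    (DerivedCategory.mappingCone_triangle_distinguished β)
  exact ⟨_, c, hE.mappingCone hΦ β hF, hc⟩

include hΦ in
theorem PC.obj₂ {m : ℤ} (T : Triangle (Dual.D A)) (hT : T ∈ distTriang _)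
    (h₁ : PC Φ m T.obj₁) (h₃ : PC Φ m T.obj₃) : PC Φ m T.obj₂ :=
  PC.obj₃ hΦ T.invRotate (inv_rot_of_distTriang T hT) (h₃.shift' (-1) (by omega)) h₁

include hΦ in
theorem PC.obj₁ {m : ℤ} (T : Triangle (Dual.D A)) (hT : T ∈ distTriang _)
    (h₂ : PC Φ (m + 1) T.obj₂) (h₃ : PC Φ m T.obj₃) : PC Φ (m + 1) T.obj₁ :=
  ((PC.obj₃ hΦ T.rotate (rot_of_distTriang T hT) h₂ h₃).shift' (-1) (by omega)).of_iso
    ((shiftEquiv (Dual.D A) (1 : ℤ)).unitIso.app T.obj₁).symm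

include hΦ in
theorem Perf.obj₃ (T : Triangle (Dual.D A)) (hT : T ∈ distTriang _)
    (h₁ : Perf Φ T.obj₁) (h₂ : Perf Φ T.obj₂) : Perf Φ T.obj₃ := by
  obtain ⟨E, hE, ⟨a⟩⟩ := h₁
  obtain ⟨F, hF, ⟨b⟩⟩ := h₂
  haveI := hE.isKProjective hΦ
  obtain ⟨β, hβ⟩ := Q_map_surjective E F (a.hom ≫ T.mor₁ ≫ b.inv)
  let i := isoTriangleOfIso₁₂ _ T (DerivedCategory.mappingCone_triangle_distinguished β) hT a b
    (show DerivedCategory.Q.map β ≫ b.hom = a.hom ≫ T.mor₁ by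
      rw [hβ, Category.assoc, Category.assoc, Iso.inv_hom_id, Category.comp_id])
  exact ⟨_, hE.mappingCone hΦ β hF, ⟨Triangle.π₃.mapIso i⟩⟩

include hΦ in
theorem Perf.obj₂ (T : Triangle (Dual.D A)) (hT : T ∈ distTriang _)
    (h₁ : Perf Φ T.obj₁) (h₃ : Perf Φ T.obj₃) : Perf Φ T.obj₂ :=
  Perf.obj₃ hΦ T.invRotate (inv_rot_of_distTriang T hT) (h₃.shift (-1)) h₁

include hΦ in
theorem Perf.obj₁ (T : Triangle (Dual.D A)) (hT : T ∈ distTriang _)
    (h₂ : Perf Φ T.obj₂) (h₃ : Perf Φ T.obj₃) : Perf Φ T.obj₁ :=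
  ((Perf.obj₃ hΦ T.rotate (rot_of_distTriang T hT) h₂ h₃).shift (-1)).of_iso
    ((shiftEquiv (Dual.D A) (1 : ℤ)).unitIso.app T.obj₁).symm

theorem aboveZero_of_retract {n : ℤ} {K L : Dual.D A} (r : Retract K L) (hL : AboveZero n L) :
    AboveZero n K := fun j hj => by
  rw [IsZero.iff_id_eq_zero, ← CategoryTheory.Functor.map_id, ← r.retract, Functor.map_comp,
    (hL j hj).eq_of_tgt ((DerivedCategory.homologyFunctor _ j).map r.i) 0, zero_comp]

include hΦ in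
theorem pc_summands_aux {K L : Dual.D A} {n m : ℤ} [HasBinaryBiproduct K L]
    (hKL : PC Φ m (K ⊞ L)) (hn : AboveZero n (K ⊞ L)) :
    ∀ (d : ℕ) (k : ℤ), m ≤ k → n ≤ k + d → PC Φ k K ∧ PC Φ k L := by
  intro d
  induction d with
  | zero =>
    intro k _ hk
    have hk' : n ≤ k := by simpa using hk
    exact ⟨pc_of_aboveZero hΦ ((aboveZero_of_retract ⟨biprod.inl, biprod.fst, biprod.inl_fst⟩ hn).mono hk'),
      pc_of_aboveZero hΦ ((aboveZero_of_retract ⟨biprod.inr, biprod.snd, biprod.inr_snd⟩ hn).mono hk')⟩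
  | succ d ih =>
    intro k hmk hk
    obtain ⟨hK, hL⟩ := ih (k + 1) (by omega) (by omega)
    have hKL' := hKL.mono hmk
    refine ⟨?_, PC.obj₃ hΦ _ (binaryBiproductTriangle_distinguished K L) hK hKL'⟩
    haveI : HasBinaryBiproduct L K := inferInstance
    exact PC.obj₃ hΦ _ (binaryBiproductTriangle_distinguished L K) hL
      (hKL'.of_iso (biprod.braiding K L))

include hΦ in
/-- Direct summands inherit approximations. -/
theorem PC.summands {K L : Dual.D A} {m : ℤ} [HasBinaryBiproduct K L] (h : PC Φ m (K ⊞ L)) :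
    PC Φ m K ∧ PC Φ m L := by
  obtain ⟨n, hn⟩ := h.exists_aboveZero
  exact pc_summands_aux hΦ h hn (n - m).toNat m le_rfl (by omega)

end Groth.Agent.DRingLib
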