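import Groth.Agent.DRingLib.Complex
import Groth.Agent.DRingLib.BaseChange
import Groth.Agent.DRingLib.PerfTor
import Groth.Agent.KFlat.QuasiIso
import Groth.Agent.GenFree.Algebra

/-!
# Quasi-isomorphic bounded projective complexes become isomorphic after adding contractible ones
-/

set_option autoImplicit false
set_option linter.style.haveILetI false
set_option backward.isDefEq.respectTransparency false

universe u

open CategoryTheory Limits

attribute [local instance] HasDerivedCategory.standard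

noncomputable section

namespace Groth.Agent.DRingLib

/-- A degreewise split extension by a contractible complex splits. -/
theorem nonempty_iso_biprod_of_contractible {C : Type*} [Category C] [Abelian C]
    (S : ShortComplex (CochainComplex C ℤ))
    (spl : ∀ n, (S.map (HomologicalComplex.eval C (ComplexShape.up ℤ) n)).Splitting)
    (h : Homotopy (𝟙 S.X₃) 0) : Nonempty (S.X₂ ≅ S.X₁ ⊞ S.X₃) := by
  let σ : S.X₃ ⟶ S.X₂ := Homotopy.nullHomotopicMap' fun i j _ => h.hom i j ≫ (spl j).s
  have hs : ∀ n, (spl n).s ≫ S.g.f n = 𝟙 (S.X₃.X n) := fun n => (spl n).s_g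
  have hσ : σ ≫ S.g = 𝟙 _ := by
    refine (Homotopy.nullHomotopicMap'_comp _ _).trans (HomologicalComplex.hom_ext _ _ fun n => ?_)
    rw [Homotopy.nullHomotopicMap'_f (show (ComplexShape.up ℤ).Rel (n - 1) n by simp)
      (show (ComplexShape.up ℤ).Rel n (n + 1) by simp)]
    simp only [Category.assoc, hs, Category.comp_id, reassoc_of% hs]
    have hc := h.comm n
    rw [dNext_eq _ (show (ComplexShape.up ℤ).Rel n (n + 1) by simp),
      prevD_eq _ (show (ComplexShape.up ℤ).Rel (n - 1) n by simp)] at hc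
    simpa using hc.symm
  let rn : ∀ n, S.X₂.X n ⟶ S.X₁.X n := fun n => (𝟙 _ - S.g.f n ≫ σ.f n) ≫ (spl n).r
  have hrf : ∀ n, rn n ≫ S.f.f n = 𝟙 _ - S.g.f n ≫ σ.f n := by
    intro n
    have e : (spl n).r ≫ S.f.f n = 𝟙 _ - S.g.f n ≫ (spl n).s := (spl n).r_f
    have e' : σ.f n ≫ S.g.f n = 𝟙 _ := by rw [← HomologicalComplex.comp_f, hσ]; rfl
    simp only [rn, Category.assoc, e, Preadditive.sub_comp, Preadditive.comp_sub, Category.id_comp,
      Category.comp_id, reassoc_of% e', sub_self, sub_zero]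
    erw [Category.comp_id]
    exact sub_sub_sub_cancel_right _ _ _
  haveI : ∀ n, Mono (S.f.f n) := fun n => by
    haveI := (spl n).isSplitMono_f
    exact inferInstanceAs (Mono (S.map (HomologicalComplex.eval C (ComplexShape.up ℤ) n)).f)
  let r : S.X₂ ⟶ S.X₁ :=
    { f := rn
      comm' := fun i j _ => by
        rw [← cancel_mono (S.f.f j), Category.assoc, ← S.f.comm, ← Category.assoc, hrf, Category.assoc, hrf]
        simp [Preadditive.comp_sub, Preadditive.sub_comp] }
  have hr : r ≫ S.f = 𝟙 _ - S.g ≫ σ := HomologicalComplex.hom_ext _ _ fun n => hrf n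
  haveI : Mono S.f := HomologicalComplex.mono_of_mono_f S.f inferInstance
  have hfr : S.f ≫ r = 𝟙 _ := by
    rw [← cancel_mono S.f, Category.assoc, hr, Preadditive.comp_sub, S.zero_assoc, Category.comp_id,
      zero_comp, sub_zero, Category.id_comp]
  have hσr : σ ≫ r = 0 := by
    rw [← cancel_mono S.f, Category.assoc, hr, Preadditive.comp_sub, reassoc_of% hσ, Category.comp_id,
      sub_self, zero_comp]
  exact ⟨{ hom := biprod.lift r S.g
           inv := biprod.desc S.f σ
           hom_inv_id := by rw [biprod.lift_desc, hr, sub_add_cancel]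
           inv_hom_id := by
            refine biprod.hom_ext' _ _ (biprod.hom_ext _ _ ?_ ?_) (biprod.hom_ext _ _ ?_ ?_) <;>
              simp [hfr, hσr, hσ] }⟩

variable {R : Type u} [CommRing R]

theorem fProj_mappingCone {M N : DRing.Cx R} (a : M ⟶ N) (hM : ∀ i, FProj (M.X i))
    (hN : ∀ i, FProj (N.X i)) (i : ℤ) : FProj ((CochainComplex.mappingCone a).X i) :=
  projClass_fProj.iso (HomologicalComplex.homotopyCofiber.XIsoBiprod a i (i + 1) (by simp)).symm
    (projClass_fProj.biprod (hM _) (hN _))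

theorem isZero_mappingCone {M N : DRing.Cx R} (a : M ⟶ N) {i : ℤ} (hM : IsZero (M.X (i + 1)))
    (hN : IsZero (N.X i)) : IsZero ((CochainComplex.mappingCone a).X i) := by
  rw [IsZero.iff_id_eq_zero]
  exact CochainComplex.mappingCone.ext_to _ i (i + 1) rfl (hM.eq_of_tgt _ _) (hN.eq_of_tgt _ _)

theorem exists_freeAt (p : Ideal R) [p.IsPrime] (M : Type u) [AddCommGroup M] [Module R M]
    [Module.Finite R M] [Module.Projective R M] : ∃ f, f ∉ p ∧ GenFree.FreeAt R M f := by
  haveI := Module.finitePresentation_of_projective R M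
  have hx : (⟨p, ‹_›⟩ : PrimeSpectrum R) ∈ Module.freeLocus R M := by
    rw [Module.freeLocus_eq_univ]; trivial
  haveI : Module.Free _ _ := hx
  obtain ⟨f, hf, hf', -⟩ := Module.FinitePresentation.exists_free_localizedModule_powers p.primeCompl
    (LocalizedModule.mkLinearMap p.primeCompl M) (Localization.AtPrime p)
  haveI := hf'
  exact ⟨f, hf, Module.Free.of_equiv (LocalizedModule.equivTensorProduct (Submonoid.powers f) M)⟩

theorem exists_freeAt_forall (p : Ideal R) [p.IsPrime] (Z : ℤ → ModuleCat.{u} R)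
    (hZ : ∀ i, FProj (Z i)) (a b : ℤ) (h0 : ∀ i, i < a ∨ b < i → IsZero (Z i)) :
    ∃ f, f ∉ p ∧ ∀ i, GenFree.FreeAt R (Z i) f := by
  choose f hf hfree using fun i => @exists_freeAt R _ p _ (Z i) _ _ (hZ i).1 (hZ i).2
  refine ⟨∏ i ∈ Finset.Icc a b, f i, fun h => ?_, fun i => ?_⟩
  · obtain ⟨i, -, hi⟩ := (Ideal.IsPrime.prod_mem_iff).1 h
    exact hf i hi
  · by_cases hi : i ∈ Finset.Icc a b
    · exact (hfree i).of_dvd (Finset.dvd_prod_of_mem f hi)
    · haveI : Subsingleton (Z i) := ModuleCat.subsingleton_of_isZero (h0 i (by simp at hi; omega))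
      show Module.Free _ _
      infer_instance

variable {f : R}

local notation "Rf" => Localization.Away f
local notation "φf" => algebraMap R (Localization.Away f)

theorem free_extend {M : ModuleCat.{u} R} (h : GenFree.FreeAt R M f) :
    Module.Free Rf ((ModuleCat.extendScalars.{u, u, u} φf).obj M) := by
  have hu : IsUnit (φf f) := IsLocalization.Away.algebraMap_isUnit (S := Rf) f
  letI := (φf).toAlgebra
  exact h.free Rf hu

/-- The image of a differential of a contractible complex. -/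
abbrev bdry (E : DRing.Cx R) (i : ℤ) : ModuleCat.{u} R :=
  ModuleCat.of R (LinearMap.range (E.d i (i + 1)).hom)

theorem split_bdry (E : DRing.Cx R) (h : Homotopy (𝟙 E) 0) (i : ℤ) :
    E.d i (i + 1) ≫ h.hom (i + 1) i ≫ E.d i (i + 1) = E.d i (i + 1) := by
  have hc := h.comm i
  rw [dNext_eq _ (show (ComplexShape.up ℤ).Rel i (i + 1) by simp),
    prevD_eq _ (show (ComplexShape.up ℤ).Rel (i - 1) i by simp)] at hc
  simpa using (congrArg (· ≫ E.d i (i + 1)) hc).symm

theorem fProj_bdry (E : DRing.Cx R) (h : Homotopy (𝟙 E) 0) (i : ℤ) (hp : FProj (E.X (i + 1))) :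
    FProj (bdry E i) :=
  retract_fProj'
    { i := ModuleCat.ofHom (LinearMap.range (E.d i (i + 1)).hom).subtype
      r := h.hom (i + 1) i ≫ ModuleCat.ofHom (E.d i (i + 1)).hom.rangeRestrict
      retract := ModuleCat.hom_ext (LinearMap.ext fun z => Subtype.ext (by
        obtain ⟨_, x, rfl⟩ := z
        exact congr($(split_bdry E h i).hom x))) } hp
where
  retract_fProj' {M N : ModuleCat.{u} R} (r : Retract M N) (hN : FProj N) : FProj M := by
    have hli : r.r.hom ∘ₗ r.i.hom = LinearMap.id := congrArg ModuleCat.Hom.hom r.retract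
    haveI := hN.1
    haveI := hN.2
    exact ⟨Module.Finite.of_surjective r.r.hom fun x => ⟨r.i.hom x, LinearMap.congr_fun hli x⟩,
      Module.Projective.of_split r.i.hom r.r.hom hli⟩

theorem free_range_extend (E : DRing.Cx R) (h : Homotopy (𝟙 E) 0) (i : ℤ)
    (hf : GenFree.FreeAt R (bdry E i) f) :
    Module.Free Rf (LinearMap.range (((((ModuleCat.extendScalars.{u, u, u} φf)).mapHomologicalComplex
      (ComplexShape.up ℤ)).obj E).d i (i + 1)).hom) := by
  haveI := free_extend hf
  let F := ModuleCat.extendScalars.{u, u, u} φf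
  let q : E.X i ⟶ bdry E i := ModuleCat.ofHom (E.d i (i + 1)).hom.rangeRestrict
  let ι : bdry E i ⟶ E.X (i + 1) := ModuleCat.ofHom (LinearMap.range (E.d i (i + 1)).hom).subtype
  have hqι : q ≫ ι = E.d i (i + 1) := rfl
  have hq : (ι ≫ h.hom (i + 1) i) ≫ q = 𝟙 _ := ModuleCat.hom_ext (LinearMap.ext fun z => Subtype.ext (by
    obtain ⟨_, x, rfl⟩ := z
    exact congr($(split_bdry E h i).hom x)))
  have hι : ι ≫ (h.hom (i + 1) i ≫ q) = 𝟙 _ := (Category.assoc _ _ _).symm.trans hq
  haveI : Epi (F.map q) := ((SplitEpi.mk (ι ≫ h.hom (i + 1) i) hq).map F).epi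
  haveI : Mono (F.map ι) := ((SplitMono.mk (h.hom (i + 1) i ≫ q) hι).map F).mono
  refine Module.Free.of_equiv ((LinearEquiv.ofInjective (F.map ι).hom
    ((ModuleCat.mono_iff_injective _).1 inferInstance)).trans (LinearEquiv.ofEq _ _ ?_))
  show _ = LinearMap.range (F.map (E.d i (i + 1))).hom
  rw [← hqι, F.map_comp, ModuleCat.hom_comp]
  exact (LinearMap.range_comp_of_range_eq_top _
    (LinearMap.range_eq_top.2 ((ModuleCat.epi_iff_surjective _).1 inferInstance))).symm

/-- A bounded contractible complex of finite projectives becomes a sum of trivial complexes near `p`. -/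
theorem exists_trivial (p : Ideal R) [p.IsPrime] (E : DRing.Cx R) (a b : ℤ)
    (hE : DRing.VanishesOutside E a b) (hEp : ∀ i, FProj (E.X i)) (h : Homotopy (𝟙 E) 0) :
    ∃ g : R, g ∉ p ∧ ∀ f : R, g ∣ f →
      let P := ((ModuleCat.extendScalars.{u, u, u} (algebraMap R (Localization.Away f))).mapHomologicalComplex
        (ComplexShape.up ℤ)).obj E
      (∃ a' b' : ℤ, DRing.VanishesOutside P a' b') ∧ DRing.TermwiseFiniteFree P ∧
        (∀ i : ℤ, Module.Free (Localization.Away f) (LinearMap.range (P.d i (i + 1)).hom)) ∧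
          Nonempty (Homotopy (𝟙 P) 0) := by
  obtain ⟨g₁, hg₁, hfree₁⟩ := exists_freeAt_forall p E.X hEp a b hE
  obtain ⟨g₂, hg₂, hfree₂⟩ := exists_freeAt_forall p (bdry E) (fun i => fProj_bdry E h i (hEp _)) a b
    (fun i hi => by
      haveI := ModuleCat.subsingleton_of_isZero (hE i hi)
      haveI : Subsingleton (bdry E i) := ⟨fun x y => by
        obtain ⟨_, x, rfl⟩ := x
        obtain ⟨_, y, rfl⟩ := y
        exact Subtype.ext (congrArg (E.d i (i + 1)).hom (Subsingleton.elim x y))⟩
      exact ModuleCat.isZero_of_subsingleton _)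
  refine ⟨g₁ * g₂, fun hmem => (‹p.IsPrime›.mem_or_mem hmem).elim hg₁ hg₂, fun f hf => ⟨⟨a, b, fun i hi =>
    (ModuleCat.extendScalars.{u, u, u} _).map_isZero (hE i hi)⟩, fun i => ⟨(fProj_extend _ (hEp i)).1,
      free_extend ((hfree₁ i).of_dvd (dvd_of_mul_right_dvd hf))⟩, fun i =>
      free_range_extend E h i ((hfree₂ i).of_dvd (dvd_of_mul_left_dvd hf)), ⟨?_⟩⟩⟩
  exact (Homotopy.ofEq (CategoryTheory.Functor.map_id _ _).symm).trans
    (((ModuleCat.extendScalars.{u, u, u} _).mapHomotopy h).trans (Homotopy.ofEq (Functor.map_zero _ _ _)))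

/-- Quasi-isomorphic bounded complexes of finite projectives, stably isomorphic near a prime. -/
theorem exists_away_iso_biprod (p : Ideal R) [p.IsPrime] (M N : DRing.Cx R) (a b : ℤ)
    (hM : DRing.VanishesOutside M a b) (hN : DRing.VanishesOutside N a b)
    (hMp : ∀ i, FProj (M.X i)) (hNp : ∀ i, FProj (N.X i)) (e : DRing.toD M ≅ DRing.toD N) :
    ∃ f : R, f ∉ p ∧ ∃ P Q : DRing.Cx (Localization.Away f),
      ((∃ a' b' : ℤ, DRing.VanishesOutside P a' b') ∧ DRing.TermwiseFiniteFree P ∧
          (∀ i : ℤ, Module.Free (Localization.Away f) (LinearMap.range (P.d i (i + 1)).hom)) ∧ Nonempty (Homotopy (𝟙 P) 0)) ∧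
      ((∃ a' b' : ℤ, DRing.VanishesOutside Q a' b') ∧ DRing.TermwiseFiniteFree Q ∧
          (∀ i : ℤ, Module.Free (Localization.Away f) (LinearMap.range (Q.d i (i + 1)).hom)) ∧ Nonempty (Homotopy (𝟙 Q) 0)) ∧
      Nonempty ((((ModuleCat.extendScalars.{u, u, u} (algebraMap R (Localization.Away f))).mapHomologicalComplex (ComplexShape.up ℤ)).obj M) ⊞ P ≅ (((ModuleCat.extendScalars.{u, u, u} (algebraMap R (Localization.Away f))).mapHomologicalComplex (ComplexShape.up ℤ)).obj N) ⊞ Q) := by
  haveI : M.IsKProjective := isKProjective_of_vanishesAbove (fun i hi => hM i (.inr hi)) fun i => (hMp i).2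
  obtain ⟨α, hα⟩ := Q_map_surjective M N e.hom
  haveI : IsIso (DerivedCategory.Q.map α) := hα ▸ inferInstance
  haveI : QuasiIso α := (DerivedCategory.isIso_Q_map_iff_quasiIso _ α).1 inferInstance
  let C := CochainComplex.mappingCone α
  let D := CochainComplex.mappingCone (𝟙 M)
  have hC : DRing.VanishesOutside C (a - 1) b := fun i hi =>
    isZero_mappingCone α (hM _ (by omega)) (hN _ (by omega))
  have hD : DRing.VanishesOutside D (a - 1) b := fun i hi =>
    isZero_mappingCone (𝟙 M) (hM _ (by omega)) (hM _ (by omega))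
  haveI : C.IsKProjective := isKProjective_of_vanishesAbove (fun i hi => hC i (.inr hi))
    fun i => (fProj_mappingCone α hMp hNp i).2
  haveI : IsIso (DerivedCategory.Q.map (0 : C ⟶ C)) := isIso_Q_map _
    ((quasiIso_iff _).2 fun i => by
      rw [quasiIsoAt_iff_exactAt _ _ (Groth.Agent.KFlat.acyclic_cone_of_quasiIso α i)]
      exact Groth.Agent.KFlat.acyclic_cone_of_quasiIso α i)
  obtain ⟨hCh⟩ := homotopic_zero C (𝟙 C) (by
    have h0 : IsIso (0 : DRing.toD C ⟶ DRing.toD C) := by
      rw [← Functor.map_zero (DerivedCategory.Q (C := ModuleCat.{u} R))]; infer_instance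
    rw [CategoryTheory.Functor.map_id]
    exact (isZero_of_isIso_zero h0).eq_of_src _ _)
  obtain ⟨g₁, hg₁, hP⟩ := exists_trivial p C (a - 1) b hC (fProj_mappingCone α hMp hNp) hCh
  obtain ⟨g₂, hg₂, hQ⟩ := exists_trivial p D (a - 1) b hD (fProj_mappingCone (𝟙 M) hMp hMp)
    (CochainComplex.mappingCone.homotopyToZeroOfId M)
  refine ⟨g₁ * g₂, fun hmem => (‹p.IsPrime›.mem_or_mem hmem).elim hg₁ hg₂, _, _, hP _ (dvd_mul_right _ _),
    hQ _ (dvd_mul_left _ _), ?_⟩
  obtain ⟨eX⟩ := nonempty_iso_biprod_of_contractible (Groth.Agent.KFlat.cylSeq α)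
    (Groth.Agent.KFlat.cylSplitting α) hCh
  let G := (ModuleCat.extendScalars.{u, u, u} (algebraMap R (Localization.Away (g₁ * g₂)))).mapHomologicalComplex
    (ComplexShape.up ℤ)
  haveI : G.Additive := inferInstance
  haveI : PreservesBinaryBiproducts G := preservesBinaryBiproducts_of_preservesBiproducts G
  exact ⟨(G.mapBiprod M C).symm ≪≫ G.mapIso eX.symm ≪≫ G.mapBiprod N D⟩
where
  isZero_of_isIso_zero {X : Dual.D R} (h : IsIso (0 : X ⟶ X)) : IsZero X := by
    rw [IsZero.iff_id_eq_zero, ← cancel_mono (0 : X ⟶ X), comp_zero, comp_zero]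

end Groth.Agent.DRingLib
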