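import Groth.Prelude.Def_DRing2
import Groth.Agent.DCohLib.MIso
import Groth.Agent.KFlat.BddAbove
import Mathlib.Algebra.Homology.HomotopyCategory.KProjective
import Mathlib.Algebra.Category.ModuleCat.Biproducts

/-!
# Complexes of projective modules in the derived category of a ring
-/

set_option autoImplicit false
set_option linter.style.haveILetI false

universe u

open CategoryTheory Limits Pretriangulated
attribute [local instance] HasDerivedCategory.standard

noncomputable section

namespace Groth.Agent.DRingLib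

open Groth.Agent.DCohLib

variable {A : Type u} [CommRing A]

theorem isKProjective_of_vanishesAbove {P : DRing.Cx A} {b : ℤ} (hb : DRing.VanishesAbove P b)
    (hP : ∀ i, Module.Projective A (P.X i)) : P.IsKProjective := by
  haveI : ∀ n, Projective (P.X n) := fun n => by
    haveI := hP n
    exact ModuleCat.projective_of_categoryTheory_projective (P.X n)
  haveI : P.IsStrictlyLE b := (CochainComplex.isStrictlyLE_iff _ _).2 fun i hi => hb i hi
  exact CochainComplex.isKProjective_of_projective P b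

theorem Q_map_surjective (P : DRing.Cx A) [P.IsKProjective] (K : DRing.Cx A)
    (f : DRing.toD P ⟶ DRing.toD K) : ∃ a : P ⟶ K, DerivedCategory.Q.map a = f := by
  let e := DerivedCategory.quotientCompQhIso (ModuleCat.{u} A)
  obtain ⟨b, hb⟩ := (CochainComplex.IsKProjective.Qh_map_bijective P
    ((HomotopyCategory.quotient _ _).obj K)).surjective (e.hom.app _ ≫ f ≫ e.inv.app K)
  obtain ⟨a, rfl⟩ := (HomotopyCategory.quotient _ _).map_surjective b
  refine ⟨a, ?_⟩
  have n := e.hom.naturality a
  dsimp at n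
  rw [hb] at n
  simp only [Category.assoc, Iso.inv_hom_id_app] at n
  exact (cancel_epi (e.hom.app P)).1
    (n.symm.trans (congrArg (e.hom.app P ≫ ·) (Category.comp_id f)))

theorem homotopic_zero (P : DRing.Cx A) [P.IsKProjective] {K : DRing.Cx A} (a : P ⟶ K)
    (h : DerivedCategory.Q.map a = 0) : Nonempty (Homotopy a 0) := by
  refine (HomotopyCategory.quotient_map_eq_zero_iff a).1
    ((CochainComplex.IsKProjective.Qh_map_bijective P _).injective ?_)
  have n := (DerivedCategory.quotientCompQhIso (ModuleCat.{u} A)).hom.naturality a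
  dsimp at n
  rw [h] at n
  replace n := n.trans comp_zero
  rw [Functor.map_zero, ← cancel_mono ((DerivedCategory.quotientCompQhIso (ModuleCat.{u} A)).hom.app K),
    zero_comp]
  exact n

theorem isLE_of_aboveZero {a : ℤ} {C : Dual.D A} (hC : AboveZero a C) : DerivedCategory.IsLE C (a - 1) :=
  (DerivedCategory.isLE_iff C (a - 1)).2 fun i hi => hC i (by omega)

/-- A projective complex in degrees `≥ a` has no maps to objects without cohomology in those degrees. -/
theorem hom_eq_zero {P : DRing.Cx A} [P.IsKProjective] {a : ℤ} (hPa : ∀ i, i < a → IsZero (P.X i))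
    {C : Dual.D A} (hC : AboveZero a C) (f : DRing.toD P ⟶ C) : f = 0 := by
  haveI := isLE_of_aboveZero hC
  obtain ⟨K, hK, ⟨e⟩⟩ := C.exists_iso_Q_obj_of_isLE (a - 1)
  obtain ⟨β, hβ⟩ := Q_map_surjective P K (f ≫ e.hom)
  have h0 : β = 0 := by
    refine HomologicalComplex.hom_ext _ _ fun i => ?_
    by_cases hi : i < a
    · exact (hPa i hi).eq_of_src _ _
    · exact (CochainComplex.isZero_of_isStrictlyLE K (a - 1) i (by omega)).eq_of_tgt _ _
  rw [h0, Functor.map_zero] at hβ
  exact (cancel_mono e.hom).1 (hβ.symm.trans zero_comp.symm)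

/-- A class of projective modules closed under isomorphisms and biproducts. -/
structure ProjClass (Φ : ModuleCat.{u} A → Prop) : Prop where
  iso {M N : ModuleCat.{u} A} : (M ≅ N) → Φ M → Φ N
  zero {M : ModuleCat.{u} A} : IsZero M → Φ M
  biprod {M N : ModuleCat.{u} A} : Φ M → Φ N → Φ (M ⊞ N)
  projective {M : ModuleCat.{u} A} : Φ M → Module.Projective A M

/-- Finite free modules. -/
abbrev FFree (M : ModuleCat.{u} A) : Prop := Module.Finite A M ∧ Module.Free A M

/-- Finite projective modules. -/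
abbrev FProj (M : ModuleCat.{u} A) : Prop := Module.Finite A M ∧ Module.Projective A M

/-- Projective modules. -/
abbrev AProj (M : ModuleCat.{u} A) : Prop := Module.Projective A M

theorem linearEquiv_of_iso {M N : ModuleCat.{u} A} (e : M ≅ N) : Nonempty (M ≃ₗ[A] N) :=
  ⟨e.toLinearEquiv⟩

theorem projClass_fFree : ProjClass (FFree (A := A)) where
  iso e h :=
    haveI := h.1
    haveI := h.2
    ⟨Module.Finite.equiv e.toLinearEquiv, Module.Free.of_equiv e.toLinearEquiv⟩
  zero hM :=
    haveI := ModuleCat.subsingleton_of_isZero hM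
    ⟨inferInstance, inferInstance⟩
  biprod {M N} hM hN :=
    haveI := hM.1
    haveI := hM.2
    haveI := hN.1
    haveI := hN.2
    ⟨Module.Finite.equiv (ModuleCat.biprodIsoProd M N).toLinearEquiv.symm,
      Module.Free.of_equiv (ModuleCat.biprodIsoProd M N).toLinearEquiv.symm⟩
  projective h :=
    haveI := h.2
    inferInstance

theorem projClass_fProj : ProjClass (FProj (A := A)) where
  iso e h :=
    haveI := h.1
    haveI := h.2
    ⟨Module.Finite.equiv e.toLinearEquiv, Module.Projective.of_equiv e.toLinearEquiv⟩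
  zero hM :=
    haveI := ModuleCat.subsingleton_of_isZero hM
    ⟨inferInstance, inferInstance⟩
  biprod {M N} hM hN :=
    haveI := hM.1
    haveI := hM.2
    haveI := hN.1
    haveI := hN.2
    ⟨Module.Finite.equiv (ModuleCat.biprodIsoProd M N).toLinearEquiv.symm,
      Module.Projective.of_equiv (ModuleCat.biprodIsoProd M N).toLinearEquiv.symm⟩
  projective h := h.2

theorem projClass_aProj : ProjClass (AProj (A := A)) where
  iso e h :=
    haveI := h
    Module.Projective.of_equiv e.toLinearEquiv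
  zero hM :=
    haveI := ModuleCat.subsingleton_of_isZero hM
    inferInstance
  biprod {M N} hM hN :=
    haveI := hM
    haveI := hN
    Module.Projective.of_equiv (ModuleCat.biprodIsoProd M N).toLinearEquiv.symm
  projective h := h

/-- A bounded complex with terms in a class. -/
def Bdd (Φ : ModuleCat.{u} A → Prop) (E : DRing.Cx A) : Prop :=
  (∃ a b : ℤ, DRing.VanishesOutside E a b) ∧ ∀ i, Φ (E.X i)

variable {Φ : ModuleCat.{u} A → Prop} (hΦ : ProjClass Φ)

include hΦ in
theorem Bdd.isKProjective {E : DRing.Cx A} (h : Bdd Φ E) : E.IsKProjective := by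
  obtain ⟨⟨a, b, hab⟩, hE⟩ := h
  exact isKProjective_of_vanishesAbove (b := b) (fun i hi => hab i (Or.inr hi))
    fun i => hΦ.projective (hE i)

include hΦ in
theorem bdd_zero : Bdd Φ (HomologicalComplex.zero : DRing.Cx A) :=
  ⟨⟨0, 0, fun i _ => isZero_zero _⟩, fun _ => hΦ.zero (isZero_zero _)⟩

theorem Bdd.shift {E : DRing.Cx A} (h : Bdd Φ E) (n : ℤ) : Bdd Φ (E⟦n⟧) := by
  obtain ⟨⟨a, b, hab⟩, hE⟩ := h
  exact ⟨⟨a - n, b - n, fun i hi => hab (i + n) (by omega)⟩, fun i => hE (i + n)⟩

include hΦ in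
theorem Bdd.mappingCone {E F : DRing.Cx A} (φ : E ⟶ F) (hE : Bdd Φ E) (hF : Bdd Φ F) :
    Bdd Φ (CochainComplex.mappingCone φ) := by
  obtain ⟨⟨a, b, hab⟩, hEΦ⟩ := hE
  obtain ⟨⟨c, d, hcd⟩, hFΦ⟩ := hF
  refine ⟨⟨min (a - 1) c, max (b - 1) d, fun i hi => ?_⟩, fun i =>
    hΦ.iso (HomologicalComplex.homotopyCofiber.XIsoBiprod φ i (i + 1) rfl).symm
      (hΦ.biprod (hEΦ (i + 1)) (hFΦ i))⟩
  refine IsZero.of_iso ((biprod_isZero_iff _ _).2 ⟨hab (i + 1) ?_, hcd i ?_⟩)
    (HomologicalComplex.homotopyCofiber.XIsoBiprod φ i (i + 1) rfl) <;> omega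

theorem isIso_homologyMap_brutalι (E : DRing.Cx A) (m i : ℤ) (hi : m < i) :
    IsIso (HomologicalComplex.homologyMap (KFlat.brutalι E m) i) := by
  haveI : IsIso ((KFlat.brutalι E m).f (i - 1)) := KFlat.isIso_incl E m (by omega)
  haveI : IsIso ((KFlat.brutalι E m).f i) := KFlat.isIso_incl E m (by omega)
  haveI : IsIso ((KFlat.brutalι E m).f (i + 1)) := KFlat.isIso_incl E m (by omega)
  rw [← quasiIsoAt_iff_isIso_homologyMap,
    quasiIsoAt_iff' _ (i - 1) i (i + 1) (by simp) (by simp)]
  let φ := (HomologicalComplex.shortComplexFunctor' (ModuleCat.{u} A) (ComplexShape.up ℤ) (i - 1) i (i + 1)).map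
    (KFlat.brutalι E m)
  haveI : Epi φ.τ₁ := inferInstanceAs (Epi ((KFlat.brutalι E m).f (i - 1)))
  haveI : IsIso φ.τ₂ := inferInstanceAs (IsIso ((KFlat.brutalι E m).f i))
  haveI : Mono φ.τ₃ := inferInstanceAs (Mono ((KFlat.brutalι E m).f (i + 1)))
  exact ShortComplex.quasiIso_of_epi_of_isIso_of_mono φ

theorem epi_homologyMap_brutalι (E : DRing.Cx A) (m : ℤ) :
    Epi (HomologicalComplex.homologyMap (KFlat.brutalι E m) m) := by
  haveI : IsIso ((KFlat.brutalι E m).f m) := KFlat.isIso_incl E m le_rfl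
  haveI : IsIso ((KFlat.brutalι E m).f (m + 1)) := KFlat.isIso_incl E m (by omega)
  haveI : IsIso (HomologicalComplex.cyclesMap (KFlat.brutalι E m) m) := by
    let φ := (HomologicalComplex.shortComplexFunctor (ModuleCat.{u} A) (ComplexShape.up ℤ) m).map
      (KFlat.brutalι E m)
    haveI : IsIso φ.τ₂ := inferInstanceAs (IsIso ((KFlat.brutalι E m).f m))
    haveI : Mono φ.τ₃ := by
      show Mono ((KFlat.brutalι E m).f ((ComplexShape.up ℤ).next m))
      rw [CochainComplex.next]
      infer_instance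
    exact ShortComplex.isIso_cyclesMap_of_isIso_of_mono φ
  have h := HomologicalComplex.homologyπ_naturality (KFlat.brutalι E m) m
  haveI : Epi ((KFlat.brutal E m).homologyπ m ≫ HomologicalComplex.homologyMap (KFlat.brutalι E m) m) := by
    rw [h]
    infer_instance
  exact epi_of_epi ((KFlat.brutal E m).homologyπ m) _

include hΦ in
theorem Bdd.brutal {E : DRing.Cx A} (h : Bdd Φ E) (m : ℤ) : Bdd Φ (KFlat.brutal E m) := by
  obtain ⟨⟨a, b, hab⟩, hE⟩ := h
  refine ⟨⟨a, b, fun i hi => KFlat.isZero_brutal_of_isZero E m (hab i hi)⟩, fun i => ?_⟩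
  by_cases hi : m ≤ i
  · haveI := KFlat.isIso_incl E m hi
    exact hΦ.iso (asIso (KFlat.incl E m i)).symm (hE i)
  · exact hΦ.zero (KFlat.isZero_brutal E m (not_le.1 hi))

end Groth.Agent.DRingLib
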