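import Groth.Agent.DRingLib.CompactObj
import Groth.Agent.S0985

/-!
# Maps from countably compact objects into sequential colimits
-/

set_option autoImplicit false
set_option linter.style.haveILetI false
set_option backward.isDefEq.respectTransparency false

universe u

open CategoryTheory Limits Pretriangulated
attribute [local instance] HasDerivedCategory.standard

noncomputable section

namespace Groth.Agent.DRingLib

open Groth.Agent.DCohLib

variable {A : Type u} [CommRing A]

/-- Maps into countable coproducts absorb finite partial sums. -/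
def CptN (X : Dual.D A) : Prop :=
  ∀ (E : ℕ → Dual.D A) (c : Cofan E) (hc : IsColimit c), Absorbs (sigmaTrunc hc) X

theorem cptN_of_bijective {X : Dual.D A}
    (h : ∀ (E : ℕ → Dual.D A) [HasCoproduct fun i : ULift.{u + 1} ℕ => E i.down],
      Function.Bijective (CohDer.homSumToHomCoprod X (fun i : ULift.{u + 1} ℕ => E i.down))) : CptN X := by
  classical
  intro E c hc
  let E' : ULift.{u + 1} ℕ → Dual.D A := fun i => E i.down
  let c' : Cofan E' := Cofan.mk c.pt fun i => c.inj i.down
  let hc' : IsColimit c' := mkCofanColimit c' (fun s => Cofan.IsColimit.desc hc fun n => s.inj ⟨n⟩)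
    (fun s i => Cofan.IsColimit.fac hc _ i.down)
    fun s m hm => Cofan.IsColimit.hom_ext hc _ _ fun n => (hm ⟨n⟩).trans (Cofan.IsColimit.fac hc (fun n => s.inj ⟨n⟩) n).symm
  haveI : HasCoproduct E' := ⟨⟨⟨c', hc'⟩⟩⟩
  have key : ∀ z : DirectSum (ULift.{u + 1} ℕ) fun i => X ⟶ E' i, ∃ T,
      CohDer.homSumToHomCoprod X E' z ≫ sigmaTrunc (coproductIsCoproduct E') T =
        CohDer.homSumToHomCoprod X E' z := by
    intro z
    induction z using DirectSum.induction_on with
    | zero => exact ⟨∅, by rw [map_zero, zero_comp]⟩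
    | of j g =>
      refine ⟨{j}, ?_⟩
      have h1 : CohDer.homSumToHomCoprod X E' (DirectSum.of (fun i => X ⟶ E' i) j g) = g ≫ Sigma.ι E' j := by
        classical
        rw [CohDer.homSumToHomCoprod]
        erw [DirectSum.toAddMonoid_of]
        rfl
      have h2 := inj_sigmaTrunc (coproductIsCoproduct E') {j} j
      rw [if_pos (Finset.mem_singleton_self j)] at h2
      rw [h1, Category.assoc]
      exact congrArg (g ≫ ·) h2
    | add a b ha hb =>
      obtain ⟨T, hT⟩ := ha
      obtain ⟨T', hT'⟩ := hb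
      refine ⟨T ∪ T', ?_⟩
      rw [map_add, Preadditive.add_comp]
      conv_rhs => rw [← hT, ← hT']
      conv_lhs => rw [← hT, ← hT', Category.assoc, Category.assoc,
        sigmaTrunc_comp_of_subset _ Finset.subset_union_left, sigmaTrunc_comp_of_subset _ Finset.subset_union_right]
  have hab : Absorbs (sigmaTrunc hc') X := absorbs_transfer (coproductIsCoproduct E') hc' fun f => by
    obtain ⟨z, rfl⟩ := (h E).2 f
    exact key z
  intro f
  obtain ⟨T, hT⟩ := hab f
  refine ⟨T.image ULift.down, ?_⟩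
  refine Eq.trans (congrArg (f ≫ ·) (Cofan.IsColimit.hom_ext hc _ _ fun n => ?_)) hT
  rw [inj_sigmaTrunc]
  refine Eq.trans ?_ (inj_sigmaTrunc hc' T ⟨n⟩).symm
  have hiff : n ∈ T.image ULift.down ↔ (⟨n⟩ : ULift.{u + 1} ℕ) ∈ T := by
    simp only [Finset.mem_image]
    exact ⟨fun ⟨⟨m⟩, hm, e⟩ => by cases e; exact hm, fun hm => ⟨_, hm, rfl⟩⟩
  simp only [hiff]
  split_ifs <;> rfl

theorem CptN.shift {X : Dual.D A} (h : CptN X) (n : ℤ) : CptN (X⟦n⟧) := fun E c hc f => by
  classical
  let adj := (shiftEquiv (Dual.D A) n).toAdjunction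
  let G := shiftFunctor (Dual.D A) (-n)
  have hc' : IsColimit (Cofan.mk (f := fun i => G.obj (E i)) (G.obj c.pt) fun i => G.map (c.inj i)) :=
    isColimitCofanMkObjOfIsColimit G _ _ (hc.ofIsoColimit (Cofan.ext (Iso.refl _) (by simp)))
  obtain ⟨T, hT⟩ := h _ _ hc' (adj.homEquiv X c.pt f)
  refine ⟨T, (adj.homEquiv X c.pt).injective ?_⟩
  rw [Adjunction.homEquiv_naturality_right]
  refine Eq.trans (congrArg (adj.homEquiv X c.pt f ≫ ·) ?_) hT
  refine Cofan.IsColimit.hom_ext hc' _ _ fun i => ?_
  rw [inj_sigmaTrunc]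
  show G.map (c.inj i) ≫ G.map _ = _
  rw [← Functor.map_comp, inj_sigmaTrunc]
  split_ifs
  · rfl
  · rw [Functor.map_zero]

theorem factor_colimit {K : Dual.D A} (hK : CptN K) (L : ℕ ⥤ DRing.Cx A) (c : Cocone L) (hc : IsColimit c) :
    (∀ x : K ⟶ DRing.toD c.pt, ∃ (n : ℕ) (y : K ⟶ DRing.toD (L.obj n)),
        y ≫ DerivedCategory.Q.map (c.ι.app n) = x) ∧
      (∀ (n : ℕ) (y : K ⟶ DRing.toD (L.obj n)), y ≫ DerivedCategory.Q.map (c.ι.app n) = 0 →
        ∃ (m : ℕ) (h : n ≤ m), y ≫ DerivedCategory.Q.map (L.map (homOfLE h)) = 0) := by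
  classical
  let E : ℕ → Dual.D A := fun n => DRing.toD (L.obj n)
  obtain ⟨hQ⟩ := nonempty_isColimit_Q_cofan (coproductIsCoproduct L.obj)
  haveI hE : HasCoproduct fun n => DerivedCategory.Q.obj (L.obj n) := ⟨⟨⟨_, hQ⟩⟩⟩
  haveI : PreservesColimit (Discrete.functor L.obj) (DerivedCategory.Q (C := ModuleCat.{u} A)) :=
    preservesColimit_of_preserves_colimit_cocone (coproductIsCoproduct L.obj)
      ((isColimitMapCoconeCofanMkEquiv DerivedCategory.Q L.obj (Sigma.ι L.obj)).symm hQ)
  obtain ⟨δ, hT⟩ := Groth.Agent.S0985.result L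
  let f : ∀ n, E n ⟶ E (n + 1) := fun n => DerivedCategory.Q.map (L.map (homOfLE (Nat.le_succ n)))
  let d : (∐ E) ⟶ ∐ E := 𝟙 _ - DerLim.shiftMap E f
  let i : ∀ n, E n ⟶ DRing.toD (colimit L) := fun n => DerivedCategory.Q.map (colimit.ι L n)
  replace hT : Triangle.mk d (Limits.Sigma.desc i) δ ∈ distTriang (Dual.D A) := hT
  let hS := coproductIsCoproduct E
  let π : ∀ k, (∐ E) ⟶ E k := fun k => sigmaProj hS k
  have hπ : ∀ n k, Sigma.ι E n ≫ π k = if h : n = k then eqToHom (congrArg E h) else 0 := fun n k => by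
    show (Cofan.mk _ (Sigma.ι E)).inj n ≫ sigmaProj hS k = _
    split_ifs with h
    · subst h
      exact inj_sigmaProj_self hS n
    · exact inj_sigmaProj_ne hS h
  have hd0 : d ≫ π 0 = π 0 := Sigma.hom_ext _ _ fun n => by
    simp [d, DerLim.shiftMap, Preadditive.sub_comp, hπ]
  have hds : ∀ k, d ≫ π (k + 1) = π (k + 1) - π k ≫ f k := fun k => Sigma.hom_ext _ _ fun n => by
    simp only [d, DerLim.shiftMap, Preadditive.sub_comp, Preadditive.comp_sub, Category.id_comp,
      Sigma.ι_desc_assoc, Category.assoc, hπ]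
    rw [← Category.assoc (Sigma.ι E n) (π k), hπ]
    by_cases hn : n = k
    · subst hn
      simp
    · simp [hn]
  have hfin : ∀ {X : Dual.D A}, CptN X → ∀ ξ : X ⟶ ∐ E, ∃ T : Finset ℕ,
      (∀ k, k ∉ T → ξ ≫ π k = 0) ∧ ξ = ∑ k ∈ T, (ξ ≫ π k) ≫ Sigma.ι E k := by
    intro X hX ξ
    obtain ⟨T, hT'⟩ := hX E _ hS ξ
    refine ⟨T, fun k hk => ?_, ?_⟩
    · rw [← hT', Category.assoc, sigmaTrunc, Preadditive.sum_comp, Finset.sum_eq_zero, comp_zero]
      intro j hj
      rw [Category.assoc]
      refine (congrArg (sigmaProj hS j ≫ ·) (inj_sigmaProj_ne hS fun e : j = k => hk (e ▸ hj))).trans comp_zero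
    · conv_lhs => rw [← hT']
      simp only [sigmaTrunc, Preadditive.comp_sum, Category.assoc]
      rfl
  have key : ∀ (m n : ℕ) (h : n ≤ m) (y : K ⟶ E n),
      (y ≫ DerivedCategory.Q.map (L.map (homOfLE h))) ≫ i m = y ≫ i n := fun m n h y => by
    rw [Category.assoc]
    show _ ≫ DerivedCategory.Q.map _ ≫ DerivedCategory.Q.map _ = _
    rw [← Functor.map_comp, colimit.w]
  let e := colimit.isColimit L |>.coconePointUniqueUpToIso hc
  have he : ∀ n, i n ≫ DerivedCategory.Q.map e.hom = DerivedCategory.Q.map (c.ι.app n) := fun n => by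
    show DerivedCategory.Q.map _ ≫ _ = _
    rw [← Functor.map_comp]
    exact congrArg _ ((colimit.isColimit L).comp_coconePointUniqueUpToIso_hom hc n)
  have he' : e.inv ≫ e.hom = 𝟙 _ := e.inv_hom_id
  constructor
  · intro x
    let x' := x ≫ DerivedCategory.Q.map e.inv
    have h0 : x' ≫ δ = 0 := by
      let adj := (shiftEquiv' (Dual.D A) (-1 : ℤ) 1 (by omega)).toAdjunction
      obtain ⟨ξ, hξ⟩ := (adj.homEquiv K (∐ E)).surjective (x' ≫ δ)
      have hz0 : adj.homEquiv K (∐ E) 0 = 0 := by
        rw [Adjunction.homEquiv_unit]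
        show _ ≫ (shiftFunctor (Dual.D A) (1 : ℤ)).map 0 = 0
        rw [Functor.map_zero, comp_zero]
      have hξd : ξ ≫ d = 0 := (adj.homEquiv K (∐ E)).injective (by
        rw [Adjunction.homEquiv_naturality_right, hξ, hz0]
        show (x' ≫ δ) ≫ d⟦(1 : ℤ)⟧' = 0
        rw [Category.assoc, show δ ≫ d⟦(1 : ℤ)⟧' = 0 from comp_distTriang_mor_zero₃₁ _ hT, comp_zero])
      have hz : ∀ k, ξ ≫ π k = 0 := by
        intro k
        induction k with
        | zero => rw [← hd0, ← Category.assoc, hξd, zero_comp]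
        | succ k ih =>
          have h := congrArg (· ≫ π (k + 1)) hξd
          rw [Category.assoc, hds, Preadditive.comp_sub, ← Category.assoc, ih, zero_comp, sub_zero, zero_comp] at h
          exact h
      obtain ⟨T, -, hξT⟩ := hfin (hK.shift (-1)) ξ
      rw [← hξ, hξT, Finset.sum_eq_zero (fun k _ => by rw [hz k, zero_comp]), hz0]
    obtain ⟨α, hα⟩ := Triangle.coyoneda_exact₃ _ hT x' h0
    simp only [Triangle.mk_mor₂] at hα
    change K ⟶ ∐ E at α
    obtain ⟨T, -, hαT⟩ := hfin hK α
    obtain ⟨N, hN⟩ : ∃ N, ∀ k ∈ T, k ≤ N := ⟨T.sup id, fun k hk => Finset.le_sup (f := id) hk⟩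
    refine ⟨N, ∑ k ∈ T.attach, (α ≫ π k.1) ≫ DerivedCategory.Q.map (L.map (homOfLE (hN k.1 k.2))), ?_⟩
    rw [← he, ← Category.assoc, Preadditive.sum_comp,
      Finset.sum_congr rfl (fun k _ => key N k.1 (hN k.1 k.2) (α ≫ π k.1)),
      Finset.sum_attach T (fun k => (α ≫ π k) ≫ i k)]
    have : x' = ∑ k ∈ T, (α ≫ π k) ≫ i k := by
      rw [hα, hαT, Preadditive.sum_comp]
      refine Finset.sum_congr rfl fun k _ => ?_
      rw [← hαT]
      simp
    rw [← this]
    show (x ≫ _) ≫ _ = x
    rw [Category.assoc, ← Functor.map_comp, he', CategoryTheory.Functor.map_id]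
    exact Category.comp_id x
  · intro n y hy
    have h0 : (y ≫ Sigma.ι E n) ≫ Limits.Sigma.desc i = 0 := by
      rw [Category.assoc, Sigma.ι_desc, ← cancel_mono (DerivedCategory.Q.map e.hom), Category.assoc, he, hy,
        zero_comp]
    obtain ⟨β, hβ⟩ := Triangle.coyoneda_exact₂ _ hT _ h0
    simp only [Triangle.mk_mor₁] at hβ
    obtain ⟨T, hT', -⟩ := hfin hK β
    have hlow : ∀ k, k < n → β ≫ π k = 0 := by
      intro k
      induction k with
      | zero =>
        intro hk
        rw [← hd0, ← Category.assoc, ← hβ, Category.assoc, hπ, dif_neg (by omega), comp_zero]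
      | succ k ih =>
        intro hk
        have h := congrArg (· ≫ π (k + 1)) hβ
        rw [Category.assoc, Category.assoc, hπ, dif_neg (by omega), comp_zero, hds, Preadditive.comp_sub,
          ← Category.assoc β (π k), ih (by omega), zero_comp, sub_zero] at h
        exact h.symm
    have hhigh : ∀ (k : ℕ) (hk : n ≤ k), β ≫ π k = y ≫ DerivedCategory.Q.map (L.map (homOfLE hk)) := by
      intro k hk
      induction k, hk using Nat.le_induction with
      | base =>
        have h := congrArg (· ≫ π n) hβ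
        rw [Category.assoc, Category.assoc, hπ, dif_pos rfl, eqToHom_refl, Category.comp_id] at h
        simp only [homOfLE_refl, CategoryTheory.Functor.map_id, Category.comp_id]
        cases n with
        | zero => rw [hd0] at h; exact h.symm
        | succ j =>
          rw [hds, Preadditive.comp_sub, ← Category.assoc β (π j), hlow j (by omega), zero_comp, sub_zero] at h
          exact h.symm
      | succ k hk ih =>
        have h := congrArg (· ≫ π (k + 1)) hβ
        rw [Category.assoc, Category.assoc, hπ, dif_neg (by omega), comp_zero, hds, Preadditive.comp_sub,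
          ← Category.assoc β (π k), ih] at h
        rw [sub_eq_zero.1 h.symm, Category.assoc]
        show y ≫ DerivedCategory.Q.map _ ≫ DerivedCategory.Q.map _ = _
        rw [← Functor.map_comp, ← Functor.map_comp]
        rfl
    obtain ⟨m, hm, hmT⟩ : ∃ m, n ≤ m ∧ m ∉ T := ⟨max n (T.sup id + 1), le_max_left _ _, fun h => by
      have h1 := Finset.le_sup (f := id) h
      have h2 : T.sup id + 1 ≤ max n (T.sup id + 1) := le_max_right _ _
      simp only [id] at h1
      change max n (T.sup id + 1) ≤ T.sup id at h1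
      omega⟩
    exact ⟨m, hm, by rw [← hhigh m hm, hT' m hmT]⟩

end Groth.Agent.DRingLib
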