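import Groth.Agent.DRingLib.HomTensor
import Mathlib.CategoryTheory.Monoidal.Rigid.Basic

/-!
# Dualisable complexes of modules
-/

set_option autoImplicit false
set_option linter.style.haveILetI false
set_option backward.isDefEq.respectTransparency false

universe u

open CategoryTheory Limits MonoidalCategory HomologicalComplex
attribute [local instance] HasDerivedCategory.standard

noncomputable section

namespace Groth.Agent.DRingLib

variable {A : Type u} [CommRing A] {K L M K' L' : DRing.Cx A}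

theorem ιBil_span {n : ℤ} (P : (K ⊗ L : DRing.Cx A).X n → Prop) (h0 : P 0) (hadd : ∀ x y, P x → P y → P (x + y))
    (hsmul : ∀ (a : A) x, P x → P (a • x))
    (h : ∀ (p q : ℤ) (hpq : p + q = n) (x : K.X p) (y : L.X q), P (ιBil K L p q n hpq x y))
    (z : (K ⊗ L : DRing.Cx A).X n) : P z := by
  let S : Submodule A ((K ⊗ L : DRing.Cx A).X n) :=
    Submodule.span A {w | ∃ (p q : ℤ) (hpq : p + q = n) (x : K.X p) (y : L.X q), w = ιBil K L p q n hpq x y}
  have hS : S = ⊤ := by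
    have h1 : (ModuleCat.ofHom S.mkQ : (K ⊗ L : DRing.Cx A).X n ⟶ ModuleCat.of A (_ ⧸ S)) = 0 := by
      refine mapBifunctor.hom_ext fun p q hpq => ModuleCat.hom_ext (TensorProduct.ext' fun x y => ?_)
      exact (Submodule.Quotient.mk_eq_zero S).2 (Submodule.subset_span ⟨p, q, hpq, x, y, rfl⟩)
    refine eq_top_iff.2 fun w _ => (Submodule.Quotient.mk_eq_zero S).1 ?_
    exact congrArg (fun φ => φ.hom w) h1
  have hz : z ∈ S := by rw [hS]; trivial
  exact Submodule.span_induction (p := fun w _ => P w) (fun w hw => by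
      obtain ⟨p, q, hpq, x, y, rfl⟩ := hw
      exact h p q hpq x y)
    h0 (fun x y _ _ => hadd x y) (fun a x _ => hsmul a x) hz

theorem whiskerRight_ιBil (f : K ⟶ K') (p q r : ℤ) (h : p + q = r) (x : K.X p) (y : L.X q) :
    ((f ▷ L).f r).hom (ιBil K L p q r h x y) = ιBil K' L p q r h ((f.f p).hom x) y := by
  have h1 : ιTensorObj K L p q r h ≫ (f ▷ L).f r =
      (f.f p ▷ L.X q) ≫ ιTensorObj K' L p q r h := by
    refine (ι_mapBifunctorMap f (𝟙 L) (curriedTensor (ModuleCat.{u} A)) (ComplexShape.up ℤ) p q r h).trans ?_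
    simp
  exact congrArg (fun φ => φ.hom (x ⊗ₜ[A] y)) h1

theorem whiskerLeft_ιBil (g : L ⟶ L') (p q r : ℤ) (h : p + q = r) (x : K.X p) (y : L.X q) :
    ((K ◁ g).f r).hom (ιBil K L p q r h x y) = ιBil K L' p q r h x ((g.f q).hom y) := by
  have h1 : ιTensorObj K L p q r h ≫ (K ◁ g).f r =
      (K.X p ◁ g.f q) ≫ ιTensorObj K L' p q r h := by
    refine (ι_mapBifunctorMap (𝟙 K) g (curriedTensor (ModuleCat.{u} A)) (ComplexShape.up ℤ) p q r h).trans ?_
    simp
  exact congrArg (fun φ => φ.hom (x ⊗ₜ[A] y)) h1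

theorem associator_ιBil (p q r pq qr n : ℤ) (h₁ : p + q = pq) (h₂ : pq + r = n) (h₃ : q + r = qr) (h₄ : p + qr = n)
    (x : K.X p) (y : L.X q) (z : M.X r) :
    ((α_ K L M).hom.f n).hom (ιBil (K ⊗ L) M pq r n h₂ (ιBil K L p q pq h₁ x y) z) =
      ιBil K (L ⊗ M) p qr n h₄ x (ιBil L M q r qr h₃ y z) := by
  have h1 := HomologicalComplex.ι_mapBifunctorAssociatorX_hom (curriedAssociatorNatIso (ModuleCat.{u} A))
    K L M (ComplexShape.up ℤ) (ComplexShape.up ℤ) (ComplexShape.up ℤ) p q r n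
    (show p + q + r = n by omega)
  rw [mapBifunctor₁₂.ι_eq (curriedTensor (ModuleCat.{u} A)) (curriedTensor (ModuleCat.{u} A)) K L M
      (ComplexShape.up ℤ) (ComplexShape.up ℤ) p q r pq n h₁ h₂,
    mapBifunctor₂₃.ι_eq (curriedTensor (ModuleCat.{u} A)) (curriedTensor (ModuleCat.{u} A)) K L M
      (ComplexShape.up ℤ) (ComplexShape.up ℤ) (ComplexShape.up ℤ) p q r qr n h₃ h₄] at h1
  exact congrArg (fun φ => φ.hom ((x ⊗ₜ[A] y) ⊗ₜ[A] z)) h1

/-- The generator of the unit complex. -/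
def unitGen : (𝟙_ (DRing.Cx A)).X 0 :=
  (singleObjXSelf (ComplexShape.up ℤ) 0 (𝟙_ (ModuleCat.{u} A))).inv.hom (1 : A)

/-- The coordinate on the unit complex. -/
def unitCoord : (𝟙_ (DRing.Cx A)).X 0 →ₗ[A] A :=
  (singleObjXSelf (ComplexShape.up ℤ) 0 (𝟙_ (ModuleCat.{u} A))).hom.hom

theorem unitCoord_smul (u : (𝟙_ (DRing.Cx A)).X 0) : unitCoord u • unitGen = u := by
  show (singleObjXSelf (ComplexShape.up ℤ) 0 (𝟙_ (ModuleCat.{u} A))).hom.hom u •
    (singleObjXSelf (ComplexShape.up ℤ) 0 (𝟙_ (ModuleCat.{u} A))).inv.hom (1 : A) = u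
  rw [← map_smul]
  refine Eq.trans (congrArg _ (mul_one (_ : A))) ?_
  exact (singleObjXSelf (ComplexShape.up ℤ) 0 (𝟙_ (ModuleCat.{u} A))).toLinearEquiv.symm_apply_apply u

theorem leftUnitor_inv_apply (j : ℤ) (x : K.X j) :
    ((λ_ K).inv.f j).hom x = ιBil (𝟙_ (DRing.Cx A)) K 0 j j (zero_add j) unitGen x :=
  congrArg (fun φ => φ.hom x) (HomologicalComplex.leftUnitor'_inv K j)

theorem rightUnitor_inv_apply (j : ℤ) (x : K.X j) :
    ((ρ_ K).inv.f j).hom x = ιBil K (𝟙_ (DRing.Cx A)) j 0 j (add_zero j) x unitGen :=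
  congrArg (fun φ => φ.hom x) (HomologicalComplex.rightUnitor'_inv K j)

/-- A family of endomorphisms of the terms is of finite rank. -/
def FinRank (T : ∀ j, K.X j →ₗ[A] K.X j) : Prop :=
  ∃ S : Finset ℤ, (∀ j, j ∉ S → T j = 0) ∧
    ∀ j, ∃ (k : ℕ) (f : K.X j →ₗ[A] (Fin k → A)) (g : (Fin k → A) →ₗ[A] K.X j), g ∘ₗ f = T j

theorem finRank_zero : FinRank (K := K) fun _ => 0 :=
  ⟨∅, fun _ _ => rfl, fun _ => ⟨0, 0, 0, LinearMap.comp_zero _⟩⟩

theorem FinRank.add {T T' : ∀ j, K.X j →ₗ[A] K.X j} (h : FinRank T) (h' : FinRank T') :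
    FinRank fun j => T j + T' j := by
  classical
  obtain ⟨S, hS, hT⟩ := h
  obtain ⟨S', hS', hT'⟩ := h'
  refine ⟨S ∪ S', fun j hj => ?_, fun j => ?_⟩
  · rw [Finset.mem_union, not_or] at hj
    show T j + T' j = 0
    rw [hS j hj.1, hS' j hj.2, add_zero]
  · obtain ⟨k, f, g, hfg⟩ := hT j
    obtain ⟨k', f', g', hfg'⟩ := hT' j
    refine ⟨k + k', LinearMap.pi (Fin.addCases (fun i => LinearMap.proj i ∘ₗ f) fun i => LinearMap.proj i ∘ₗ f'),
      g ∘ₗ LinearMap.funLeft A A (Fin.castAdd k') + g' ∘ₗ LinearMap.funLeft A A (Fin.natAdd k), ?_⟩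
    refine LinearMap.ext fun x => ?_
    show g _ + g' _ = T j x + T' j x
    rw [← hfg, ← hfg']
    congr 1 <;> (refine congrArg _ (funext fun i => ?_); simp [LinearMap.funLeft])

theorem FinRank.smul {T : ∀ j, K.X j →ₗ[A] K.X j} (h : FinRank T) (a : A) : FinRank fun j => a • T j := by
  obtain ⟨S, hS, hT⟩ := h
  refine ⟨S, fun j hj => by show a • T j = 0; rw [hS j hj, smul_zero], fun j => ?_⟩
  obtain ⟨k, f, g, hfg⟩ := hT j
  exact ⟨k, f, a • g, by rw [LinearMap.smul_comp, hfg]⟩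

theorem finRank_single (p : ℤ) (T : ∀ j, K.X j →ₗ[A] K.X j) (h0 : ∀ j, j ≠ p → T j = 0)
    (c : K.X p →ₗ[A] A) (m : K.X p) (hp : ∀ x, T p x = c x • m) : FinRank T := by
  refine ⟨{p}, fun j hj => h0 j (by simpa using hj), fun j => ?_⟩
  by_cases hj : j = p
  · subst hj
    exact ⟨1, LinearMap.pi fun _ => c, LinearMap.toSpanSingleton A _ m ∘ₗ LinearMap.proj 0,
      LinearMap.ext fun x => (hp x).symm⟩
  · exact ⟨0, 0, 0, by rw [h0 j hj, LinearMap.comp_zero]⟩

theorem bounded_finProj_of_finRank_id (h : FinRank (K := K) fun _ => LinearMap.id) :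
    (∃ a b : ℤ, DRing.VanishesOutside K a b) ∧ DRing.TermwiseFiniteProjective K := by
  obtain ⟨S, hS, hT⟩ := h
  refine ⟨?_, fun j => ?_⟩
  · obtain ⟨a, ha⟩ := S.bddBelow
    obtain ⟨b, hb⟩ := S.bddAbove
    refine ⟨a, b, fun i hi => ?_⟩
    have hni : i ∉ S := fun hiS => by
      have := ha hiS
      have := hb hiS
      omega
    rw [IsZero.iff_id_eq_zero]
    exact ModuleCat.hom_ext (hS i hni)
  · obtain ⟨k, f, g, hfg⟩ := hT j
    exact ⟨Module.Finite.of_surjective g fun x => ⟨f x, LinearMap.congr_fun hfg x⟩,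
      Module.Projective.of_split f g hfg⟩

theorem bounded_finProj_left (M K : DRing.Cx A) [ExactPairing M K] : (∃ a b : ℤ, DRing.VanishesOutside M a b) ∧ DRing.TermwiseFiniteProjective M := by
  let T : (M ⊗ K : DRing.Cx A).X 0 → ∀ j, M.X j →ₗ[A] M.X j := fun z j =>
    ((ρ_ M).hom.f j).hom ∘ₗ ((M ◁ ε_ M K).f j).hom ∘ₗ ((α_ M K M).hom.f j).hom ∘ₗ
      ιBil (M ⊗ K) M 0 j j (zero_add j) z
  have key : FinRank (T (((η_ M K).f 0).hom unitGen)) := by
    refine ιBil_span (fun z => FinRank (T z)) ?_ (fun z z' hz hz' => ?_) (fun a z hz => ?_)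
      (fun p q hpq m n => ?_) _
    · convert finRank_zero (K := M) using 1
      funext j
      simp [T]
    · convert hz.add hz' using 1
      funext j
      simp [T, LinearMap.comp_add]
    · convert hz.smul a using 1
      funext j
      simp [T, LinearMap.comp_smul]
    · have hT : ∀ (j r : ℤ) (hr : q + j = r) (x : M.X j), T (ιBil M K p q 0 hpq m n) j x = ((ρ_ M).hom.f j).hom
          (ιBil M (𝟙_ (DRing.Cx A)) p r j (by omega) m (((ε_ M K).f r).hom (ιBil K M q j r hr n x))) := fun j r hr x => by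
        show ((ρ_ M).hom.f j).hom (((M ◁ ε_ M K).f j).hom (((α_ M K M).hom.f j).hom _)) = _
        rw [associator_ιBil p q j 0 r j hpq (zero_add j) hr (by omega) m n x, whiskerLeft_ιBil]
      refine finRank_single p _ (fun j hj => LinearMap.ext fun x => ?_)
        (unitCoord ∘ₗ ((ε_ M K).f 0).hom ∘ₗ ιBil K M q p 0 (by omega) n)
        (((ρ_ M).hom.f p).hom (ιBil M (𝟙_ (DRing.Cx A)) p 0 p (add_zero p) m unitGen)) fun x => ?_
      · rw [hT j (q + j) rfl]
        have hz : IsZero ((𝟙_ (DRing.Cx A)).X (q + j)) :=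
          HomologicalComplex.isZero_single_obj_X (ComplexShape.up ℤ) 0 _ _ (by omega)
        haveI := ModuleCat.subsingleton_of_isZero hz
        rw [Subsingleton.elim (((ε_ M K).f (q + j)).hom _) (0 : (𝟙_ (DRing.Cx A)).X (q + j)), map_zero, map_zero]
        rfl
      · rw [hT p 0 (by omega), ← map_smul, ← map_smul]
        exact congrArg (fun u => ((ρ_ M).hom.f p).hom (ιBil M (𝟙_ (DRing.Cx A)) p 0 p (add_zero p) m u))
          (unitCoord_smul _).symm
  have hid : T (((η_ M K).f 0).hom unitGen) = fun _ => LinearMap.id := funext fun j => LinearMap.ext fun x => by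
    show ((ρ_ M).hom.f j).hom (((M ◁ ε_ M K).f j).hom (((α_ M K M).hom.f j).hom _)) = x
    rw [← whiskerRight_ιBil (η_ M K) 0 j j (zero_add j) unitGen x, ← leftUnitor_inv_apply]
    have h := congrArg (fun φ : 𝟙_ (DRing.Cx A) ⊗ M ⟶ M ⊗ 𝟙_ (DRing.Cx A) => (λ_ M).inv ≫ φ ≫ (ρ_ M).hom)
      (ExactPairing.evaluation_coevaluation M K)
    simp only [Category.assoc, Iso.inv_hom_id, Category.comp_id, Iso.inv_hom_id_assoc] at h
    exact congrArg (fun φ : M ⟶ M => (φ.f j).hom x) h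
  exact bounded_finProj_of_finRank_id (hid ▸ key)

theorem bounded_finProj_right (M K : DRing.Cx A) [ExactPairing M K] : (∃ a b : ℤ, DRing.VanishesOutside K a b) ∧ DRing.TermwiseFiniteProjective K := by
  let T : (M ⊗ K : DRing.Cx A).X 0 → ∀ j, K.X j →ₗ[A] K.X j := fun z j =>
    ((λ_ K).hom.f j).hom ∘ₗ ((ε_ M K ▷ K).f j).hom ∘ₗ ((α_ K M K).inv.f j).hom ∘ₗ
      (ιBil K (M ⊗ K) j 0 j (add_zero j)).flip z
  have key : FinRank (T (((η_ M K).f 0).hom unitGen)) := by
    refine ιBil_span (fun z => FinRank (T z)) ?_ (fun z z' hz hz' => ?_) (fun a z hz => ?_)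
      (fun p q hpq m n => ?_) _
    · convert finRank_zero (K := K) using 1
      funext j
      simp [T]
    · convert hz.add hz' using 1
      funext j
      simp [T, LinearMap.comp_add]
    · convert hz.smul a using 1
      funext j
      simp [T, LinearMap.comp_smul]
    · have hT : ∀ (j r : ℤ) (hr : j + p = r) (x : K.X j), T (ιBil M K p q 0 hpq m n) j x = ((λ_ K).hom.f j).hom
          (ιBil (𝟙_ (DRing.Cx A)) K r q j (by omega) (((ε_ M K).f r).hom (ιBil K M j p r hr x m)) n) := fun j r hr x => by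
        show ((λ_ K).hom.f j).hom (((ε_ M K ▷ K).f j).hom (((α_ K M K).inv.f j).hom
          (ιBil K (M ⊗ K) j 0 j (add_zero j) x (ιBil M K p q 0 hpq m n)))) = _
        rw [← associator_ιBil j p q r 0 j hr (by omega) hpq (add_zero j) x m n,
          ← LinearMap.comp_apply ((α_ K M K).inv.f j).hom, ← ModuleCat.hom_comp, ← HomologicalComplex.comp_f,
          Iso.hom_inv_id, HomologicalComplex.id_f, ModuleCat.hom_id, LinearMap.id_apply, whiskerRight_ιBil]
      refine finRank_single q _ (fun j hj => LinearMap.ext fun x => ?_)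
        (unitCoord ∘ₗ ((ε_ M K).f 0).hom ∘ₗ (ιBil K M q p 0 (by omega)).flip m)
        (((λ_ K).hom.f q).hom (ιBil (𝟙_ (DRing.Cx A)) K 0 q q (zero_add q) unitGen n)) fun x => ?_
      · rw [hT j (j + p) rfl]
        have hz : IsZero ((𝟙_ (DRing.Cx A)).X (j + p)) :=
          HomologicalComplex.isZero_single_obj_X (ComplexShape.up ℤ) 0 _ _ (by omega)
        haveI := ModuleCat.subsingleton_of_isZero hz
        rw [Subsingleton.elim (((ε_ M K).f (j + p)).hom _) (0 : (𝟙_ (DRing.Cx A)).X (j + p)), map_zero,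
          LinearMap.zero_apply, map_zero]
        rfl
      · rw [hT q 0 (by omega), ← map_smul, ← LinearMap.smul_apply, ← map_smul]
        exact congrArg (fun u => ((λ_ K).hom.f q).hom (ιBil (𝟙_ (DRing.Cx A)) K 0 q q (zero_add q) u n))
          (unitCoord_smul _).symm
  have hid : T (((η_ M K).f 0).hom unitGen) = fun _ => LinearMap.id := funext fun j => LinearMap.ext fun x => by
    show ((λ_ K).hom.f j).hom (((ε_ M K ▷ K).f j).hom (((α_ K M K).inv.f j).hom
      (ιBil K (M ⊗ K) j 0 j (add_zero j) x (((η_ M K).f 0).hom unitGen)))) = x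
    rw [← whiskerLeft_ιBil (η_ M K) j 0 j (add_zero j) x unitGen, ← rightUnitor_inv_apply]
    have h := congrArg (fun φ : K ⊗ 𝟙_ (DRing.Cx A) ⟶ 𝟙_ (DRing.Cx A) ⊗ K => (ρ_ K).inv ≫ φ ≫ (λ_ K).hom)
      (ExactPairing.coevaluation_evaluation M K)
    simp only [Category.assoc, Iso.inv_hom_id, Category.comp_id, Iso.inv_hom_id_assoc] at h
    exact congrArg (fun φ : K ⟶ K => (φ.f j).hom x) h
  exact bounded_finProj_of_finRank_id (hid ▸ key)

end Groth.Agent.DRingLib
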