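import Groth.Agent.DRingLib.RegularGl
import Groth.Agent.DRingLib.FibreCriterion
import Groth.Agent.DRingLib.WeaklyEtaleAmp
import Groth.Agent.S7034

/-!
# Perfectness from fibres of finite global dimension
-/

set_option autoImplicit false
set_option linter.style.haveILetI false
set_option backward.isDefEq.respectTransparency false

universe u

open CategoryTheory Limits MonoidalCategory
open scoped TensorProduct
attribute [local instance] HasDerivedCategory.standard Algebra.TensorProduct.rightAlgebra

noncomputable section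

namespace Groth.Agent.DRingLib

open Groth.Agent.DCohLib Groth.Agent.DTenLib

variable {A B : Type u} [CommRing A] [CommRing B]

/-- Perfectness from exactness at the closed fibres. -/
theorem perfect_of_exact_fibres {K : Dual.D B} (hK : DRing.IsPseudoCoherent' B K) {E : DRing.Cx B} {c : ℤ}
    (hc : DRing.VanishesAbove E c) (hE : DRing.TermwiseFiniteFree E) (e : DRing.toD E ≅ K) (a b : ℤ)
    (h : ∀ m : Ideal B, m.IsMaximal → ∀ i : ℤ, (i < a ∨ b < i) →
      Function.Exact ((E.d (i - 1) i).hom.lTensor (B ⧸ m)) ((E.d i (i + 1)).hom.lTensor (B ⧸ m))) :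
    DRing.IsPerfect B K ∧ DRing.HasTorAmplitudeIn B a b K := by
  have hEp : ∀ i, Module.Projective B (E.X i) := fun i => (fFree_imp_fProj (hE i)).2
  have hamp : DRing.HasTorAmplitudeIn B a b K :=
    amp_of_iso e (amp_of_tensVanish (isKFlat_of_projective hc hEp) fun M i hi => by
      rw [HomologicalComplex.exactAt_iff' _ (i - 1) i (i + 1) (by simp) (by simp),
        ShortComplex.ShortExact.moduleCat_exact_iff_function_exact]
      haveI := (hE i).1
      haveI := hEp (i + 1)
      exact exact_lTensor_of_fibres (E.d (i - 1) i).hom (E.d i (i + 1)).hom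
        (by rw [← ModuleCat.hom_comp, E.d_comp_d]; rfl) (fun m hm => h m hm i hi) M)
  exact ⟨(isPerfect_iff K).2 ((perf_iff K).2 ⟨hK, a, b, hamp⟩), hamp⟩

/-- Exactness at a fibre from exactness and finite global dimension of the fibre ring. -/
theorem exact_fibre_of_globalDim {C : Type u} [CommRing C] (χ : B →+* C) (d : ℕ)
    (hgl : ∀ (M : Type u) [AddCommGroup M] [Module C M], HasProjectiveDimensionLT (ModuleCat.of C M) (d + 1))
    {E : DRing.Cx B} {c : ℤ} (hc : DRing.VanishesAbove E c) (hE : ∀ i, Module.Projective B (E.X i)) {a b : ℤ}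
    (hC : ∀ i : ℤ, (i < a ∨ b < i) → ((DTen.extCx χ).obj E).ExactAt i)
    (m : Ideal B) (ψ : C →+* B ⧸ m) (hψ : ψ.comp χ = Ideal.Quotient.mk m) (i : ℤ) (hi : i < a - d ∨ b < i) :
    Function.Exact ((E.d (i - 1) i).hom.lTensor (B ⧸ m)) ((E.d i (i + 1)).hom.lTensor (B ⧸ m)) := by
  haveI : ∀ M : ModuleCat.{u} C, DRing.HasLTensor C M := fun M => hasLTensor M
  have hK := isKFlat_extCx χ (isKFlat_of_projective hc hE)
  have hamp : DRing.HasTorAmplitudeIn C (a - d) b (DRing.toD ((DTen.extCx χ).obj E)) :=
    (Groth.Agent.S7034.result C d hgl).2 _ a b fun j hj =>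
      ModuleCat.subsingleton_of_isZero ((exactAt_iff_isZero_homologyFunctor _ j).1 (hC j hj))
  letI : Module C (B ⧸ m) := Module.compHom _ ψ
  let M : ModuleCat.{u} C := ModuleCat.of C (B ⧸ m)
  have h := exactAt_tensM_restrict χ (P := E) (i := i)
  have h1 : ((tensM ((ModuleCat.restrictScalars.{u} χ).obj M)).obj E).ExactAt i := by
    refine HomologicalComplex.ExactAt.of_iso ?_ (tensMExtIso χ M E)
    have h' := tensVanish_of_amplitude hK hamp M i hi
    rw [HomologicalComplex.exactAt_iff] at h' ⊢
    exact h'.map (ModuleCat.restrictScalars.{u} χ)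
  rw [HomologicalComplex.exactAt_iff' _ (i - 1) i (i + 1) (by simp) (by simp),
    ShortComplex.ShortExact.moduleCat_exact_iff_function_exact] at h1
  let e₂ : ((ModuleCat.restrictScalars.{u} χ).obj M) ≃ₗ[B] B ⧸ m :=
    { (AddEquiv.refl (B ⧸ m)) with
      map_smul' := fun r (x : B ⧸ m) => by
        show ψ (χ r) * x = r • x
        rw [← RingHom.comp_apply, hψ, Algebra.smul_def]
        rfl }
  exact (Function.Exact.iff_of_ladder_linearEquiv
    (f₁₂ := (E.d (i - 1) i).hom.lTensor ((ModuleCat.restrictScalars.{u} χ).obj M))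
    (f₂₃ := (E.d i (i + 1)).hom.lTensor ((ModuleCat.restrictScalars.{u} χ).obj M))
    (e₁ := TensorProduct.congr e₂ (LinearEquiv.refl B _))
    (e₂ := TensorProduct.congr e₂ (LinearEquiv.refl B _)) (e₃ := TensorProduct.congr e₂ (LinearEquiv.refl B _))
    (TensorProduct.ext' fun x y => rfl) (TensorProduct.ext' fun x y => rfl)).2 h1

variable [Algebra A B] (κ : Type u) [CommRing κ] [Algebra A κ]

/-- The fibre of a complex computes the tensor product over the base. -/
theorem exactAt_extCx_fibre (E : DRing.Cx B) (i : ℤ)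
    (h : ((tensM (ModuleCat.of A κ)).obj ((DTen.resCx (algebraMap A B)).obj E)).ExactAt i) :
    ((DTen.extCx (algebraMap B (κ ⊗[A] B))).obj E).ExactAt i := by
  rw [HomologicalComplex.exactAt_iff' _ (i - 1) i (i + 1) (by simp) (by simp),
    ShortComplex.ShortExact.moduleCat_exact_iff_function_exact] at h
  letI : ∀ j, Module A (E.X j) := fun j => Module.compHom _ (algebraMap A B)
  haveI : ∀ j, IsScalarTower A B (E.X j) := fun j => .of_algebraMap_smul fun _ _ => rfl
  let ε := fun j => Algebra.IsPushout.cancelBaseChange A κ B (κ ⊗[A] B) (E.X j)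
  have hsq : ∀ j k, ((E.d j k).hom.restrictScalars A).lTensor κ ∘ₗ ((ε j).restrictScalars A).toLinearMap =
      ((ε k).restrictScalars A).toLinearMap ∘ₗ ((E.d j k).hom.lTensor (κ ⊗[A] B)).restrictScalars A := by
    intro j k
    refine LinearMap.ext fun x => ?_
    obtain ⟨y, rfl⟩ := (ε j).symm.surjective x
    show ((E.d j k).hom.restrictScalars A).lTensor κ (ε j ((ε j).symm y)) =
      ε k (((E.d j k).hom.lTensor (κ ⊗[A] B)) ((ε j).symm y))
    rw [LinearEquiv.apply_symm_apply]
    induction y using TensorProduct.induction_on with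
    | zero => simp
    | tmul s n =>
      apply (ε k).symm.injective
      rw [LinearEquiv.symm_apply_apply, LinearMap.lTensor_tmul]
      show (ε k).symm (s ⊗ₜ[A] (E.d j k).hom n) = _
      simp only [ε, Algebra.IsPushout.cancelBaseChange_symm_tmul, LinearMap.lTensor_tmul]
    | add x y hx hy => simp only [map_add, hx, hy]
  have h2 : Function.Exact ((E.d (i - 1) i).hom.lTensor (κ ⊗[A] B)) ((E.d i (i + 1)).hom.lTensor (κ ⊗[A] B)) :=
    (Function.Exact.iff_of_ladder_linearEquiv
      (f₁₂ := ((E.d (i - 1) i).hom.lTensor (κ ⊗[A] B)).restrictScalars A)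
      (f₂₃ := ((E.d i (i + 1)).hom.lTensor (κ ⊗[A] B)).restrictScalars A)
      (g₁₂ := ((E.d (i - 1) i).hom.restrictScalars A).lTensor κ)
      (g₂₃ := ((E.d i (i + 1)).hom.restrictScalars A).lTensor κ)
      (hsq _ _) (hsq _ _)).1 h
  let χ := algebraMap B (κ ⊗[A] B)
  rw [HomologicalComplex.exactAt_iff]
  refine (ShortComplex.exact_map_iff_of_faithful _ (ModuleCat.restrictScalars.{u} χ)).1 ?_
  have h3 : ((tensM (baseMod χ)).obj E).ExactAt i := by
    rw [HomologicalComplex.exactAt_iff' _ (i - 1) i (i + 1) (by simp) (by simp),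
      ShortComplex.ShortExact.moduleCat_exact_iff_function_exact]
    let e₂ := baseModEquiv B (κ ⊗[A] B)
    exact (Function.Exact.iff_of_ladder_linearEquiv
      (f₁₂ := (E.d (i - 1) i).hom.lTensor (baseMod χ)) (f₂₃ := (E.d i (i + 1)).hom.lTensor (baseMod χ))
      (e₁ := TensorProduct.congr e₂ (LinearEquiv.refl B _))
      (e₂ := TensorProduct.congr e₂ (LinearEquiv.refl B _)) (e₃ := TensorProduct.congr e₂ (LinearEquiv.refl B _))
      (TensorProduct.ext' fun x y => rfl) (TensorProduct.ext' fun x y => rfl)).1 h2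
  rw [HomologicalComplex.exactAt_iff] at h3
  exact (ShortComplex.exact_iff_of_iso ((E.sc i).mapNatIso (extResIso χ))).2 h3

end Groth.Agent.DRingLib
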