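import Groth.Agent.DRingLib.Split
import Groth.Agent.DRingLib.Approx
import Mathlib.CategoryTheory.Filtered.Basic
import Mathlib.CategoryTheory.Limits.ConcreteCategory.Basic

/-!
# Maps out of pseudo-coherent objects into filtered colimits of modules
-/

set_option autoImplicit false
set_option linter.style.haveILetI false
set_option backward.isDefEq.respectTransparency false

universe u

open CategoryTheory Limits Pretriangulated
attribute [local instance] HasDerivedCategory.standard

noncomputable section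

namespace Groth.Agent.DRingLib

open Groth.Agent.DCohLib

variable {A : Type u} [CommRing A]

theorem sngIso_natural (q : ℤ) {M N : ModuleCat.{u} A} (g : M ⟶ N) :
    DerivedCategory.Q.map ((CochainComplex.singleFunctor (ModuleCat.{u} A) q).map g) ≫ (sngIso q N).hom =
      (sngIso q M).hom ≫ (shiftFunctor (Dual.D A) (-q)).map
        ((DerivedCategory.singleFunctor (ModuleCat.{u} A) 0).map g) := by
  have h1 := (((CochainComplex.singleFunctors (ModuleCat.{u} A)).shiftIso (-q) q 0 (by omega))).inv.naturality g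
  have h2 := (DerivedCategory.Q.commShiftIso (-q)).hom.naturality ((CochainComplex.singleFunctor (ModuleCat.{u} A) 0).map g)
  have h3 := (DerivedCategory.singleFunctorIsoCompQ (ModuleCat.{u} A) 0).inv.naturality g
  simp only [sngIso, singleQIso, singleQZeroIso, Iso.trans_hom, Iso.symm_hom, Iso.trans_inv, Iso.symm_inv,
    Functor.mapIso_inv, Functor.mapIso_hom, Iso.app_hom, Iso.app_inv, Category.assoc]
  rw [← Category.assoc, ← DerivedCategory.Q.map_comp]
  erw [h1]
  rw [DerivedCategory.Q.map_comp, Category.assoc]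
  congr 1
  erw [reassoc_of% h2]
  congr 1
  rw [← Functor.map_comp, ← Functor.map_comp]
  exact congrArg _ h3

theorem exists_Q_map_eq {E : DRing.Cx A} [CochainComplex.IsKProjective E] (q : ℤ) {M : ModuleCat.{u} A}
    (x : DRing.toD E ⟶ (shiftFunctor (Dual.D A) (-q)).obj (Dual.inD A M)) :
    ∃ φ : E ⟶ (CochainComplex.singleFunctor (ModuleCat.{u} A) q).obj M,
      DerivedCategory.Q.map φ ≫ (sngIso q M).hom = x := by
  obtain ⟨φ, hφ⟩ := Q_map_surjective E _ (x ≫ (sngIso q M).inv)
  exact ⟨φ, by rw [hφ, Category.assoc, Iso.inv_hom_id, Category.comp_id]⟩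

theorem Q_map_eq_zero_iff {E : DRing.Cx A} [CochainComplex.IsKProjective E] {q : ℤ} {M : ModuleCat.{u} A}
    (φ : E ⟶ (CochainComplex.singleFunctor (ModuleCat.{u} A) q).obj M) :
    DerivedCategory.Q.map φ = 0 ↔ ∃ h : E.X (q + 1) ⟶ M,
      E.d q (q + 1) ≫ h = φ.f q ≫ (HomologicalComplex.singleObjXSelf (ComplexShape.up ℤ) q M).hom := by
  constructor
  · intro h0
    obtain ⟨H⟩ := homotopic_zero E φ h0
    have hc := H.comm q
    rw [HomologicalComplex.zero_f, add_zero, dNext_eq _ (show (ComplexShape.up ℤ).Rel q (q + 1) from rfl),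
      prevD_eq _ (show (ComplexShape.up ℤ).Rel (q - 1) q by simp),
      (HomologicalComplex.isZero_single_obj_X (ComplexShape.up ℤ) q M (q - 1) (by omega)).eq_of_tgt (H.hom q (q - 1)) 0,
      zero_comp, add_zero] at hc
    exact ⟨H.hom (q + 1) q ≫ (HomologicalComplex.singleObjXSelf (ComplexShape.up ℤ) q M).hom,
      by rw [hc, Category.assoc]⟩
  · rintro ⟨h, hh⟩
    let η : ∀ i j, (ComplexShape.up ℤ).Rel j i →
        (E.X i ⟶ ((CochainComplex.singleFunctor (ModuleCat.{u} A) q).obj M).X j) := fun i j hij =>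
      if hj : j = q then (E.XIsoOfEq (show i = q + 1 by
        have : j + 1 = i := hij
        omega)).hom ≫ h ≫ (HomologicalComplex.singleObjXIsoOfEq (ComplexShape.up ℤ) q M j hj).inv
      else 0
    have hφη : φ = Homotopy.nullHomotopicMap' η := HomologicalComplex.to_single_hom_ext (by
      rw [Homotopy.nullHomotopicMap'_f (show (ComplexShape.up ℤ).Rel (q - 1) q by simp)
        (show (ComplexShape.up ℤ).Rel q (q + 1) from rfl)]
      simp only [η, dif_pos, dif_neg (show ¬ q - 1 = q by omega), zero_comp, add_zero, HomologicalComplex.XIsoOfEq_rfl,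
        Iso.refl_hom, Category.id_comp]
      rw [reassoc_of% hh]
      simp [HomologicalComplex.singleObjXSelf])
    rw [DerivedCategory.Q_map_eq_of_homotopy (C := ModuleCat.{u} A)
      (Homotopy.ofEq hφη |>.trans (Homotopy.nullHomotopy' η)), Functor.map_zero]

variable {J : Type u} [SmallCategory J] [IsFiltered J] {F : J ⥤ ModuleCat.{u} A} {c : Cocone F}

theorem exists_kill_finset (hc : IsColimit c) {j : J} (s : Finset (F.obj j)) :
    (∀ y ∈ s, (c.ι.app j).hom y = 0) → ∃ (k : J) (f : j ⟶ k), ∀ y ∈ s, (F.map f).hom y = 0 := by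
  classical
  induction s using Finset.induction with
  | empty => exact fun _ => ⟨j, 𝟙 j, by simp⟩
  | insert y s _ ih =>
    intro hy
    obtain ⟨k, f, hf⟩ := ih fun z hz => hy z (Finset.mem_insert_of_mem hz)
    obtain ⟨l, g, g', hg⟩ := Concrete.isColimit_exists_of_rep_eq F hc y (0 : F.obj j)
      (show (c.ι.app j).hom y = (c.ι.app j).hom 0 by rw [hy y (Finset.mem_insert_self y s), map_zero])
    let e := IsFiltered.coeq (g ≫ IsFiltered.leftToMax l k) (f ≫ IsFiltered.rightToMax l k)
    let w := IsFiltered.coeqHom (g ≫ IsFiltered.leftToMax l k) (f ≫ IsFiltered.rightToMax l k)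
    refine ⟨e, (g ≫ IsFiltered.leftToMax l k) ≫ w, fun z hz => ?_⟩
    have hg' : (F.map g).hom y = 0 := by
      change (F.map g).hom y = (F.map g').hom 0 at hg
      rw [hg, map_zero]
    rcases Finset.mem_insert.1 hz with rfl | hz
    · rw [Functor.map_comp, Functor.map_comp, ModuleCat.hom_comp, ModuleCat.hom_comp, LinearMap.comp_apply,
        LinearMap.comp_apply, hg', map_zero, map_zero]
    · rw [show (g ≫ IsFiltered.leftToMax l k) ≫ w = (f ≫ IsFiltered.rightToMax l k) ≫ w from
          IsFiltered.coeq_condition _ _, Functor.map_comp, Functor.map_comp, ModuleCat.hom_comp, ModuleCat.hom_comp,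
        LinearMap.comp_apply, LinearMap.comp_apply, hf z hz, map_zero, map_zero]

theorem exists_kill (hc : IsColimit c) {X : ModuleCat.{u} A} [Module.Finite A X] {j : J} (g : X ⟶ F.obj j)
    (hg : g ≫ c.ι.app j = 0) : ∃ (k : J) (f : j ⟶ k), g ≫ F.map f = 0 := by
  classical
  obtain ⟨s, hs⟩ := (Module.Finite.fg_top : (⊤ : Submodule A X).FG)
  obtain ⟨k, f, hf⟩ := exists_kill_finset hc (s.image g.hom) (fun y hy => by
    obtain ⟨x, -, rfl⟩ := Finset.mem_image.1 hy
    exact congrArg (fun φ => φ.hom x) hg)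
  refine ⟨k, f, ModuleCat.hom_ext (LinearMap.ext_on hs fun x hx => ?_)⟩
  exact hf _ (Finset.mem_image_of_mem _ hx)

theorem exists_lift_colim (hc : IsColimit c) {X : ModuleCat.{u} A} [Module.Finite A X] [Module.Free A X]
    (g : X ⟶ c.pt) : ∃ (j : J) (g' : X ⟶ F.obj j), g' ≫ c.ι.app j = g := by
  classical
  rcases subsingleton_or_nontrivial A with hA | hA
  · obtain ⟨j⟩ : Nonempty J := IsFiltered.nonempty
    haveI := Module.subsingleton A X
    exact ⟨j, 0, ModuleCat.hom_ext (LinearMap.ext fun x => by rw [Subsingleton.elim x 0, map_zero, map_zero])⟩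
  let b := Module.Free.chooseBasis A X
  choose ji yi hyi using fun i => Concrete.isColimit_exists_rep F hc (g.hom (b i))
  obtain ⟨S, hS⟩ := IsFiltered.sup_objs_exists (Finset.univ.image ji)
  let fi := fun i => (hS (Finset.mem_image_of_mem ji (Finset.mem_univ i))).some
  refine ⟨S, ModuleCat.ofHom (b.constr A fun i => (F.map (fi i)).hom (yi i)), ModuleCat.hom_ext (b.ext fun i => ?_)⟩
  show (c.ι.app S).hom (b.constr A (fun i => (F.map (fi i)).hom (yi i)) (b i)) = g.hom (b i)
  rw [Module.Basis.constr_basis, ← hyi i, ← LinearMap.comp_apply, ← ModuleCat.hom_comp, c.w]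
  rfl

/-- Maps of approximations into shifted modules in high degrees agree with maps of the object. -/
theorem precomp_injective_of_mIso {K E : Dual.D A} {m n : ℤ} {α : E ⟶ K} (hα : MIso m α) (hn : n ≤ -m)
    {M : ModuleCat.{u} A} (x : K ⟶ (shiftFunctor (Dual.D A) n).obj (Dual.inD A M)) (hx : α ≫ x = 0) : x = 0 := by
  obtain ⟨D, g, k, hT, hD⟩ := hα
  obtain ⟨y, hy⟩ := Triangle.yoneda_exact₂ _ hT x hx
  haveI : (stdT A).IsGE ((shiftFunctor (Dual.D A) n).obj (Dual.inD A M)) (-n) := by
    simpa using isGE_shift_inD (-n) M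
  haveI : (stdT A).IsLE (Triangle.mk α g k).obj₃ (m - 1) := isLE_of_aboveZero hD
  rw [hy, (stdT A).zero y (m - 1) (-n) (by omega)]
  exact comp_zero

theorem precomp_surjective_of_mIso {K E : Dual.D A} {m n : ℤ} {α : E ⟶ K} (hα : MIso m α) (hn : n < -m)
    {M : ModuleCat.{u} A} (y : E ⟶ (shiftFunctor (Dual.D A) n).obj (Dual.inD A M)) : ∃ x, α ≫ x = y := by
  obtain ⟨D, g, k, hT, hD⟩ := hα
  let T := (Triangle.mk α g k).invRotate
  haveI : (stdT A).IsGE ((shiftFunctor (Dual.D A) n).obj (Dual.inD A M)) (-n) := by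
    simpa using isGE_shift_inD (-n) M
  haveI : (stdT A).IsLE D (m - 1) := isLE_of_aboveZero hD
  haveI : (stdT A).IsLE T.obj₁ m := (stdT A).isLE_shift D (m - 1) (-1) m (by omega)
  obtain ⟨x, hx⟩ := Triangle.yoneda_exact₂ T (inv_rot_of_distTriang _ hT) y
    ((stdT A).zero _ m (-n) (by omega))
  exact ⟨x, hx.symm⟩

/-- Maps out of a pseudo-coherent object commute with filtered colimits of modules. -/
theorem hom_colim_comparison (hc : IsColimit c) {m : ℤ} {K : Dual.D A} (hK : DRing.IsPseudoCoherent A m K) :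
    (∀ n : ℤ, n < -m → ∀ x : K ⟶ (shiftFunctor (Dual.D A) n).obj (Dual.inD A c.pt),
      ∃ (j : J) (y : K ⟶ (shiftFunctor (Dual.D A) n).obj (Dual.inD A (F.obj j))),
        y ≫ (shiftFunctor (Dual.D A) n).map
          ((DerivedCategory.singleFunctor (ModuleCat.{u} A) 0).map (c.ι.app j)) = x) ∧
    (∀ n : ℤ, n ≤ -m → ∀ (j : J) (y : K ⟶ (shiftFunctor (Dual.D A) n).obj (Dual.inD A (F.obj j))),
      y ≫ (shiftFunctor (Dual.D A) n).map
          ((DerivedCategory.singleFunctor (ModuleCat.{u} A) 0).map (c.ι.app j)) = 0 →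
      ∃ (j' : J) (f : j ⟶ j'), y ≫ (shiftFunctor (Dual.D A) n).map
          ((DerivedCategory.singleFunctor (ModuleCat.{u} A) 0).map (F.map f)) = 0) := by
  obtain ⟨E, a, b, α, hE, hEf, hα⟩ := hK
  have hm : MIso m α := (mIso_iff m α).2 hα
  haveI : CochainComplex.IsKProjective E := isKProjective_of_vanishesAbove (b := b) (fun i hi => hE i (Or.inr hi))
    fun i => by
      haveI := (hEf i).2
      infer_instance
  constructor
  · intro n hn x
    obtain ⟨q, rfl⟩ : ∃ q, n = -q := ⟨-n, by omega⟩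
    obtain ⟨φ, hφ⟩ := exists_Q_map_eq q (α ≫ x)
    let g := φ.f q ≫ (HomologicalComplex.singleObjXSelf (ComplexShape.up ℤ) q c.pt).hom
    haveI := (hEf q).1
    haveI := (hEf q).2
    obtain ⟨j₀, g₀, hg₀⟩ := exists_lift_colim hc g
    haveI := (hEf (q - 1)).1
    obtain ⟨j, f, hf⟩ := exists_kill hc (E.d (q - 1) q ≫ g₀) (by
      rw [Category.assoc, hg₀]
      show E.d (q - 1) q ≫ φ.f q ≫ _ = 0
      rw [← φ.comm_assoc]
      show φ.f (q - 1) ≫ ((HomologicalComplex.single (ModuleCat.{u} A) (ComplexShape.up ℤ) q).obj c.pt).d (q - 1) q ≫ _ = 0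
      simp)
    let ψ : E ⟶ (CochainComplex.singleFunctor (ModuleCat.{u} A) q).obj (F.obj j) :=
      HomologicalComplex.mkHomToSingle (g₀ ≫ F.map f) fun i hi => by
        obtain rfl : i = q - 1 := by
          have : i + 1 = q := hi
          omega
        rw [← Category.assoc]
        exact hf
    obtain ⟨y, hy⟩ := precomp_surjective_of_mIso hm hn (DerivedCategory.Q.map ψ ≫ (sngIso q (F.obj j)).hom)
    refine ⟨j, y, sub_eq_zero.1 (precomp_injective_of_mIso hm hn.le _ ?_)⟩
    rw [Preadditive.comp_sub, reassoc_of% hy, ← sngIso_natural, ← DerivedCategory.Q.map_comp_assoc, sub_eq_zero, ← hφ]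
    congr 2
    refine HomologicalComplex.to_single_hom_ext ?_
    rw [HomologicalComplex.comp_f, HomologicalComplex.mkHomToSingle_f]
    show _ ≫ ((HomologicalComplex.single (ModuleCat.{u} A) (ComplexShape.up ℤ) q).map (c.ι.app j)).f q = _
    rw [HomologicalComplex.single_map_f_self, Category.assoc, Category.assoc, Iso.inv_hom_id_assoc, c.w_assoc,
      reassoc_of% hg₀]
    simp [g]
  · intro n hn j y hy
    obtain ⟨q, rfl⟩ : ∃ q, n = -q := ⟨-n, by omega⟩
    obtain ⟨φ, hφ⟩ := exists_Q_map_eq q (α ≫ y)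
    obtain ⟨g, hgdef⟩ : ∃ g : E.X q ⟶ F.obj j,
        g = φ.f q ≫ (HomologicalComplex.singleObjXSelf (ComplexShape.up ℤ) q (F.obj j)).hom := ⟨_, rfl⟩
    have h0 : DerivedCategory.Q.map (φ ≫ (CochainComplex.singleFunctor (ModuleCat.{u} A) q).map (c.ι.app j)) = 0 := by
      refine (cancel_mono (sngIso q c.pt).hom).1 ?_
      rw [DerivedCategory.Q.map_comp, Category.assoc]
      erw [sngIso_natural]
      rw [reassoc_of% hφ, hy, comp_zero, zero_comp]
    obtain ⟨h, hh⟩ := (Q_map_eq_zero_iff _).1 h0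
    have hh' : E.d q (q + 1) ≫ h = g ≫ c.ι.app j := by
      rw [hh, HomologicalComplex.comp_f]
      show (_ ≫ ((HomologicalComplex.single (ModuleCat.{u} A) (ComplexShape.up ℤ) q).map (c.ι.app j)).f q) ≫ _ = _
      rw [HomologicalComplex.single_map_f_self]
      simp [hgdef]
    haveI := (hEf (q + 1)).1
    haveI := (hEf (q + 1)).2
    haveI := (hEf q).1
    obtain ⟨k, h₀, hh₀⟩ := exists_lift_colim hc h
    let e := IsFiltered.max j k
    obtain ⟨j', f, hf⟩ := exists_kill hc
      (g ≫ F.map (IsFiltered.leftToMax j k) - E.d q (q + 1) ≫ h₀ ≫ F.map (IsFiltered.rightToMax j k)) (by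
        rw [Preadditive.sub_comp, Category.assoc, Category.assoc, Category.assoc, c.w, c.w, hh₀, hh', sub_self])
    refine ⟨j', IsFiltered.leftToMax j k ≫ f, precomp_injective_of_mIso hm hn _ ?_⟩
    rw [← reassoc_of% hφ, ← sngIso_natural, ← DerivedCategory.Q.map_comp_assoc]
    refine Eq.trans (congrArg (· ≫ _) ((Q_map_eq_zero_iff _).2 ⟨h₀ ≫ F.map (IsFiltered.rightToMax j k ≫ f), ?_⟩)) zero_comp
    rw [Preadditive.sub_comp, sub_eq_zero] at hf
    show _ = (_ ≫ ((HomologicalComplex.single (ModuleCat.{u} A) (ComplexShape.up ℤ) q).map _).f q) ≫ _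
    rw [HomologicalComplex.single_map_f_self]
    simp only [Category.assoc, Iso.inv_hom_id, Category.comp_id, Functor.map_comp]
    simp only [hgdef, Category.assoc] at hf
    exact hf.symm

end Groth.Agent.DRingLib
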