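import Groth.Agent.DRingLib.Complex
import Groth.Prelude.Def_DRing4

/-!
# Hom complexes out of K-projective complexes
-/

set_option autoImplicit false
set_option linter.style.haveILetI false

universe u

open CategoryTheory Limits CochainComplex CochainComplex.HomComplex
attribute [local instance] HasDerivedCategory.standard

noncomputable section

namespace Groth.Agent.DRingLib

variable {A : Type u} [CommRing A]

/-- Quasi-isomorphisms detected on cycles and boundaries. -/
theorem quasiIso_of_elements {X Y : DRing.Cx A} (φ : X ⟶ Y)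
    (inj : ∀ (n : ℤ) (x : X.X n), (X.d n (n + 1)).hom x = 0 →
      (∃ w, (Y.d (n - 1) n).hom w = (φ.f n).hom x) → ∃ v, (X.d (n - 1) n).hom v = x)
    (surj : ∀ (n : ℤ) (y : Y.X n), (Y.d n (n + 1)).hom y = 0 →
      ∃ x w, (X.d n (n + 1)).hom x = 0 ∧ (φ.f n).hom x = y + (Y.d (n - 1) n).hom w) : QuasiIso φ := by
  have hπ : ∀ (Z : DRing.Cx A) (n : ℤ) (c : Z.cycles n),
      (Z.homologyπ n).hom c = 0 ↔ ∃ w, (Z.toCycles (n - 1) n).hom w = c := by
    intro Z n c
    have hex : (ShortComplex.mk (Z.toCycles (n - 1) n) (Z.homologyπ n) (by simp)).Exact :=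
      ShortComplex.exact_of_g_is_cokernel _ (Z.homologyIsCokernel (n - 1) n (by simp))
    exact ((ShortComplex.ShortExact.moduleCat_exact_iff_function_exact _).1 hex) c
  have hsurjπ : ∀ (Z : DRing.Cx A) (n : ℤ), Function.Surjective (Z.homologyπ n).hom := fun Z n =>
    (ModuleCat.epi_iff_surjective _).1 inferInstance
  have hmono : ∀ (Z : DRing.Cx A) (n : ℤ), Function.Injective (Z.iCycles n).hom := fun Z n =>
    (ModuleCat.mono_iff_injective _).1 inferInstance
  have hlift : ∀ (Z : DRing.Cx A) (n : ℤ) (x : Z.X n), (Z.d n (n + 1)).hom x = 0 →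
      ∃ c : Z.cycles n, (Z.iCycles n).hom c = x := by
    intro Z n x hx
    have hex : (ShortComplex.mk (Z.iCycles n) (Z.d n (n + 1)) (by simp)).Exact :=
      ShortComplex.exact_of_f_is_kernel _ (Z.cyclesIsKernel n (n + 1) (by simp))
    exact (((ShortComplex.ShortExact.moduleCat_exact_iff_function_exact _).1 hex) x).1 hx
  refine ⟨fun n => (quasiIsoAt_iff_isIso_homologyMap φ n).2 ((ConcreteCategory.isIso_iff_bijective _).2
    ⟨?_, ?_⟩)⟩
  · refine (injective_iff_map_eq_zero (HomologicalComplex.homologyMap φ n).hom).2 fun a ha => ?_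
    obtain ⟨c, rfl⟩ := hsurjπ X n a
    rw [← LinearMap.comp_apply, ← ModuleCat.hom_comp, HomologicalComplex.homologyπ_naturality,
      ModuleCat.hom_comp, LinearMap.comp_apply] at ha
    obtain ⟨w, hw⟩ := (hπ Y n _).1 ha
    obtain ⟨v, hv⟩ := inj n ((X.iCycles n).hom c) (by
      rw [← LinearMap.comp_apply, ← ModuleCat.hom_comp, HomologicalComplex.iCycles_d]; rfl) ⟨w, by
        have h1 := congrArg (Y.iCycles n).hom hw
        rwa [← LinearMap.comp_apply, ← ModuleCat.hom_comp, HomologicalComplex.toCycles_i,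
          ← LinearMap.comp_apply, ← ModuleCat.hom_comp, HomologicalComplex.cyclesMap_i,
          ModuleCat.hom_comp, LinearMap.comp_apply] at h1⟩
    refine (hπ X n c).2 ⟨v, hmono X n ?_⟩
    rw [← LinearMap.comp_apply, ← ModuleCat.hom_comp, HomologicalComplex.toCycles_i]
    exact hv
  · intro b
    obtain ⟨c, rfl⟩ := hsurjπ Y n b
    obtain ⟨x, w, hx, he⟩ := surj n ((Y.iCycles n).hom c) (by
      rw [← LinearMap.comp_apply, ← ModuleCat.hom_comp, HomologicalComplex.iCycles_d]; rfl)
    obtain ⟨cx, rfl⟩ := hlift X n x hx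
    refine ⟨(X.homologyπ n).hom cx, ?_⟩
    show (HomologicalComplex.homologyMap φ n).hom ((X.homologyπ n).hom cx) = _
    rw [← LinearMap.comp_apply, ← ModuleCat.hom_comp, HomologicalComplex.homologyπ_naturality,
      ModuleCat.hom_comp, LinearMap.comp_apply, ← sub_eq_zero, ← map_sub]
    refine (hπ Y n _).2 ⟨w, hmono Y n ?_⟩
    rw [map_sub, ← LinearMap.comp_apply, ← ModuleCat.hom_comp, HomologicalComplex.toCycles_i,
      ← LinearMap.comp_apply, ← ModuleCat.hom_comp, HomologicalComplex.cyclesMap_i,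
      ModuleCat.hom_comp, LinearMap.comp_apply, he, add_sub_cancel_left]

theorem isIso_Q_of_qis {K L : DRing.Cx A} (f : K ⟶ L) (hf : QuasiIso f) :
    IsIso (DerivedCategory.Q.map f) :=
  Localization.inverts DerivedCategory.Q (HomologicalComplex.quasiIso (ModuleCat.{u} A) (ComplexShape.up ℤ)) _
    ((HomologicalComplex.mem_quasiIso_iff _).2 hf)

theorem quasiIso_homCxMap (P : DRing.Cx A) [P.IsKProjective] {L L' : DRing.Cx A} (f : L ⟶ L')
    (hf : QuasiIso f) : QuasiIso (DRing.homCxMap P f) := by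
  haveI := hf
  have hiso : ∀ n : ℤ, IsIso (DerivedCategory.Q.map ((CategoryTheory.shiftFunctor (DRing.Cx A) n).map f)) := fun n => by
    have := isIso_Q_of_qis f hf
    exact (NatIso.isIso_map_iff (DerivedCategory.Q.commShiftIso n) f).2
      ((CategoryTheory.shiftFunctor (DerivedCategory (ModuleCat.{u} A)) n).map_isIso (DerivedCategory.Q.map f))
  refine quasiIso_of_elements _ (fun n x hx hw => ?_) (fun n y hy => ?_)
  · obtain ⟨w, hw⟩ := hw
    let z : Cocycle P L n := Cocycle.mk (x : Cochain P L n) (n + 1) rfl hx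
    let g : P ⟶ L⟦n⟧ := Cocycle.equivHomShift.symm z
    have hzero : (HomotopyCategory.quotient _ _).map (g ≫ f⟦n⟧') = 0 := by
      rw [show g ≫ f⟦n⟧' = Cocycle.equivHomShift.symm (z.postcomp f) from
        (Cocycle.equivHomShift_symm_postcomp z f).symm, ← CohomologyClass.toHom_mk,
        CohomologyClass.toHom_mk_eq_zero_iff]
      exact ⟨n - 1, by omega, w, hw⟩
    have hQ : DerivedCategory.Q.map g = 0 := by
      haveI := hiso n
      obtain ⟨H⟩ := (HomotopyCategory.quotient_map_eq_zero_iff _).1 hzero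
      have := DerivedCategory.Q_map_eq_of_homotopy (C := ModuleCat.{u} A) H
      rw [Functor.map_comp, Functor.map_zero] at this
      rwa [← cancel_mono (DerivedCategory.Q.map (f⟦n⟧')), zero_comp]
    obtain ⟨H⟩ := homotopic_zero P g hQ
    have h0 : CohomologyClass.toHom (CohomologyClass.mk z) = 0 := by
      rw [CohomologyClass.toHom_mk]
      exact (HomotopyCategory.quotient_map_eq_zero_iff _).2 ⟨H⟩
    obtain ⟨m, hm, β, hβ⟩ := (CohomologyClass.toHom_mk_eq_zero_iff z).1 h0
    obtain rfl : m = n - 1 := by omega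
    exact ⟨β, hβ⟩
  · let z : Cocycle P L' n := Cocycle.mk (y : Cochain P L' n) (n + 1) rfl hy
    haveI := hiso n
    obtain ⟨g, hg⟩ := Q_map_surjective P (L⟦n⟧)
      (DerivedCategory.Q.map (Cocycle.equivHomShift.symm z) ≫ inv (DerivedCategory.Q.map (f⟦n⟧')))
    let x : Cocycle P L n := Cocycle.equivHomShift g
    have hQ : DerivedCategory.Q.map (Cocycle.equivHomShift.symm (x.postcomp f - z)) = 0 := by
      rw [map_sub, Cocycle.equivHomShift_symm_postcomp, AddEquiv.symm_apply_apply, Functor.map_sub,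
        Functor.map_comp, hg, Category.assoc, IsIso.inv_hom_id, Category.comp_id, sub_self]
    obtain ⟨H⟩ := homotopic_zero P _ hQ
    have h0 : CohomologyClass.toHom (CohomologyClass.mk (x.postcomp f - z)) = 0 := by
      rw [CohomologyClass.toHom_mk]
      exact (HomotopyCategory.quotient_map_eq_zero_iff _).2 ⟨H⟩
    obtain ⟨m, hm, β, hβ⟩ := (CohomologyClass.toHom_mk_eq_zero_iff _).1 h0
    obtain rfl : m = n - 1 := by omega
    refine ⟨(x : Cochain P L n), β, x.δ_eq_zero (n + 1), ?_⟩
    exact eq_add_of_sub_eq' (show ((x.postcomp f - z : Cocycle P L' n) : Cochain P L' n) = δ (n - 1) n β from hβ.symm)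

theorem nonempty_RHomCx_iso (P : DRing.Cx A) [P.IsKProjective] [DRing.HasRHomCx P] (L : DRing.Cx A) :
    Nonempty ((DRing.RHomCx P).obj (DRing.toD L) ≅ DRing.toD (DRing.homCx P L)) := by
  have hF : (HomologicalComplex.quasiIso (ModuleCat.{u} A) (ComplexShape.up ℤ)).IsInvertedBy (DRing.homCxQ P) :=
    fun K K' f hf => isIso_Q_of_qis _ (quasiIso_homCxMap P f ((HomologicalComplex.mem_quasiIso_iff _).1 hf))
  haveI := Functor.isIso_of_isRightDerivedFunctor_of_inverts
    (DRing.RHomCx P) ((DRing.homCxQ P).totalRightDerivedUnit DerivedCategory.Q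
      (HomologicalComplex.quasiIso (ModuleCat.{u} A) (ComplexShape.up ℤ))) hF
  exact ⟨(asIso ((DRing.homCxQ P).totalRightDerivedUnit DerivedCategory.Q
    (HomologicalComplex.quasiIso (ModuleCat.{u} A) (ComplexShape.up ℤ))) |>.app L).symm⟩

end Groth.Agent.DRingLib
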