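import Groth.Prelude.Def_DRing4

/-!
# The Hom-tensor adjunction on complexes
-/

set_option autoImplicit false
set_option linter.style.haveILetI false
set_option backward.isDefEq.respectTransparency false

universe u

open CategoryTheory Limits MonoidalCategory CochainComplex CochainComplex.HomComplex HomologicalComplex

noncomputable section

namespace Groth.Agent.DRingLib

variable {A : Type u} [CommRing A] {K L M : DRing.Cx A}

/-- The inclusion of a summand, as a bilinear map. -/
def ιBil (K L : DRing.Cx A) (p q r : ℤ) (h : p + q = r) : K.X p →ₗ[A] L.X q →ₗ[A] (K ⊗ L : DRing.Cx A).X r :=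
  (TensorProduct.mk A (K.X p) (L.X q)).compr₂ (ιTensorObj K L p q r h).hom

/-- The component of a cochain into a Hom complex, as a bilinear map. -/
def compBil {n : ℤ} (z : Cochain K (DRing.homCx L M) n) (p t q s : ℤ) (ht : p + n = t) (hs : q + t = s) :
    K.X p →ₗ[A] L.X q →ₗ[A] M.X s :=
  LinearMap.comp
    ({ toFun := fun (w : Cochain L M t) => (w.v q s hs).hom
       map_add' := fun w w' => by simp
       map_smul' := fun a w => by simp } : Cochain L M t →ₗ[A] (L.X q →ₗ[A] M.X s))
    (z.v p t ht).hom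

theorem compBil_apply {n : ℤ} (z : Cochain K (DRing.homCx L M) n) (p t q s : ℤ) (ht : p + n = t)
    (hs : q + t = s) (x : K.X p) (y : L.X q) :
    compBil z p t q s ht hs x y = (((z.v p t ht).hom x : Cochain L M t).v q s hs).hom y := rfl

/-- From the Hom complex of the tensor product. -/
def homTensorTo (n : ℤ) (z : Cochain K (DRing.homCx L M) n) : Cochain (K ⊗ L : DRing.Cx A) M n :=
  Cochain.mk fun r s hrs => mapBifunctorDesc fun p q h =>
    ModuleCat.ofHom (TensorProduct.lift (compBil z p (p + n) q s rfl (by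
      have h' : p + q = r := h
      omega)))

theorem homTensorTo_ι {n : ℤ} (z : Cochain K (DRing.homCx L M) n) (p q r s t : ℤ) (h : p + q = r)
    (ht : p + n = t) (hrs : r + n = s) (x : K.X p) (y : L.X q) :
    ((homTensorTo n z).v r s hrs).hom (ιBil K L p q r h x y) =
      (((z.v p t ht).hom x : Cochain L M t).v q s (by omega)).hom y := by
  subst ht
  have h1 : ιTensorObj K L p q r h ≫ (homTensorTo n z).v r s hrs =
      ModuleCat.ofHom (TensorProduct.lift (compBil z p (p + n) q s rfl (by omega))) := by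
    unfold homTensorTo
    rw [Cochain.mk_v]
    exact HomologicalComplex.ι_mapBifunctorDesc (K₁ := K) (K₂ := L) (F := curriedTensor (ModuleCat.{u} A)) _ p q h
  exact congrArg (fun f => f.hom (x ⊗ₜ[A] y)) h1

theorem cochain_ext_tensor {n : ℤ} {Z Z' : Cochain (K ⊗ L : DRing.Cx A) M n}
    (h : ∀ (p q r s : ℤ) (hr : p + q = r) (hs : r + n = s) (x : K.X p) (y : L.X q),
      (Z.v r s hs).hom (ιBil K L p q r hr x y) = (Z'.v r s hs).hom (ιBil K L p q r hr x y)) : Z = Z' := by
  refine Cochain.ext _ _ fun r s hs => mapBifunctor.hom_ext fun p q hr => ModuleCat.hom_ext ?_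
  exact TensorProduct.ext' fun x y => h p q r s hr hs x y

theorem cochain_ext_hom {n : ℤ} {z z' : Cochain K (DRing.homCx L M) n}
    (h : ∀ (p t q s : ℤ) (ht : p + n = t) (hs : q + t = s) (x : K.X p) (y : L.X q),
      (((z.v p t ht).hom x : Cochain L M t).v q s hs).hom y =
        (((z'.v p t ht).hom x : Cochain L M t).v q s hs).hom y) : z = z' := by
  refine Cochain.ext _ _ fun p t ht => ModuleCat.hom_ext (LinearMap.ext fun x => ?_)
  refine Cochain.ext _ _ fun q s hs => ModuleCat.hom_ext (LinearMap.ext fun y => ?_)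
  exact h p t q s ht hs x y

/-- The Hom-tensor adjunction on cochains. -/
def homTensorEquiv (n : ℤ) : Cochain K (DRing.homCx L M) n ≃ₗ[A] Cochain (K ⊗ L : DRing.Cx A) M n where
  toFun := homTensorTo n
  map_add' z z' := cochain_ext_tensor fun p q r s hr hs x y => by
    rw [Cochain.add_v, ModuleCat.hom_add, LinearMap.add_apply, homTensorTo_ι _ p q r s _ hr rfl,
      homTensorTo_ι _ p q r s _ hr rfl, homTensorTo_ι _ p q r s _ hr rfl]
    simp
    rfl
  map_smul' a z := cochain_ext_tensor fun p q r s hr hs x y => by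
    rw [Cochain.smul_v, RingHom.id_apply, ModuleCat.hom_smul, LinearMap.smul_apply,
      homTensorTo_ι _ p q r s _ hr rfl, homTensorTo_ι _ p q r s _ hr rfl]
    simp
    rfl
  invFun Z := Cochain.mk fun p t ht => ModuleCat.ofHom
    { toFun := fun x => (Cochain.mk fun q s hs =>
        ModuleCat.ofHom ((Z.v (p + q) s (by omega)).hom ∘ₗ ιBil K L p q (p + q) rfl x) : Cochain L M t)
      map_add' := fun x x' => Cochain.ext _ _ fun q s hs => by ext y; simp
      map_smul' := fun a x => Cochain.ext _ _ fun q s hs => by ext y; simp }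
  left_inv z := cochain_ext_hom fun p t q s ht hs x y =>
    homTensorTo_ι z p q (p + q) s t rfl ht (by omega) x y
  right_inv Z := cochain_ext_tensor fun p q r s hr hs x y => by
    subst hr
    exact (homTensorTo_ι _ p q (p + q) s (p + n) rfl rfl hs x y).trans rfl

theorem tensor_d_ιBil (p q r : ℤ) (h : p + q = r) (x : K.X p) (y : L.X q) :
    ((K ⊗ L : DRing.Cx A).d r (r + 1)).hom (ιBil K L p q r h x y) =
      ιBil K L (p + 1) q (r + 1) (by omega) ((K.d p (p + 1)).hom x) y +
        ((p.negOnePow : ℤˣ) : ℤ) • ιBil K L p (q + 1) (r + 1) (by omega) x ((L.d q (q + 1)).hom y) := by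
  have hp : (p + 1) + q = r + 1 := by omega
  have hq : p + (q + 1) = r + 1 := by omega
  have h1 : ιTensorObj K L p q r h ≫ (HomologicalComplex.tensorObj K L).d r (r + 1) =
      (K.d p (p + 1) ▷ L.X q) ≫ ιTensorObj K L (p + 1) q (r + 1) hp +
        ((p.negOnePow : ℤˣ) : ℤ) • ((K.X p ◁ L.d q (q + 1)) ≫ ιTensorObj K L p (q + 1) (r + 1) hq) := by
    rw [mapBifunctor.d_eq, Preadditive.comp_add, mapBifunctor.ι_D₁, mapBifunctor.ι_D₂,
      mapBifunctor.d₁_eq K L (curriedTensor (ModuleCat.{u} A)) (ComplexShape.up ℤ) (i₁' := p + 1) rfl q (r + 1) hp,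
      mapBifunctor.d₂_eq K L (curriedTensor (ModuleCat.{u} A)) (ComplexShape.up ℤ) p (i₂' := q + 1) rfl (r + 1) hq]
    rw [show ComplexShape.ε₁ (ComplexShape.up ℤ) (ComplexShape.up ℤ) (ComplexShape.up ℤ) (p, q) = 1 from rfl,
      show ComplexShape.ε₂ (ComplexShape.up ℤ) (ComplexShape.up ℤ) (ComplexShape.up ℤ) (p, q) = p.negOnePow from rfl,
      one_smul, Units.smul_def]
    rfl
  exact congrArg (fun f => f.hom (x ⊗ₜ[A] y)) h1

theorem homTensorEquiv_δ (i j : ℤ) (hij : i + 1 = j) (z : Cochain K (DRing.homCx L M) i) :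
    δ i j (homTensorEquiv i z) = homTensorEquiv j (δ i j z) := by
  refine cochain_ext_tensor fun p q r s hr hs x y => ?_
  show ((δ i j (homTensorTo i z)).v r s hs).hom _ = ((homTensorTo j (δ i j z)).v r s hs).hom _
  rw [homTensorTo_ι (δ i j z) p q r s (p + j) hr rfl hs x y,
    δ_v i j hij _ r s hs (s - 1) (r + 1) rfl rfl, δ_v i j hij z p (p + j) rfl (p + i) (p + 1) (by omega) rfl]
  simp only [Units.smul_def, ModuleCat.hom_add, LinearMap.add_apply, ModuleCat.hom_comp, LinearMap.comp_apply,
    ModuleCat.hom_zsmul, LinearMap.smul_apply, Preadditive.zsmul_comp]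
  rw [homTensorTo_ι z p q r (s - 1) (p + i) hr rfl (by omega), tensor_d_ιBil p q r hr, map_add, map_zsmul,
    homTensorTo_ι z (p + 1) q (r + 1) s (p + j) (by omega) (by omega) (by omega),
    homTensorTo_ι z p (q + 1) (r + 1) s (p + i) (by omega) rfl (by omega)]
  show _ = (((δ (p + i) (p + j) ((z.v p (p + i) rfl).hom x : Cochain L M (p + i)) +
    ((j.negOnePow : ℤˣ) : ℤ) • (show Cochain L M (p + j) from (z.v (p + 1) (p + j) (by omega)).hom ((K.d p (p + 1)).hom x)) :
      Cochain L M (p + j))).v q s _).hom y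
  rw [Cochain.add_v, Cochain.smul_v, δ_v (p + i) (p + j) (by omega) _ q s (by omega) (s - 1) (q + 1) rfl rfl]
  simp only [Units.smul_def, ModuleCat.hom_add, LinearMap.add_apply, ModuleCat.hom_comp, LinearMap.comp_apply,
    ModuleCat.hom_zsmul, LinearMap.smul_apply, Preadditive.zsmul_comp, Int.negOnePow_add, Units.val_mul]
  have hp2 : ((i.negOnePow : ℤˣ) : ℤ) * 1 = ((i.negOnePow : ℤˣ) : ℤ) := mul_one _
  module

end Groth.Agent.DRingLib
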