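import Groth.Agent.DRingLib.DescentPC
import Mathlib.RingTheory.Filtration
import Mathlib.RingTheory.Flat.Tensor

/-!
# Tor amplitude modulo an ideal in the Jacobson radical
-/

set_option autoImplicit false
set_option linter.style.haveILetI false
set_option backward.isDefEq.respectTransparency false

universe u

open CategoryTheory Limits MonoidalCategory TensorProduct
attribute [local instance] HasDerivedCategory.standard

noncomputable section

namespace Groth.Agent.DRingLib

open Groth.Agent.DCohLib Groth.Agent.DTenLib CochainComplex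

variable {A : Type u} [CommRing A]

theorem flat_quotient_range_of_exact_cyclic {P₂ P₁ P₀ : Type u} [AddCommGroup P₂] [Module A P₂] [AddCommGroup P₁]
    [Module A P₁] [AddCommGroup P₀] [Module A P₀] [Module.Flat A P₀] (f : P₂ →ₗ[A] P₁) (g : P₁ →ₗ[A] P₀)
    (h₀ : Function.Exact (f.lTensor A) (g.lTensor A))
    (h : ∀ J : Ideal A, Function.Exact (f.lTensor (A ⧸ J)) (g.lTensor (A ⧸ J))) :
    Module.Flat A (P₀ ⧸ LinearMap.range g) := by
  refine Module.Flat.iff_rTensor_injective'.2 fun J => (injective_iff_map_eq_zero _).2 fun x hx => ?_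
  let φ : J →ₗ[A] A := J.subtype
  let π := (LinearMap.range g).mkQ
  have hex : Function.Exact g π := LinearMap.exact_map_mkQ_range g
  have hπ : Function.Surjective π := Submodule.mkQ_surjective _
  have hc : ∀ {Y Y' : Type u} [AddCommGroup Y] [Module A Y] [AddCommGroup Y'] [Module A Y']
      {X X' : Type u} [AddCommGroup X] [Module A X] [AddCommGroup X'] [Module A X']
      (a : X →ₗ[A] X') (b : Y →ₗ[A] Y') (t : X ⊗[A] Y),
      b.lTensor X' (a.rTensor Y t) = a.rTensor Y' (b.lTensor X t) := by
    intro Y Y' _ _ _ _ X X' _ _ _ _ a b t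
    rw [← LinearMap.comp_apply, ← LinearMap.comp_apply, LinearMap.lTensor_comp_rTensor,
      LinearMap.rTensor_comp_lTensor]
  obtain ⟨y, rfl⟩ := LinearMap.lTensor_surjective J hπ x
  rw [← hc] at hx
  obtain ⟨z', hz'⟩ := (lTensor_exact A hex hπ _).1 hx
  let q : A →ₗ[A] A ⧸ J := J.mkQ
  have hq : Function.Surjective q := Submodule.mkQ_surjective _
  have hexφ : Function.Exact φ q := LinearMap.exact_subtype_mkQ J
  have h1 : g.lTensor (A ⧸ J) (q.rTensor P₁ z') = 0 := by
    rw [hc, hz', ← LinearMap.rTensor_comp_apply, hexφ.linearMap_comp_eq_zero, LinearMap.rTensor_zero,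
      LinearMap.zero_apply]
  obtain ⟨w, hw⟩ := (h J _).1 h1
  obtain ⟨w', rfl⟩ := LinearMap.rTensor_surjective P₂ hq w
  rw [hc] at hw
  have h2 : q.rTensor P₁ (z' - f.lTensor A w') = 0 := by rw [map_sub, hw, sub_self]
  obtain ⟨z, hz⟩ := (rTensor_exact P₁ hexφ hq _).1 h2
  have h3 : g.lTensor J z = y := by
    apply Module.Flat.rTensor_preserves_injective_linearMap (M := P₀) φ Subtype.val_injective
    have hgf : ∀ t, g.lTensor A (f.lTensor A t) = 0 := fun t => (h₀ _).2 ⟨t, rfl⟩
    rw [← hc, hz, map_sub, hgf, sub_zero, hz']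
  rw [← h3, ← LinearMap.lTensor_comp_apply, hex.linearMap_comp_eq_zero, LinearMap.lTensor_zero,
    LinearMap.zero_apply]

variable [IsNoetherianRing A]

theorem exactAt_tensM_of_jacobson {B : Type u} [CommRing B] {φ : A →+* B} (hφ : Function.Surjective φ)
    (hI : RingHom.ker φ ≤ Ideal.jacobson (⊥ : Ideal A)) {P : DRing.Cx A} (hP : DRing.TermwiseFlat P)
    (hfin : ∀ n, Module.Finite A (P.X n)) {i : ℤ}
    (h : ∀ M : ModuleCat.{u} B, ((tensM M).obj ((DTen.extCx φ).obj P)).ExactAt i)
    (M : Type u) [AddCommGroup M] [Module A M] [Module.Finite A M] :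
    ((tensM (ModuleCat.of A M)).obj P).ExactAt i := by
  have key : ∀ (k : ℕ) (M : Type u) [AddCommGroup M] [Module A M],
      (∀ r ∈ RingHom.ker φ ^ k, ∀ m : M, r • m = 0) → ((tensM (ModuleCat.of A M)).obj P).ExactAt i := by
    intro k
    induction k with
    | zero =>
      intro M _ _ hM
      haveI : Subsingleton M := subsingleton_of_forall_eq 0 fun m => by
        simpa using hM 1 (by simp) m
      exact ShortComplex.exact_of_isZero_X₂ _
        (((tensorRight (P.X i)).map_isZero (ModuleCat.isZero_of_subsingleton (ModuleCat.of A M))))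
    | succ k ih =>
      intro M _ _ hM
      let N : Submodule A M := RingHom.ker φ • ⊤
      refine exactAt_tensM_of_submodule hP M N i (ih N (fun r hr x => ?_))
        (exactAt_tensM_of_killed φ hφ h _ (quotient_killed _ M))
      refine Subtype.ext ?_
      show r • (x : M) = 0
      refine Submodule.smul_induction_on x.2 (fun s hs m _ => ?_)
        (fun y z hy hz => by rw [smul_add, hy, hz, add_zero])
      rw [smul_smul]
      exact hM _ (by rw [pow_succ]; exact Ideal.mul_mem_mul hr hs) m
  rw [HomologicalComplex.exactAt_iff' _ (i - 1) i (i + 1) (by simp) (by simp),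
    ShortComplex.moduleCat_exact_iff]
  intro x₀ hx
  obtain ⟨x, rfl⟩ : ∃ x : M ⊗[A] P.X i, x = x₀ := ⟨x₀, rfl⟩
  change ((P.d i (i + 1)).hom.lTensor M) x = 0 at hx
  haveI := hfin i
  let D : M ⊗[A] P.X (i - 1) →ₗ[A] M ⊗[A] P.X i := (P.d (i - 1) i).hom.lTensor M
  let S := LinearMap.range D
  suffices hS : ∀ k : ℕ, Submodule.mkQ S x ∈ RingHom.ker φ ^ k • (⊤ : Submodule A ((M ⊗[A] P.X i) ⧸ S)) by
    have h0 : Submodule.mkQ S x ∈ (⨅ k : ℕ, RingHom.ker φ ^ k • (⊤ : Submodule A ((M ⊗[A] P.X i) ⧸ S))) :=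
      Submodule.mem_iInf _ |>.2 hS
    rw [Ideal.iInf_pow_smul_eq_bot_of_le_jacobson _ hI, Submodule.mem_bot] at h0
    exact (Submodule.Quotient.mk_eq_zero S).1 h0
  intro k
  let N : Submodule A M := RingHom.ker φ ^ k • ⊤
  have h' := key k (M ⧸ N) (quotient_killed _ M)
  rw [HomologicalComplex.exactAt_iff' _ (i - 1) i (i + 1) (by simp) (by simp),
    ShortComplex.moduleCat_exact_iff] at h'
  obtain ⟨y', hy'⟩ := h' (N.mkQ.rTensor (P.X i) x) (by
    show (P.d i (i + 1)).hom.lTensor (M ⧸ N) (N.mkQ.rTensor (P.X i) x) = 0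
    rw [← LinearMap.comp_apply, LinearMap.lTensor_comp_rTensor, ← LinearMap.rTensor_comp_lTensor,
      LinearMap.comp_apply, hx, map_zero])
  change (P.d (i - 1) i).hom.lTensor (M ⧸ N) y' = N.mkQ.rTensor (P.X i) x at hy'
  obtain ⟨y, rfl⟩ := LinearMap.rTensor_surjective (P.X (i - 1)) N.mkQ_surjective y'
  rw [← LinearMap.comp_apply, LinearMap.lTensor_comp_rTensor, ← LinearMap.rTensor_comp_lTensor,
    LinearMap.comp_apply] at hy'
  obtain ⟨t, ht⟩ := (rTensor_exact (P.X i) (LinearMap.exact_subtype_mkQ N) N.mkQ_surjective (x - D y)).1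
    (by rw [map_sub, hy', sub_self])
  have hmem : x - D y ∈ RingHom.ker φ ^ k • (⊤ : Submodule A (M ⊗[A] P.X i)) := by
    rw [← ht]
    clear ht
    induction t using TensorProduct.induction_on with
    | zero => simp
    | tmul n p =>
      show (n : M) ⊗ₜ[A] p ∈ _
      obtain ⟨n, hn⟩ := n
      show n ⊗ₜ[A] p ∈ _
      refine Submodule.smul_induction_on hn (fun r hr m _ => ?_) (fun a b ha hb => by
        rw [TensorProduct.add_tmul]; exact add_mem ha hb)
      rw [← TensorProduct.smul_tmul']
      exact Submodule.smul_mem_smul hr Submodule.mem_top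
    | add a b ha hb => rw [map_add]; exact add_mem ha hb
  have h1 := Submodule.mem_map_of_mem (f := S.mkQ) hmem
  rw [Submodule.map_smul'', Submodule.map_top, Submodule.range_mkQ] at h1
  rwa [map_sub, show S.mkQ (D y) = 0 from (Submodule.Quotient.mk_eq_zero S).2 ⟨y, rfl⟩, sub_zero] at h1

theorem amp_of_lbc_jacobson {B : Type u} [CommRing B] (φ : A →+* B) (hφ : Function.Surjective φ)
    (hI : RingHom.ker φ ≤ Ideal.jacobson (⊥ : Ideal A)) [DRing.HasLBaseChange φ] {K : Dual.D A}
    (hK : DRing.IsPseudoCoherent' A K) {a b : ℤ}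
    (h : DRing.HasTorAmplitudeIn B a b ((DRing.LBaseChange φ).obj K)) : DRing.HasTorAmplitudeIn A a b K := by
  obtain ⟨E, c, hc, hE, ⟨e⟩⟩ := hK
  have hEp : ∀ i, Module.Projective A (E.X i) := fun i => (fFree_imp_fProj (hE i)).2
  have hEf := isKFlat_of_projective hc hEp
  have hv := tensVanish_extCx φ hEf e h
  have hfinM : ∀ (M : Type u) [AddCommGroup M] [Module A M] [Module.Finite A M] (i : ℤ), (i < a ∨ b < i) →
      ((tensM (ModuleCat.of A M)).obj E).ExactAt i := fun M _ _ _ i hi =>
    exactAt_tensM_of_jacobson hφ hI (termwiseFlat_of_projective hEp) (fun n => (hE n).1)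
      (fun M' => hv M' i hi) M
  have hex : ∀ i, (i < a ∨ b < i) → E.ExactAt i := fun i hi => (hfinM A i hi).of_iso (tensUnitIso E)
  obtain ⟨N, hb, hN, ⟨e'⟩⟩ := exists_proj_representative (K := DRing.toD E) (n := b)
    fun i hi => (exactAt_iff_isZero_homologyFunctor E i).1 (hex i (Or.inr (by omega)))
  refine amp_of_iso (e' ≪≫ e) ?_
  have hNM : ∀ (M : Type u) [AddCommGroup M] [Module A M] [Module.Finite A M] (i : ℤ), (i < a ∨ b < i) →
      ((tensM (ModuleCat.of A M)).obj N).ExactAt i := fun M _ _ _ i hi => by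
    obtain ⟨e''⟩ := nonempty_tensM_iso hEf (isKFlat_of_projective hb hN) e'.symm (ModuleCat.of A M)
    exact exactAt_of_toD_iso e'' i (hfinM M i hi)
  rcases le_or_gt a (b + 1) with hab | hab
  · refine exists_truncated (Ψ := fun M => Module.Flat A M) (fun e hM => ?_) (fun hM => ?_) a b hab hb
      (fun i _ => termwiseFlat_of_projective hN i)
      (fun i hi => (hNM A i (Or.inl hi)).of_iso (tensUnitIso N)) ?_
    · haveI := hM
      exact Module.Flat.of_linearEquiv e.symm.toLinearEquiv
    · haveI := ModuleCat.subsingleton_of_isZero hM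
      exact inferInstance
    · haveI := termwiseFlat_of_projective hN a
      have hx : ∀ (M : Type u) [AddCommGroup M] [Module A M] [Module.Finite A M],
          Function.Exact ((N.d (a - 1 - 1) (a - 1)).hom.lTensor M) ((N.d (a - 1) a).hom.lTensor M) := by
        intro M _ _ _
        have h' := hNM M (a - 1) (Or.inl (by omega))
        rw [HomologicalComplex.exactAt_iff' _ (a - 1 - 1) (a - 1) a (by simp) (by simp),
          ShortComplex.ShortExact.moduleCat_exact_iff_function_exact] at h'
        exact h'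
      haveI := flat_quotient_range_of_exact_cyclic _ _ (hx A) (fun J => hx (A ⧸ J))
      obtain ⟨e⟩ := opcycles_equiv N a
      exact Module.Flat.of_linearEquiv e.symm
  · refine amp_of_isZero (isZero_of_isGE_of_aboveZero (n := b + 1)
      ((DerivedCategory.isGE_iff _ _).2 fun i _ => ?_) fun i _ => ?_) a b <;>
    exact (exactAt_iff_isZero_homologyFunctor N i).1 ((hNM A i (by omega)).of_iso (tensUnitIso N))

end Groth.Agent.DRingLib
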