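import Groth.Agent.DRingLib.Complex
import Groth.Agent.DRingLib.BaseChange
import Groth.Agent.DRingLib.Perfect
import Mathlib.LinearAlgebra.TensorProduct.Pi
import Mathlib.Algebra.Category.Ring.FilteredColimits

/-!
# Perfect complexes descend along filtered colimits of rings
-/

set_option autoImplicit false
set_option linter.style.haveILetI false
set_option backward.isDefEq.respectTransparency false

universe u

open CategoryTheory Limits

attribute [local instance] HasDerivedCategory.standard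

noncomputable section

namespace Groth.Agent.DRingLib

variable {A B : Type u} [CommRing A] [CommRing B] (φ : A →+* B)

/-- The standard free module. -/
abbrev ffMod (A : Type u) [CommRing A] (n : ℕ) : ModuleCat.{u} A := ModuleCat.of A (Fin n → A)

/-- The map of standard free modules with a given matrix. -/
abbrev matMor {n m : ℕ} (M : Matrix (Fin m) (Fin n) A) : ffMod A n ⟶ ffMod A m := ModuleCat.ofHom M.mulVecLin

theorem matMor_comp {n m k : ℕ} (M : Matrix (Fin m) (Fin n) A) (N : Matrix (Fin k) (Fin m) A) :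
    matMor M ≫ matMor N = matMor (N * M) :=
  ModuleCat.hom_ext (Matrix.mulVecLin_mul N M).symm

theorem matMor_injective {n m : ℕ} {M N : Matrix (Fin m) (Fin n) A} (h : matMor M = matMor N) : M = N := by
  refine Matrix.toLin'.injective ?_
  rw [Matrix.toLin'_apply', Matrix.toLin'_apply']
  exact congrArg ModuleCat.Hom.hom h

theorem exists_matMor {n m : ℕ} (f : ffMod A n ⟶ ffMod A m) : ∃ M, matMor M = f :=
  ⟨LinearMap.toMatrix' f.hom, ModuleCat.hom_ext ((Matrix.toLin'_apply' _).symm.trans (Matrix.toLin'_toMatrix' _))⟩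

/-- Extending scalars of a standard free module. -/
def extFF (n : ℕ) : (ModuleCat.extendScalars.{u, u, u} φ).obj (ffMod A n) ≅ ffMod B n :=
  letI := φ.toAlgebra
  LinearEquiv.toModuleIso (TensorProduct.piScalarRight A B B (Fin n))

theorem extFF_natural {n m : ℕ} (M : Matrix (Fin m) (Fin n) A) :
    (ModuleCat.extendScalars.{u, u, u} φ).map (matMor M) ≫ (extFF φ m).hom =
      (extFF φ n).hom ≫ matMor (M.map φ) := by
  letI := φ.toAlgebra
  refine ModuleCat.ExtendScalars.hom_ext fun v => funext fun k => ?_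
  show TensorProduct.piScalarRight A B B (Fin m) (1 ⊗ₜ M.mulVec v) k =
    (M.map φ).mulVec (TensorProduct.piScalarRight A B B (Fin n) (1 ⊗ₜ v)) k
  have h : ∀ {l : ℕ} (w : Fin l → A), TensorProduct.piScalarRight A B B (Fin l) (1 ⊗ₜ w) = φ ∘ w := fun w =>
    funext fun j => (mul_one _ : φ (w j) * 1 = φ (w j))
  rw [h, h]
  exact RingHom.map_mulVec φ M v k

/-- A complex of finite projectives given by idempotent matrices descends with its matrices. -/
theorem exists_cx_of_matrices (n : ℤ → ℕ) (e : ∀ i, Matrix (Fin (n i)) (Fin (n i)) A)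
    (D : ∀ i, Matrix (Fin (n (i + 1))) (Fin (n i)) A) (hee : ∀ i, e i * e i = e i)
    (hDe : ∀ i, D i * e i = D i) (heD : ∀ i, e (i + 1) * D i = D i) (hDD : ∀ i, D (i + 1) * D i = 0)
    (P : DRing.Cx B) (ι : ∀ i, P.X i ⟶ ffMod B (n i)) (ρ : ∀ i, ffMod B (n i) ⟶ P.X i)
    (hιρ : ∀ i, ι i ≫ ρ i = 𝟙 _) (he : ∀ i, matMor ((e i).map φ) = ρ i ≫ ι i)
    (hD : ∀ i, matMor ((D i).map φ) = ρ i ≫ P.d i (i + 1) ≫ ι (i + 1)) :
    ∃ E : DRing.Cx A, (∀ i, FProj (E.X i)) ∧ (∀ i, n i = 0 → IsZero (E.X i)) ∧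
      Nonempty ((DTen.extCx φ).obj E ≅ P) := by
  choose X s t hst hts using fun i => IsIdempotentComplete.idempotents_split (ffMod A (n i)) (matMor (e i))
    (by rw [matMor_comp, hee])
  have hd : ∀ i, (s i ≫ matMor (D i) ≫ t (i + 1)) ≫ (s (i + 1) ≫ matMor (D (i + 1)) ≫ t (i + 1 + 1)) = 0 := by
    intro i
    simp only [Category.assoc, reassoc_of% (hts (i + 1))]
    rw [← Category.assoc (matMor (e (i + 1))), matMor_comp, hDe, ← Category.assoc (matMor (D i)), matMor_comp,
      hDD, show matMor (0 : Matrix (Fin (n (i + 1 + 1))) (Fin (n i)) A) = 0 from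
        ModuleCat.hom_ext Matrix.mulVecLin_zero, zero_comp, comp_zero]
  let E : DRing.Cx A := CochainComplex.of X (fun i => s i ≫ matMor (D i) ≫ t (i + 1)) hd
  let F := ModuleCat.extendScalars.{u, u, u} φ
  have hst' : ∀ i, F.map (s i) ≫ F.map (t i) = 𝟙 _ := fun i => by
    rw [← F.map_comp, hst, CategoryTheory.Functor.map_id]
  have hts' : ∀ i, F.map (t i) ≫ F.map (s i) = (extFF φ (n i)).hom ≫ ρ i ≫ ι i ≫ (extFF φ (n i)).inv := by
    intro i
    rw [← F.map_comp, hts, ← Category.assoc (ρ i), ← he, ← Category.assoc, ← extFF_natural, Category.assoc,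
      Iso.hom_inv_id, Category.comp_id]
  let ψ : ∀ i, F.obj (X i) ≅ P.X i := fun i =>
    { hom := F.map (s i) ≫ (extFF φ (n i)).hom ≫ ρ i
      inv := ι i ≫ (extFF φ (n i)).inv ≫ F.map (t i)
      hom_inv_id := by
        have h := congrArg (fun g => F.map (s i) ≫ g ≫ F.map (t i)) (hts' i)
        simp only [Category.assoc, reassoc_of% (hst' i), hst', Category.comp_id] at h ⊢
        exact h.symm
      inv_hom_id := by
        simp only [Category.assoc, reassoc_of% (hts' i), Iso.inv_hom_id_assoc, hιρ, reassoc_of% (hιρ i),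
          Category.comp_id] }
  refine ⟨E, fun i => ?_, fun i hi => ?_, ⟨HomologicalComplex.Hom.isoOfComponents ψ ?_⟩⟩
  · exact retract_fProj (Retract.mk (s i) (t i) (hst i)) ⟨inferInstance, inferInstance⟩
  · have hz : IsZero (ffMod A (n i)) := by
      haveI : IsEmpty (Fin (n i)) := by rw [hi]; infer_instance
      exact ModuleCat.isZero_of_subsingleton _
    show IsZero (X i)
    rw [IsZero.iff_id_eq_zero, ← hst i, hz.eq_of_tgt (s i) 0, zero_comp]
  · rintro i _ rfl
    show (ψ i).hom ≫ P.d i (i + 1) = F.map (E.d i (i + 1)) ≫ (ψ (i + 1)).hom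
    rw [show E.d i (i + 1) = s i ≫ matMor (D i) ≫ t (i + 1) from
      CochainComplex.of_d X (fun i => s i ≫ matMor (D i) ≫ t (i + 1)) i]
    have hnat : F.map (matMor (D i)) ≫ (extFF φ (n (i + 1))).hom =
        (extFF φ (n i)).hom ≫ ρ i ≫ P.d i (i + 1) ≫ ι (i + 1) := (extFF_natural φ (D i)).trans (by rw [hD])
    simp only [ψ, Category.assoc, F.map_comp, reassoc_of% (hts' (i + 1)), Iso.inv_hom_id_assoc,
      reassoc_of% hnat, hιρ, reassoc_of% (hιρ (i + 1)), Category.comp_id]

section Colimit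

variable {J : Type u} [SmallCategory J] [IsFiltered J] {F : J ⥤ CommRingCat.{u}} {c : Cocone F}

theorem exists_rep_finite (hc : IsColimit c) {T : Type*} [Finite T] (x : T → c.pt) :
    ∃ (j : J) (y : T → F.obj j), ∀ t, (c.ι.app j).hom (y t) = x t := by
  classical
  haveI := Fintype.ofFinite T
  choose j y hy using fun t => Types.jointly_surjective _ (isColimitOfPreserves (forget CommRingCat) hc) (x t)
  obtain ⟨k, hk⟩ := IsFiltered.sup_objs_exists (Finset.univ.image j)
  refine ⟨k, fun t => (F.map (hk (Finset.mem_image_of_mem j (Finset.mem_univ t))).some).hom (y t), fun t => ?_⟩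
  rw [← CommRingCat.comp_apply, c.w]
  exact hy t

theorem exists_eq_finite (hc : IsColimit c) {j : J} {T : Type*} [Finite T] (x y : T → F.obj j)
    (h : ∀ t, (c.ι.app j).hom (x t) = (c.ι.app j).hom (y t)) :
    ∃ (k : J) (f : j ⟶ k), ∀ t, (F.map f).hom (x t) = (F.map f).hom (y t) := by
  classical
  haveI := Fintype.ofFinite T
  suffices ∀ S : Finset T, ∃ (k : J) (f : j ⟶ k), ∀ t ∈ S, (F.map f).hom (x t) = (F.map f).hom (y t) by
    obtain ⟨k, f, hf⟩ := this Finset.univ
    exact ⟨k, f, fun t => hf t (Finset.mem_univ t)⟩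
  intro S
  induction S using Finset.induction with
  | empty => exact ⟨j, 𝟙 j, fun t ht => absurd ht (Finset.notMem_empty t)⟩
  | @insert a S ha ih =>
    obtain ⟨k, f, hf⟩ := ih
    have hka : (c.ι.app k).hom ((F.map f).hom (x a)) = (c.ι.app k).hom ((F.map f).hom (y a)) := by
      rw [← CommRingCat.comp_apply, ← CommRingCat.comp_apply, c.w]
      exact h a
    obtain ⟨l, g, hg⟩ := (Types.FilteredColimit.isColimit_eq_iff'
      (isColimitOfPreserves (forget CommRingCat) hc) ((F.map f).hom (x a)) ((F.map f).hom (y a))).1 hka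
    refine ⟨l, f ≫ g, fun t ht => ?_⟩
    rw [F.map_comp, CommRingCat.comp_apply, CommRingCat.comp_apply]
    rcases Finset.mem_insert.1 ht with rfl | ht
    · exact hg
    · rw [hf t ht]

theorem finite_sigma_of_isEmpty {α : ℤ → Type*} [∀ i, Finite (α i)] (a b : ℤ)
    (h : ∀ i, i < a ∨ b < i → IsEmpty (α i)) : Finite (Σ i, α i) := by
  refine Finite.of_surjective (fun p : Σ i : Set.Icc a b, α i.1 => (⟨p.1.1, p.2⟩ : Σ i, α i)) ?_
  rintro ⟨i, x⟩
  by_cases hi : i < a ∨ b < i
  · exact (h i hi).elim x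
  · exact ⟨⟨⟨i, by simp only [Set.mem_Icc]; omega⟩, x⟩, rfl⟩

theorem exists_perfect_stage (hc : IsColimit c) [∀ j : J, DRing.HasLBaseChange (c.ι.app j).hom]
    (K : Dual.D c.pt) (hK : DRing.IsPerfect c.pt K) :
    ∃ (j : J) (Kj : Dual.D (F.obj j)), DRing.IsPerfect (F.obj j) Kj ∧
      Nonempty ((DRing.LBaseChange (c.ι.app j).hom).obj Kj ≅ K) := by
  classical
  obtain ⟨P, a, b, hP, hPp, ⟨eP⟩⟩ := hK
  have hret : ∀ i, ∃ (n : ℕ) (ι : P.X i ⟶ ffMod c.pt n) (ρ : ffMod c.pt n ⟶ P.X i),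
      ι ≫ ρ = 𝟙 _ ∧ (i < a ∨ b < i → n = 0) := by
    intro i
    by_cases hi : i < a ∨ b < i
    · exact ⟨0, 0, 0, (hP i hi).eq_of_src _ _, fun _ => rfl⟩
    · haveI := (hPp i).1
      haveI := (hPp i).2
      obtain ⟨n, s, hs⟩ := Module.Finite.exists_fin' c.pt (P.X i)
      obtain ⟨l, hl⟩ := Module.projective_lifting_property s LinearMap.id hs
      exact ⟨n, ModuleCat.ofHom l, ModuleCat.ofHom s, ModuleCat.hom_ext hl, fun h => absurd h hi⟩
  choose n ι ρ hιρ hn using hret
  choose e he using fun i => exists_matMor (ρ i ≫ ι i)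
  choose D hD using fun i => exists_matMor (ρ i ≫ P.d i (i + 1) ≫ ι (i + 1))
  let T₁ := Σ i, Fin (n i) × Fin (n i)
  let T₂ := Σ i, Fin (n (i + 1)) × Fin (n i)
  let T₃ := Σ i, Fin (n (i + 1 + 1)) × Fin (n i)
  have hemp : ∀ i, i < a ∨ b < i → IsEmpty (Fin (n i)) := fun i hi => by rw [hn i hi]; infer_instance
  haveI : Finite T₁ := finite_sigma_of_isEmpty a b fun i hi => haveI := hemp i hi; inferInstance
  haveI : Finite T₂ := finite_sigma_of_isEmpty a b fun i hi => haveI := hemp i hi; inferInstance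
  haveI : Finite T₃ := finite_sigma_of_isEmpty a b fun i hi => haveI := hemp i hi; inferInstance
  obtain ⟨j, y, hy⟩ := exists_rep_finite hc
    (Sum.elim (fun t : T₁ => e t.1 t.2.1 t.2.2) (fun t : T₂ => D t.1 t.2.1 t.2.2))
  let e' : ∀ i, Matrix (Fin (n i)) (Fin (n i)) (F.obj j) := fun i k l => y (.inl ⟨i, (k, l)⟩)
  let D' : ∀ i, Matrix (Fin (n (i + 1))) (Fin (n i)) (F.obj j) := fun i k l => y (.inr ⟨i, (k, l)⟩)
  let φ : ∀ k : J, F.obj k →+* c.pt := fun k => (c.ι.app k).hom
  have he' : ∀ i, (e' i).map (φ j) = e i := fun i => Matrix.ext fun k l => hy (.inl ⟨i, (k, l)⟩)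
  have hD' : ∀ i, (D' i).map (φ j) = D i := fun i => Matrix.ext fun k l => hy (.inr ⟨i, (k, l)⟩)
  have hee : ∀ i, e i * e i = e i := fun i => matMor_injective (by
    rw [← matMor_comp, he, Category.assoc, reassoc_of% (hιρ i)])
  have hDe : ∀ i, D i * e i = D i := fun i => matMor_injective (by
    rw [← matMor_comp, he, hD, Category.assoc, reassoc_of% (hιρ i)])
  have heD : ∀ i, e (i + 1) * D i = D i := fun i => matMor_injective (by
    rw [← matMor_comp, he, hD]; simp only [Category.assoc, reassoc_of% (hιρ (i + 1))])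
  have hDD : ∀ i, D (i + 1) * D i = 0 := fun i => matMor_injective (by
    rw [← matMor_comp, hD, hD]
    simp only [Category.assoc, reassoc_of% (hιρ (i + 1)), P.d_comp_d_assoc, zero_comp, comp_zero]
    exact (ModuleCat.hom_ext Matrix.mulVecLin_zero).symm)
  obtain ⟨k, f, hf⟩ := exists_eq_finite hc (j := j)
    (Sum.elim (fun t : T₁ => (e' t.1 * e' t.1) t.2.1 t.2.2)
      (Sum.elim (fun t : T₂ => (D' t.1 * e' t.1) t.2.1 t.2.2)
        (Sum.elim (fun t : T₂ => (e' (t.1 + 1) * D' t.1) t.2.1 t.2.2)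
          (fun t : T₃ => (D' (t.1 + 1) * D' t.1) t.2.1 t.2.2))))
    (Sum.elim (fun t : T₁ => e' t.1 t.2.1 t.2.2)
      (Sum.elim (fun t : T₂ => D' t.1 t.2.1 t.2.2)
        (Sum.elim (fun t : T₂ => D' t.1 t.2.1 t.2.2) (fun _ : T₃ => 0))))
    (by
      rintro (⟨i, k, l⟩ | ⟨i, k, l⟩ | ⟨i, k, l⟩ | ⟨i, k, l⟩)
      · show φ j ((e' i * e' i) k l) = _
        rw [RingHom.map_matrix_mul, he', hee]; exact (hy (.inl ⟨i, (k, l)⟩)).symm
      · show φ j ((D' i * e' i) k l) = _
        rw [RingHom.map_matrix_mul, he', hD', hDe]; exact (hy (.inr ⟨i, (k, l)⟩)).symm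
      · show φ j ((e' (i + 1) * D' i) k l) = _
        rw [RingHom.map_matrix_mul, he', hD', heD]; exact (hy (.inr ⟨i, (k, l)⟩)).symm
      · show φ j ((D' (i + 1) * D' i) k l) = φ j 0
        rw [RingHom.map_matrix_mul, hD', hD', hDD, map_zero]; rfl)
  let g := (F.map f).hom
  have hfac : ∀ x, φ k (g x) = φ j x := fun x => by
    show (F.map f ≫ c.ι.app k).hom x = _
    rw [c.w]; rfl
  have hmap : ∀ {p q : ℕ} (M : Matrix (Fin p) (Fin q) (F.obj j)), (M.map g).map (φ k) = M.map (φ j) :=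
    fun M => Matrix.ext fun _ _ => hfac _
  obtain ⟨E, hE, hE0, ⟨eE⟩⟩ := exists_cx_of_matrices (φ k) n (fun i => (e' i).map g) (fun i => (D' i).map g)
    (fun i => Matrix.ext fun r l => (RingHom.map_matrix_mul (e' i) (e' i) r l g).symm.trans
      (hf (.inl ⟨i, (r, l)⟩)))
    (fun i => Matrix.ext fun r l => (RingHom.map_matrix_mul (D' i) (e' i) r l g).symm.trans
      (hf (.inr (.inl ⟨i, (r, l)⟩))))
    (fun i => Matrix.ext fun r l => (RingHom.map_matrix_mul (e' (i + 1)) (D' i) r l g).symm.trans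
      (hf (.inr (.inr (.inl ⟨i, (r, l)⟩)))))
    (fun i => Matrix.ext fun r l => (RingHom.map_matrix_mul (D' (i + 1)) (D' i) r l g).symm.trans
      ((hf (.inr (.inr (.inr ⟨i, (r, l)⟩)))).trans (map_zero g)))
    P ι ρ hιρ (fun i => by rw [hmap, he']; exact he i) (fun i => by rw [hmap, hD']; exact hD i)
  have hEab : DRing.VanishesOutside E a b := fun i hi => hE0 i (hn i hi)
  refine ⟨k, DRing.toD E, ⟨E, a, b, hEab, hE, ⟨Iso.refl _⟩⟩, ⟨lbcIso (φ k) E
    (isKFlat_of_projective (fun i hi => hEab i (.inr hi)) fun i => (hE i).2) ≪≫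
    DerivedCategory.Q.mapIso eE ≪≫ eP⟩⟩

end Colimit

end Groth.Agent.DRingLib
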