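import Groth.Agent.DRingLib.LiftProj
import Mathlib.LinearAlgebra.Dimension.Free
import Mathlib.RingTheory.LocalRing.ResidueField.Basic

/-!
# Minimal complexes
-/

set_option autoImplicit false
set_option linter.style.haveILetI false
set_option backward.isDefEq.respectTransparency false

universe u

open CategoryTheory Limits
attribute [local instance] HasDerivedCategory.standard

noncomputable section

namespace Groth.Agent.DRingLib

open Groth.Agent.DCohLib Groth.Agent.DTenLib

/-- A complex with zero differentials. -/
def zeroDiffCx {A : Type u} [CommRing A] (H : ℤ → ModuleCat.{u} A) : DRing.Cx A where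
  X := H
  d _ _ := 0

/-- Over a field every complex receives a quasi-isomorphism from its cohomology. -/
theorem exists_quasiIso_zeroDiff {k : Type u} [Field k] (G : DRing.Cx k) :
    ∃ f : zeroDiffCx (fun i => G.homology i) ⟶ G, QuasiIso f := by
  let E₀ : DRing.Cx k := zeroDiffCx fun i => G.homology i
  haveI : ∀ i, Module.Projective k (G.homology i) := fun i =>
    @Module.Projective.of_free k _ _ _ _ (Module.Free.of_divisionRing k (G.homology i))
  choose s hs using fun i => Module.projective_lifting_property (G.homologyπ i).hom LinearMap.id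
    ((ModuleCat.epi_iff_surjective _).1 (inferInstanceAs (Epi (G.homologyπ i))))
  let f : E₀ ⟶ G :=
    { f := fun i => (ModuleCat.ofHom (s i) : E₀.X i ⟶ G.cycles i) ≫ G.iCycles i
      comm' := fun i j _ => by
        rw [Category.assoc, HomologicalComplex.iCycles_d, comp_zero]
        exact zero_comp.symm }
  refine ⟨f, ⟨fun i => ?_⟩⟩
  rw [quasiIsoAt_iff_isIso_homologyMap]
  haveI : IsIso (E₀.iCycles i) := E₀.isIso_iCycles i (i + 1) (by simp) rfl
  haveI : IsIso (E₀.homologyπ i) := E₀.isIso_homologyπ (i - 1) i (by simp) rfl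
  have h : HomologicalComplex.cyclesMap f i = E₀.iCycles i ≫ (ModuleCat.ofHom (s i) : E₀.X i ⟶ G.cycles i) := by
    rw [← cancel_mono (G.iCycles i), HomologicalComplex.cyclesMap_i, Category.assoc]
  have h' : E₀.homologyπ i ≫ HomologicalComplex.homologyMap f i = E₀.iCycles i := by
    rw [HomologicalComplex.homologyπ_naturality, h, Category.assoc]
    refine Eq.trans (congrArg (E₀.iCycles i ≫ ·) (?_ : _ = 𝟙 _)) (Category.comp_id _)
    exact ModuleCat.hom_ext (hs i)
  haveI : IsIso (E₀.homologyπ i ≫ HomologicalComplex.homologyMap f i) := h' ▸ inferInstance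
  exact IsIso.of_isIso_comp_left (E₀.homologyπ i) _

/-- A complex whose cohomology is as large as its terms has zero differentials. -/
theorem d_eq_zero_of_finrank {k : Type u} [Field k] (G : DRing.Cx k) [∀ i, Module.Finite k (G.X i)]
    (h : ∀ i, Module.finrank k (G.homology i) = Module.finrank k (G.X i)) (i j : ℤ) : G.d i j = 0 := by
  by_cases hij : i + 1 = j
  swap
  · exact G.shape i j hij
  have hi : Function.Injective (G.iCycles i).hom := (ModuleCat.mono_iff_injective _).1 inferInstance
  have hp : Function.Surjective (G.homologyπ i).hom := (ModuleCat.epi_iff_surjective _).1 inferInstance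
  haveI : Module.Finite k (G.cycles i) := Module.Finite.of_injective _ hi
  have h1 := LinearMap.finrank_le_finrank_of_injective hi
  have h2 := LinearMap.finrank_le_finrank_of_surjective hp
  have he : Module.finrank k (G.cycles i) = Module.finrank k (G.X i) := by
    have := h i
    omega
  have hsur := (LinearMap.injective_iff_surjective_of_finrank_eq_finrank he).1 hi
  haveI : Epi (G.iCycles i) := (ModuleCat.epi_iff_surjective _).2 hsur
  rw [← cancel_epi (G.iCycles i), comp_zero, HomologicalComplex.iCycles_d]

variable {R : Type u} [CommRing R] (I : Ideal R)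

theorem nontrivial_red_finrank [Nontrivial (R ⧸ I)] (X : ModuleCat.{u} R) [Module.Free R X] :
    Module.finrank (R ⧸ I) ((red I).obj X) = Module.finrank R X := by
  haveI : Nontrivial R := (Ideal.Quotient.mk I).domain_nontrivial
  exact (extendScalarsTensorEquiv R (R ⧸ I) X).finrank_eq.trans Module.finrank_baseChange

theorem finite_red (X : ModuleCat.{u} R) [Module.Finite R X] : Module.Finite (R ⧸ I) ((red I).obj X) :=
  Module.Finite.equiv (extendScalarsTensorEquiv R (R ⧸ I) X).symm

/-- Homotopy equivalent complexes with minimal reductions are isomorphic. -/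
theorem nonempty_iso_of_zero_diff (hI : I ≤ Ideal.jacobson (⊥ : Ideal R)) {P Q : DRing.Cx R} {b c : ℤ}
    (hPb : DRing.VanishesAbove P b) (hQb : DRing.VanishesAbove Q c)
    (hP : ∀ i, Module.Finite R (P.X i) ∧ Module.Projective R (P.X i))
    (hQ : ∀ i, Module.Finite R (Q.X i) ∧ Module.Projective R (Q.X i))
    (hPd : ∀ i j, (red I).map (P.d i j) = 0) (hQd : ∀ i j, (red I).map (Q.d i j) = 0)
    (e : DRing.toD P ≅ DRing.toD Q) : Nonempty (P ≅ Q) := by
  haveI : CochainComplex.IsKProjective P := isKProjective_of_vanishesAbove hPb fun i => (hP i).2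
  haveI : CochainComplex.IsKProjective Q := isKProjective_of_vanishesAbove hQb fun i => (hQ i).2
  obtain ⟨f, hf⟩ := Q_map_surjective P Q e.hom
  obtain ⟨g, hg⟩ := Q_map_surjective Q P e.inv
  have key : ∀ {S : DRing.Cx R} (_ : ∀ i j, (red I).map (S.d i j) = 0) [CochainComplex.IsKProjective S]
      (a : S ⟶ S), DerivedCategory.Q.map a = 𝟙 _ → ∀ i, (red I).map (a.f i) = 𝟙 _ := by
    intro S hSd _ a ha i
    obtain ⟨H⟩ := homotopic_zero S (a - 𝟙 S) (by rw [Functor.map_sub, ha, CategoryTheory.Functor.map_id, sub_self])
    have := congrArg (red I).map (H.comm i)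
    rw [HomologicalComplex.sub_f_apply, HomologicalComplex.id_f, HomologicalComplex.zero_f, add_zero,
      dNext_eq _ (show (ComplexShape.up ℤ).Rel i (i + 1) from rfl),
      prevD_eq _ (show (ComplexShape.up ℤ).Rel (i - 1) i from sub_add_cancel i 1), Functor.map_sub,
      Functor.map_add, Functor.map_comp, Functor.map_comp, hSd, hSd, zero_comp, comp_zero, add_zero,
      sub_eq_zero, CategoryTheory.Functor.map_id] at this
    exact this
  have h1 : ∀ i, (red I).map (f.f i) ≫ (red I).map (g.f i) = 𝟙 _ := fun i => by
    rw [← Functor.map_comp, ← HomologicalComplex.comp_f]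
    exact key hPd (f ≫ g) (by rw [Functor.map_comp, hf, hg, e.hom_inv_id]) i
  have h2 : ∀ i, (red I).map (g.f i) ≫ (red I).map (f.f i) = 𝟙 _ := fun i => by
    rw [← Functor.map_comp, ← HomologicalComplex.comp_f]
    exact key hQd (g ≫ f) (by rw [Functor.map_comp, hg, hf, e.inv_hom_id]) i
  have hsur : ∀ {S T : DRing.Cx R} (a : S ⟶ T) (b : T ⟶ S) (i : ℤ), Module.Finite R (T.X i) →
      (red I).map (b.f i) ≫ (red I).map (a.f i) = 𝟙 _ → Function.Surjective (a.f i).hom := by
    intro S T a b i hT h
    refine surjective_of_jacobson I hI _ (range_sup_of_surjective_red I _ fun y =>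
      ⟨((red I).map (b.f i)).hom y, ?_⟩)
    exact congrArg (fun φ => φ.hom y) h
  haveI : ∀ i, IsIso (f.f i) := fun i => by
    haveI := (hP i).1
    have hgf : Function.Surjective ((g.f i).hom ∘ₗ (f.f i).hom) :=
      (hsur g f i (hP i).1 (h1 i)).comp (hsur f g i (hQ i).1 (h2 i))
    exact (ConcreteCategory.isIso_iff_bijective _).2
      ⟨Function.Injective.of_comp (OrzechProperty.bijective_of_surjective_endomorphism _ hgf).1,
        hsur f g i (hQ i).1 (h2 i)⟩
  haveI := HomologicalComplex.Hom.isIso_of_components f
  exact ⟨asIso f⟩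

end Groth.Agent.DRingLib
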