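import Groth.Agent.KFlat.ModuleQuasiIso
import Groth.Agent.KFlat.BddAbove
import Groth.Agent.KFlat.QuasiIso
import Groth.Prelude.Def_DRing2
import Mathlib.RingTheory.TensorProduct.DirectLimitFG
import Mathlib.Algebra.Module.FinitePresentation

/-!
# Complexes acyclic after tensoring with every module
-/

set_option autoImplicit false
set_option linter.style.haveILetI false
set_option backward.isDefEq.respectTransparency false

universe u

open CategoryTheory Limits MonoidalCategory

noncomputable section

namespace Groth.Agent.DRingLib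

open Groth.Agent.KFlat

variable {R : Type u} [CommRing R] (W : CochainComplex (ModuleCat.{u} R) ℤ)

/-- The terms of the truncation above a degree. -/
def cutSub (m i : ℤ) : Submodule R (W.X i) :=
  if i < m then ⊤ else if i = m then LinearMap.ker (W.d i (i + 1)).hom else ⊥

theorem mem_cutSub_of_lt {m i : ℤ} (h : i < m) (x : W.X i) : x ∈ cutSub W m i := by
  simp [cutSub, h]

theorem cutSub_le {m m' i : ℤ} (h : m ≤ m') : cutSub W m i ≤ cutSub W m' i := by
  intro x hx
  unfold cutSub at hx ⊢
  by_cases h1 : i < m'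
  · simp [h1]
  · rw [if_neg (by omega : ¬ i < m)] at hx
    by_cases h2 : i = m
    · rw [if_pos h2] at hx
      rw [if_neg h1, if_pos (by omega : i = m')]
      exact hx
    · rw [if_neg h2, Submodule.mem_bot] at hx
      rw [hx]
      exact zero_mem _

theorem d_mem_cutSub (m i j : ℤ) (x : cutSub W m i) : (W.d i j).hom x ∈ cutSub W m j := by
  by_cases hij : i + 1 = j
  swap
  · rw [W.shape i j hij]
    exact zero_mem _
  subst hij
  obtain ⟨x, hx⟩ := x
  unfold cutSub at hx ⊢
  by_cases h1 : i + 1 < m
  · simp [h1]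
  · rw [if_neg h1]
    by_cases h2 : i + 1 = m
    · rw [if_pos h2]
      exact congr($(W.d_comp_d i (i + 1) (i + 1 + 1)).hom x)
    · rw [if_neg h2, Submodule.mem_bot]
      rw [if_neg (by omega : ¬ i < m)] at hx
      by_cases h3 : i = m
      · rw [if_pos h3] at hx
        exact hx
      · rw [if_neg h3, Submodule.mem_bot] at hx
        simp [hx]

/-- The truncation above a degree, as a subcomplex. -/
def cutCx (m : ℤ) : CochainComplex (ModuleCat.{u} R) ℤ where
  X i := ModuleCat.of R (cutSub W m i)
  d i j := ModuleCat.ofHom (LinearMap.codRestrict _ ((W.d i j).hom.comp (cutSub W m i).subtype)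
    fun x => d_mem_cutSub W m i j x)
  shape i j h := ModuleCat.hom_ext (LinearMap.ext fun x => Subtype.ext (by
    show (W.d i j).hom x.1 = 0
    rw [W.shape i j h]
    rfl))
  d_comp_d' i j k _ _ := ModuleCat.hom_ext (LinearMap.ext fun x => Subtype.ext
    congr($(W.d_comp_d i j k).hom x.1))

theorem isZero_cutCx_X {m i : ℤ} (h : m < i) : IsZero ((cutCx W m).X i) := by
  haveI : Subsingleton (cutSub W m i) := subsingleton_of_forall_eq 0 fun x => Subtype.ext (by
    have hx := x.2
    simp only [cutSub, if_neg (by omega : ¬ i < m), if_neg (by omega : ¬ i = m), Submodule.mem_bot] at hx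
    exact hx)
  exact ModuleCat.isZero_of_subsingleton (ModuleCat.of R (cutSub W m i))

/-- The truncations as a sequence. -/
def cutSeq : ℕ ⥤ CochainComplex (ModuleCat.{u} R) ℤ where
  obj k := cutCx W k
  map {k k'} h :=
    { f := fun i => ModuleCat.ofHom (Submodule.inclusion (cutSub_le W (Int.ofNat_le.2 (leOfHom h))))
      comm' := fun i j _ => rfl }

/-- They converge to the complex. -/
def cutCocone : Cocone (cutSeq W) where
  pt := W
  ι :=
    { app := fun k => { f := fun i => ModuleCat.ofHom (cutSub W k i).subtype, comm' := fun i j _ => rfl }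
      naturality := fun _ _ _ => rfl }

/-- The complex is their colimit. -/
def isColimitCutCocone : IsColimit (cutCocone W) :=
  HomologicalComplex.isColimitOfEval _ _ fun n =>
    { desc := fun s => ModuleCat.ofHom (LinearMap.codRestrict (cutSub W ((n.toNat + 1 : ℕ) : ℤ) n) LinearMap.id
          fun x => mem_cutSub_of_lt W (by omega) x) ≫ s.ι.app (n.toNat + 1)
      fac := fun s k => by
        refine ModuleCat.hom_ext (LinearMap.ext fun x => ?_)
        let M := max k (n.toNat + 1)
        show (s.ι.app (n.toNat + 1)).hom (⟨x.1, _⟩ : cutSub W _ n) = (s.ι.app k).hom x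
        rw [← s.w (homOfLE (le_max_left k (n.toNat + 1))), ← s.w (homOfLE (le_max_right k (n.toNat + 1)))]
        rfl
      uniq := fun s f hf => by
        rw [← hf (n.toNat + 1)]
        rfl }

/-- A complex which stays acyclic after tensoring with every module tensors every complex to an acyclic one. -/
theorem isZero_homology_tensor_of_forall (K : CochainComplex (ModuleCat.{u} R) ℤ)
    (hK : ∀ M : ModuleCat.{u} R, (DRing.tensorCx K M).Acyclic) (L : CochainComplex (ModuleCat.{u} R) ℤ) (i : ℤ) :
    IsZero ((L ⊗ K).homology i) := by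
  let F := (curriedTensor (ModuleCat.{u} R)).flip
  have hS : ∀ (q : ℤ) (M : ModuleCat.{u} R),
      ((tot F K).obj ((HomologicalComplex.single (ModuleCat.{u} R) (ComplexShape.up ℤ) q).obj M)).Acyclic := by
    intro q M n
    haveI := isIso_singleι F K q M (n - 1 - q) (n - 1) (by omega)
    haveI := isIso_singleι F K q M (n - q) n (by omega)
    haveI := isIso_singleι F K q M (n + 1 - q) (n + 1) (by omega)
    show (CochainComplex.mapBifunctor K ((HomologicalComplex.single _ (ComplexShape.up ℤ) q).obj M) F).ExactAt n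
    rw [HomologicalComplex.exactAt_iff' _ (n - 1) n (n + 1) (by simp) (by simp)]
    let e₁ : (F.flip.obj M).obj (K.X (n - 1 - q)) ≅ _ := asIso (singleι F K q M (n - 1 - q) (n - 1) _)
    let e₂ : (F.flip.obj M).obj (K.X (n - q)) ≅ _ := asIso (singleι F K q M (n - q) n _)
    let e₃ : (F.flip.obj M).obj (K.X (n + 1 - q)) ≅ _ := asIso (singleι F K q M (n + 1 - q) (n + 1) _)
    have h₁ := singleι_d F K q M (n - 1 - q) (n - q) (n - 1) n (by omega) (by omega) (by omega)
    have h₂ := singleι_d F K q M (n - q) (n + 1 - q) n (n + 1) (by omega) (by omega) (by omega)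
    have hex : (((tensorLeft M).mapHomologicalComplex (ComplexShape.up ℤ)).obj K).ExactAt (n - q) :=
      (hK M (n - q)).of_iso ((NatIso.mapHomologicalComplex (BraidedCategory.tensorLeftIsoTensorRight M)
        (ComplexShape.up ℤ)).app K).symm
    exact ShortComplex.exact_of_iso
      (S₁ := (K.sc' (n - 1 - q) (n - q) (n + 1 - q)).map (F.flip.obj M))
      (S₂ := (CochainComplex.mapBifunctor K ((HomologicalComplex.single _ (ComplexShape.up ℤ) q).obj M) F).sc'
        (n - 1) n (n + 1))
      (ShortComplex.isoMk e₁ e₂ e₃ h₁ h₂)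
      ((HomologicalComplex.exactAt_iff' _ (n - 1 - q) (n - q) (n + 1 - q) (by simp; omega) (by simp; omega)).1 hex)
  have hb : ∀ (V : CochainComplex (ModuleCat.{u} R) ℤ) (b : ℤ), (∀ n, b < n → IsZero (V.X n)) →
      ∀ m : ℕ, ((tot F K).obj (brutal V (b + 1 - m))).Acyclic := by
    intro V b hV m
    induction m with
    | zero =>
      have hz : IsZero (brutal V (b + 1 - ((0 : ℕ) : ℤ))) := by
        refine (IsZero.iff_id_eq_zero _).2 (HomologicalComplex.hom_ext _ _ fun n => ?_)
        by_cases hn : n < b + 1 - ((0 : ℕ) : ℤ)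
        · exact (isZero_brutal V _ hn).eq_of_src _ _
        · exact (isZero_brutal_of_isZero V _ (hV n (by simp at hn; omega))).eq_of_src _ _
      intro n
      rw [HomologicalComplex.exactAt_iff_isZero_homology]
      exact (HomologicalComplex.homologyFunctor _ _ n).map_isZero ((tot F K).map_isZero hz)
    | succ m ih =>
      refine acyclic_X₂ (shortExact_tot_of_splitting F K _ (brutalSplitting V (b + 1 - (m + 1 : ℕ)))) ?_ (hS _ _)
      show ((tot F K).obj (brutal V (b + 1 - ((m + 1 : ℕ) : ℤ) + 1))).Acyclic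
      rw [show b + 1 - ((m + 1 : ℕ) : ℤ) + 1 = b + 1 - (m : ℤ) by push_cast; ring]
      exact ih
  haveI := preservesColimitsOfShape_tot F K ℕ
  have hcut : ∀ k : ℕ, ((tot F K).obj (cutCx L k)).Acyclic := fun k n =>
    exactAt_of_isColimit (brutalSeq (cutCx L k) (k + 1) ⋙ tot F K) _
      (isColimitOfPreserves (tot F K) (isColimitBrutalCocone (cutCx L k) (k + 1))) n
      fun m => hb (cutCx L k) k (fun j hj => isZero_cutCx_X L hj) m n
  exact (((exactAt_of_isColimit (cutSeq L ⋙ tot F K) _ (isColimitOfPreserves (tot F K) (isColimitCutCocone L)) i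
    fun k => hcut k i).of_iso ((totRIso (curriedTensor (ModuleCat.{u} R)) K).app L))).isZero_homology

open scoped TensorProduct in
/-- Exactness after tensoring with finitely presented modules gives exactness after tensoring with all. -/
theorem exists_lTensor_eq_of_finitePresentation {Z X Y : Type u} [AddCommGroup Z] [Module R Z] [AddCommGroup X]
    [Module R X] [AddCommGroup Y] [Module R Y] (d₀ : Z →ₗ[R] X) (d₁ : X →ₗ[R] Y)
    (h : ∀ (P : Type u) [AddCommGroup P] [Module R P], Module.FinitePresentation R P →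
      ∀ x : P ⊗[R] X, d₁.lTensor P x = 0 → ∃ y, d₀.lTensor P y = x)
    (M : Type u) [AddCommGroup M] [Module R M] (z : M ⊗[R] X) (hz : d₁.lTensor M z = 0) :
    ∃ y, d₀.lTensor M y = z := by
  obtain ⟨P, hP, t, rfl⟩ := TensorProduct.exists_of_fg z
  have h1 : LinearMap.rTensor Y P.subtype (d₁.lTensor P t) = 0 := by
    rw [← hz]
    exact LinearMap.congr_fun ((LinearMap.rTensor_comp_lTensor (f := P.subtype) (g := d₁)).trans
      (LinearMap.lTensor_comp_rTensor (f := P.subtype) (g := d₁)).symm) t
  obtain ⟨Q, hPQ, hQ, h2⟩ := TensorProduct.eq_zero_of_fg_of_subtype_eq_zero hP h1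
  haveI : Module.Finite R Q := Module.Finite.iff_fg.2 hQ
  obtain ⟨n, p, hp⟩ := Module.Finite.exists_fin' R Q
  obtain ⟨t', ht'⟩ := LinearMap.rTensor_surjective X hp (LinearMap.rTensor X (Submodule.inclusion hPQ) t)
  have h3 : LinearMap.rTensor Y p (d₁.lTensor (Fin n → R) t') = 0 := by
    rw [← h2, ← LinearMap.comp_apply, LinearMap.rTensor_comp_lTensor, ← LinearMap.lTensor_comp_rTensor,
      LinearMap.comp_apply, ht', ← LinearMap.comp_apply, LinearMap.lTensor_comp_rTensor,
      ← LinearMap.rTensor_comp_lTensor, LinearMap.comp_apply]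
  obtain ⟨v, hv⟩ := (rTensor_exact Y (LinearMap.exact_subtype_ker_map p) hp _).1 h3
  obtain ⟨N₀, hN₀, w, hw⟩ := TensorProduct.exists_of_fg v
  let N₁ : Submodule R (Fin n → R) := N₀.map (LinearMap.ker p).subtype
  let q := N₁.mkQ
  have hFP : Module.FinitePresentation R ((Fin n → R) ⧸ N₁) :=
    Module.finitePresentation_of_surjective q N₁.mkQ_surjective (by
      rw [Submodule.ker_mkQ]
      exact hN₀.map _)
  have h4 : d₁.lTensor ((Fin n → R) ⧸ N₁) (LinearMap.rTensor X q t') = 0 := by
    rw [← LinearMap.comp_apply, LinearMap.lTensor_comp_rTensor, ← LinearMap.rTensor_comp_lTensor,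
      LinearMap.comp_apply, ← hv, ← hw, ← LinearMap.comp_apply (LinearMap.rTensor Y (LinearMap.ker p).subtype),
      ← LinearMap.rTensor_comp, ← LinearMap.comp_apply (LinearMap.rTensor Y q), ← LinearMap.rTensor_comp]
    have h0 : q ∘ₗ ((LinearMap.ker p).subtype ∘ₗ N₀.subtype) = 0 := LinearMap.ext fun x =>
      (Submodule.Quotient.mk_eq_zero N₁).2 ⟨x.1, x.2, rfl⟩
    rw [h0, LinearMap.rTensor_zero]
    rfl
  obtain ⟨y, hy⟩ := h _ hFP _ h4
  let g : ((Fin n → R) ⧸ N₁) →ₗ[R] M := N₁.liftQ (Q.subtype ∘ₗ p) (by
    rintro _ ⟨x, hx, rfl⟩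
    show Q.subtype (p x.1) = 0
    rw [LinearMap.mem_ker.1 x.2, map_zero])
  refine ⟨LinearMap.rTensor Z g y, ?_⟩
  rw [← LinearMap.comp_apply, LinearMap.lTensor_comp_rTensor, ← LinearMap.rTensor_comp_lTensor,
    LinearMap.comp_apply, hy, ← LinearMap.comp_apply, ← LinearMap.rTensor_comp,
    show g ∘ₗ q = Q.subtype ∘ₗ p from N₁.liftQ_mkQ _ _, LinearMap.rTensor_comp, LinearMap.comp_apply, ht',
    ← LinearMap.comp_apply, ← LinearMap.rTensor_comp, Submodule.subtype_comp_inclusion]

open scoped TensorProduct in
/-- Acyclicity after tensoring with finitely presented modules gives it after tensoring with all. -/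
theorem acyclic_tensorCx_of_finitePresentation (K : CochainComplex (ModuleCat.{u} R) ℤ)
    (hK : ∀ (M : Type u) [AddCommGroup M] [Module R M], Module.FinitePresentation R M →
      (DRing.tensorCx K (ModuleCat.of R M)).Acyclic) (M : ModuleCat.{u} R) : (DRing.tensorCx K M).Acyclic := by
  intro i
  let e := fun N : ModuleCat.{u} R => (NatIso.mapHomologicalComplex (BraidedCategory.tensorLeftIsoTensorRight N)
    (ComplexShape.up ℤ)).app K
  suffices h : (((tensorLeft M).mapHomologicalComplex (ComplexShape.up ℤ)).obj K).ExactAt i from h.of_iso (e M)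
  rw [HomologicalComplex.exactAt_iff' _ (i - 1) i (i + 1) (by simp) (by simp), ShortComplex.moduleCat_exact_iff]
  intro x hx
  exact exists_lTensor_eq_of_finitePresentation (K.d (i - 1) i).hom (K.d i (i + 1)).hom (fun P _ _ hP x hx => by
    have h := (hK P hP i).of_iso (e (ModuleCat.of R P)).symm
    rw [HomologicalComplex.exactAt_iff' _ (i - 1) i (i + 1) (by simp) (by simp), ShortComplex.moduleCat_exact_iff] at h
    exact h x hx) M x hx

end Groth.Agent.DRingLib
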