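import Groth.Agent.DRingLib.Perfect
import Groth.Agent.RegLocal.Serre
import Mathlib.RingTheory.Spectrum.Prime.FreeLocus

/-!
# Perfect modules and complexes over regular rings
-/

set_option autoImplicit false
set_option linter.style.haveILetI false

universe u

open CategoryTheory Limits Pretriangulated TensorProduct
attribute [local instance] HasDerivedCategory.standard

noncomputable section

namespace Groth.Agent.DRingLib

open Groth.Agent.DCohLib

variable {A : Type u} [CommRing A] [IsNoetherianRing A]

variable (A) in
/-- The primes where the localized module has projective dimension at most `n`. -/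
def pdLocus (n : ℕ) (M : Type u) [AddCommGroup M] [Module A M] : Set (PrimeSpectrum A) :=
  {p | HasProjectiveDimensionLT
    (ModuleCat.of (Localization.AtPrime p.asIdeal) (Localization.AtPrime p.asIdeal ⊗[A] M)) (n + 1)}

theorem pdLocus_zero (M : Type u) [AddCommGroup M] [Module A M] [Module.Finite A M] :
    pdLocus A 0 M = Module.freeLocus A M := by
  ext p
  rw [Module.mem_freeLocus_iff_tensor p (Localization.AtPrime p.asIdeal)]
  haveI : IsNoetherianRing (Localization.AtPrime p.asIdeal) :=
    IsLocalization.isNoetherianRing p.asIdeal.primeCompl _ inferInstance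
  constructor
  · intro h
    exact RegLocal.free_of_projDimLT_one _ h
  · intro h
    exact RegLocal.hasProjectiveDimensionLT_of_free _ 0

theorem pdLocus_succ {M F : Type u} [AddCommGroup M] [Module A M] [AddCommGroup F] [Module A F]
    [Module.Free A F] (f : F →ₗ[A] M) (hf : Function.Surjective f) (n : ℕ) :
    pdLocus A (n + 1) M = pdLocus A n (LinearMap.ker f) := by
  ext p
  exact (RegLocal.syzygy_iff (f.baseChange (Localization.AtPrime p.asIdeal)) (LinearMap.lTensor_surjective _ hf) n).trans
    (RegLocal.pd_ker_baseChange_iff _ f hf (n + 1))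

theorem pdLocus_mono (M : Type u) [AddCommGroup M] [Module A M] : Monotone fun n => pdLocus A n M :=
  fun m n h p hp => by
    have : HasProjectiveDimensionLT
      (ModuleCat.of (Localization.AtPrime p.asIdeal) (Localization.AtPrime p.asIdeal ⊗[A] M)) (m + 1) := hp
    exact hasProjectiveDimensionLT_of_ge _ (m + 1) (n + 1) (by omega)

theorem isOpen_pdLocus : ∀ (n : ℕ) (M : Type u) [AddCommGroup M] [Module A M] [Module.Finite A M],
    IsOpen (pdLocus A n M) := by
  intro n
  induction n with
  | zero =>
    intro M _ _ _
    haveI := Module.finitePresentation_of_finite A M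
    rw [pdLocus_zero]
    exact Module.isOpen_freeLocus
  | succ n ih =>
    intro M _ _ _
    obtain ⟨m, f, hf⟩ := Module.Finite.exists_fin' A M
    rw [pdLocus_succ f hf]
    exact ih _

theorem perf_of_pdLocus_eq_univ : ∀ (n : ℕ) (M : Type u) [AddCommGroup M] [Module A M] [Module.Finite A M],
    pdLocus A n M = Set.univ → Perf FProj (Dual.inD A M) := by
  intro n
  induction n with
  | zero =>
    intro M _ _ _ h
    rw [pdLocus_zero] at h
    haveI := Module.finitePresentation_of_finite A M
    exact perf_inD projClass_fProj (M := ModuleCat.of A M)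
      ⟨inferInstanceAs (Module.Finite A M), Module.freeLocus_eq_univ_iff.1 h⟩
  | succ n ih =>
    intro M _ _ _ h
    obtain ⟨m, f, hf⟩ := Module.Finite.exists_fin' A M
    rw [pdLocus_succ f hf] at h
    obtain ⟨T, hT, e₁, e₂, e₃⟩ := exists_triangle_of_surjective f hf
    have h₂ : Perf FProj (Dual.inD A (Fin m → A)) :=
      perf_inD projClass_fProj (M := ModuleCat.of A (Fin m → A))
        ⟨inferInstanceAs (Module.Finite A (Fin m → A)), inferInstanceAs (Module.Projective A (Fin m → A))⟩
    rw [← e₃]
    exact Perf.obj₃ projClass_fProj T hT (e₁ ▸ ih _ h) (e₂ ▸ h₂)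

variable (hreg : ∀ p : PrimeSpectrum A, IsRegularLocalRing (Localization.AtPrime p.asIdeal))

include hreg in
/-- Finite modules over regular rings are perfect, whatever the dimension of the ring. -/
theorem perf_of_regular (M : Type u) [AddCommGroup M] [Module A M] [Module.Finite A M] :
    Perf FProj (Dual.inD A M) := by
  have hcover : (Set.univ : Set (PrimeSpectrum A)) ⊆ ⋃ n, pdLocus A n M := fun p _ => by
    haveI := hreg p
    obtain ⟨d, hd⟩ := RegLocal.exists_nat_ringKrullDim (Localization.AtPrime p.asIdeal)
    exact Set.mem_iUnion.2 ⟨d, RegLocal.finite_hasProjectiveDimensionLT d _ hd _⟩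
  obtain ⟨n, hn⟩ := isCompact_univ.elim_directed_cover _ (fun n => isOpen_pdLocus n M) hcover
    (pdLocus_mono M).directed_le
  exact perf_of_pdLocus_eq_univ n M (Set.univ_subset_iff.1 hn)

theorem finite_homology_of_perf {K : Dual.D A} (hK : Perf FProj K) (i : ℤ) :
    Module.Finite A (Dual.HD A K i) := by
  obtain ⟨E, hE, ⟨e⟩⟩ := hK
  haveI := (hE.2 i).1
  haveI : Module.Finite A (E.cycles i) :=
    Module.Finite.of_injective (E.iCycles i).hom ((ModuleCat.mono_iff_injective _).1 inferInstance)
  haveI : Module.Finite A (E.homology i) :=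
    Module.Finite.of_surjective (E.homologyπ i).hom ((ModuleCat.epi_iff_surjective _).1 inferInstance)
  haveI : Module.Finite A ((HomologicalComplex.homologyFunctor (ModuleCat A) (ComplexShape.up ℤ) i).obj E) :=
    ‹Module.Finite A (E.homology i)›
  exact Module.Finite.equiv (((DerivedCategory.homologyFunctor (ModuleCat.{u} A) i).mapIso e.symm ≪≫
    (DerivedCategory.homologyFunctorFactors _ i).app E).toLinearEquiv.symm)

end Groth.Agent.DRingLib
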