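import Groth.Agent.DRingLib.PseudoCoherent
import Groth.Agent.DComplLib.Free
import Mathlib.Algebra.Homology.DerivedCategory.TStructure

/-!
# Objects with cohomology in degrees `-1` and `0`
-/

set_option autoImplicit false
set_option linter.style.haveILetI false
set_option backward.isDefEq.respectTransparency false

universe u

open CategoryTheory Limits Pretriangulated
attribute [local instance] HasDerivedCategory.standard

noncomputable section

namespace Groth.Agent.DRingLib

open Groth.Agent.DCohLib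

variable {A : Type u} [CommRing A]

/-- Cohomology only in degrees `-1` and `0`. -/
abbrev TwoT (K : Dual.D A) : Prop := ∀ i : ℤ, i ≠ -1 → i ≠ 0 → Subsingleton (Dual.HD A K i)

/-- Modules in degree zero. -/
abbrev s0 : ModuleCat.{u} A ⥤ Dual.D A := DerivedCategory.singleFunctor (ModuleCat.{u} A) 0

theorem isLE_of_subsingleton {K : Dual.D A} {n : ℤ} (h : ∀ i, n < i → Subsingleton (Dual.HD A K i)) :
    DerivedCategory.IsLE K n :=
  (DerivedCategory.isLE_iff K n).2 fun i hi => @ModuleCat.isZero_of_subsingleton _ _ _ (h i hi)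

theorem isGE_of_subsingleton {K : Dual.D A} {n : ℤ} (h : ∀ i, i < n → Subsingleton (Dual.HD A K i)) :
    DerivedCategory.IsGE K n :=
  (DerivedCategory.isGE_iff K n).2 fun i hi => @ModuleCat.isZero_of_subsingleton _ _ _ (h i hi)

theorem TwoT.isLE {K : Dual.D A} (h : TwoT K) : DerivedCategory.IsLE K 0 :=
  isLE_of_subsingleton fun i hi => h i (by omega) (by omega)

theorem TwoT.isGE {K : Dual.D A} (h : TwoT K) : DerivedCategory.IsGE K (-1) :=
  isGE_of_subsingleton fun i hi => h i (by omega) (by omega)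

theorem subsingleton_HD_of_isLE (K : Dual.D A) (n i : ℤ) [DerivedCategory.IsLE K n] (h : n < i) :
    Subsingleton (Dual.HD A K i) :=
  ModuleCat.subsingleton_of_isZero (DerivedCategory.isZero_of_isLE K n i h)

theorem subsingleton_HD_of_isGE (K : Dual.D A) (n i : ℤ) [DerivedCategory.IsGE K n] (h : i < n) :
    Subsingleton (Dual.HD A K i) :=
  ModuleCat.subsingleton_of_isZero (DerivedCategory.isZero_of_isGE K n i h)

theorem isGE_inD_shift (N : Type u) [AddCommGroup N] [Module A N] :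
    DerivedCategory.IsGE ((Dual.inD A N)⟦(1 : ℤ)⟧) (-1) := by
  let t := (DerivedCategory.TStructure.t : Triangulated.TStructure (Dual.D A))
  haveI : t.IsGE (Dual.inD A N) 0 := inferInstanceAs (DerivedCategory.IsGE (Dual.inD A N) 0)
  exact t.isGE_shift (Dual.inD A N) 0 1 (-1)

theorem subsingleton_hom_free {X : Dual.D A} (F : ModuleCat.{u} A) [Projective F]
    (h : Subsingleton (Dual.HD A X 0)) : Subsingleton (s0.obj F ⟶ X) :=
  haveI : Subsingleton (F ⟶ (DerivedCategory.homologyFunctor (ModuleCat.{u} A) 0).obj X) :=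
    ⟨fun a b => ModuleCat.hom_ext (LinearMap.ext fun x => @Subsingleton.elim _ h _ _)⟩
  (Groth.Agent.DComplLib.bijective_toH0 F X).1.subsingleton

theorem subsingleton_HD_shift_zero (N : Type u) [AddCommGroup N] [Module A N] :
    Subsingleton (Dual.HD A ((Dual.inD A N)⟦(1 : ℤ)⟧) 0) :=
  haveI : Subsingleton (Dual.HD A (Dual.inD A N) 1) := subsingleton_HD_of_isLE _ 0 1 (by omega)
  (Groth.Agent.DComplLib.hShiftEquiv (Dual.inD A N) 1).injective.subsingleton

/-- A presentation by modules in degree zero. -/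
structure Pres (K : Dual.D A) where
  M : ModuleCat.{u} A
  F : ModuleCat.{u} A
  g : M ⟶ F
  q : s0.obj F ⟶ K
  δ : K ⟶ (s0.obj M)⟦(1 : ℤ)⟧
  dist : Triangle.mk (s0.map g) q δ ∈ distTriang (Dual.D A)
  proj : Projective F

theorem exists_pres {K : Dual.D A} (hK : TwoT K) (F : ModuleCat.{u} A) [Projective F]
    (p : F ⟶ (DerivedCategory.homologyFunctor (ModuleCat.{u} A) 0).obj K) (hp : Function.Surjective p.hom) :
    ∃ P : Pres K, P.F = F := by
  obtain ⟨q, hq⟩ := (Groth.Agent.DComplLib.bijective_toH0 F K).2 p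
  obtain ⟨W, w, h, hT⟩ := distinguished_cocone_triangle₁ q
  let H := fun i => DerivedCategory.homologyFunctor (ModuleCat.{u} A) i
  have hqsurj : Function.Surjective ((H 0).map q).hom := fun y => by
    obtain ⟨x, hx⟩ := hp y
    exact ⟨((DerivedCategory.singleFunctorCompHomologyFunctorIso (ModuleCat.{u} A) 0).inv.app F).hom x,
      (congr($(hq).hom x)).trans hx⟩
  let T := Triangle.mk w q h
  have hW : ∀ i : ℤ, i ≠ 0 → Subsingleton (Dual.HD A W i) := fun i hi => by
    haveI hF : Subsingleton (Dual.HD A (s0.obj F) i) := by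
      rcases lt_or_gt_of_ne hi with h' | h'
      · exact subsingleton_HD_of_isGE _ 0 i h'
      · exact subsingleton_HD_of_isLE _ 0 i h'
    have hex := (ShortComplex.ShortExact.moduleCat_exact_iff_function_exact _).1
      (DerivedCategory.HomologySequence.exact₁ T hT (i - 1) i)
    refine subsingleton_of_forall_eq 0 fun x => ?_
    obtain ⟨y, rfl⟩ := (hex x).1 (@Subsingleton.elim _ hF _ _)
    by_cases h1 : i = 1
    · subst h1
      obtain ⟨z, rfl⟩ := hqsurj y
      exact congr($(DerivedCategory.HomologySequence.comp_δ T hT (1 - 1) 1).hom z)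
    · have : i - 1 ≠ -1 := by omega
      exact (congrArg _ (@Subsingleton.elim _ (hK (i - 1) this (by omega)) y 0)).trans (map_zero _)
  haveI : DerivedCategory.IsGE W 0 := isGE_of_subsingleton fun i hi => hW i (by omega)
  haveI : DerivedCategory.IsLE W 0 := isLE_of_subsingleton fun i hi => hW i (by omega)
  obtain ⟨M, ⟨e⟩⟩ := DerivedCategory.exists_iso_singleFunctor_obj_of_isGE_of_isLE W 0
  obtain ⟨g, hg⟩ := s0.map_surjective (e.inv ≫ w)
  refine ⟨⟨M, F, g, q, h ≫ e.hom⟦(1 : ℤ)⟧', isomorphic_distinguished _ hT _ ?_, inferInstance⟩, rfl⟩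
  exact Triangle.isoMk _ _ e.symm (Iso.refl _) (Iso.refl _) (by simp [hg]) (by simp) (by
    simp [← Functor.map_comp])

/-- The two-term complex of a presentation. -/
def Pres.cx {K : Dual.D A} (P : Pres K) : DRing.Cx A :=
  CochainComplex.mappingCone ((CochainComplex.singleFunctor (ModuleCat.{u} A) 0).map P.g)

theorem Pres.nonempty_iso {K : Dual.D A} (P : Pres K) : Nonempty (DRing.toD P.cx ≅ K) :=
  ⟨Triangle.π₃.mapIso (isoTriangleOfIso₁₂ (DerivedCategory.Q.mapTriangle.obj
    (CochainComplex.mappingCone.triangle ((CochainComplex.singleFunctor (ModuleCat.{u} A) 0).map P.g)))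
    (Triangle.mk (s0.map P.g) P.q P.δ) (DerivedCategory.mappingCone_triangle_distinguished _) P.dist
    ((DerivedCategory.singleFunctorIsoCompQ (ModuleCat.{u} A) 0).symm.app _)
    ((DerivedCategory.singleFunctorIsoCompQ (ModuleCat.{u} A) 0).symm.app _)
    ((DerivedCategory.singleFunctorIsoCompQ (ModuleCat.{u} A) 0).inv.naturality P.g))⟩

theorem Pres.cx_vanishes {K : Dual.D A} (P : Pres K) : DRing.VanishesOutside P.cx (-1) 0 := fun i hi =>
  ((biprod_isZero_iff _ _).2 ⟨HomologicalComplex.isZero_single_obj_X _ 0 _ (i + 1) (by omega),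
    HomologicalComplex.isZero_single_obj_X _ 0 _ i (by omega)⟩).of_iso
      (HomologicalComplex.homotopyCofiber.XIsoBiprod ((CochainComplex.singleFunctor (ModuleCat.{u} A) 0).map P.g) i (i + 1) rfl)

theorem Pres.nonempty_cx_zero {K : Dual.D A} (P : Pres K) : Nonempty (P.cx.X 0 ≅ P.F) :=
  ⟨HomologicalComplex.homotopyCofiber.XIsoBiprod ((CochainComplex.singleFunctor (ModuleCat.{u} A) 0).map P.g) 0 (0 + 1) rfl ≪≫
    (isoZeroBiprod (HomologicalComplex.isZero_single_obj_X (ComplexShape.up ℤ) 0 P.M (0 + 1) (by omega))).symm ≪≫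
    HomologicalComplex.singleObjXSelf (ComplexShape.up ℤ) 0 P.F⟩

theorem Pres.nonempty_cx_negOne {K : Dual.D A} (P : Pres K) : Nonempty (P.cx.X (-1) ≅ P.M) :=
  ⟨HomologicalComplex.homotopyCofiber.XIsoBiprod ((CochainComplex.singleFunctor (ModuleCat.{u} A) 0).map P.g) (-1) 0 (by simp) ≪≫
    (isoBiprodZero (HomologicalComplex.isZero_single_obj_X (ComplexShape.up ℤ) 0 P.F (-1) (by omega))).symm ≪≫
    HomologicalComplex.singleObjXSelf (ComplexShape.up ℤ) 0 P.M⟩

theorem Pres.finite_M [IsNoetherianRing A] {K : Dual.D A} (P : Pres K) (h1 : Module.Finite A (Dual.HD A K (-1)))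
    (hF : Module.Finite A P.F) : Module.Finite A P.M := by
  let T := Triangle.mk (s0.map P.g) P.q P.δ
  let σ := DerivedCategory.singleFunctorCompHomologyFunctorIso (ModuleCat.{u} A) 0
  haveI : Module.Finite A (Dual.HD A T.obj₂ 0) := Module.Finite.equiv (M := P.F) (σ.app P.F).toLinearEquiv.symm
  haveI : Module.Finite A (Dual.HD A T.obj₃ (-1)) := h1
  haveI : IsNoetherian A (Dual.HD A T.obj₂ 0) := isNoetherian_of_isNoetherianRing_of_finite A _
  have hex := (ShortComplex.ShortExact.moduleCat_exact_iff_function_exact _).1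
    (DerivedCategory.HomologySequence.exact₁ T P.dist (-1) 0)
  let f₁ := (DerivedCategory.HomologySequence.δ T (-1) 0).hom
  let f₂ := ((DerivedCategory.homologyFunctor (ModuleCat.{u} A) 0).map T.mor₁).hom
  haveI : Module.Finite A (LinearMap.range f₁) := Module.Finite.range f₁
  haveI : Module.Finite A (LinearMap.range f₂) := Module.Finite.of_fg (IsNoetherian.noetherian _)
  have hexact : Function.Exact (LinearMap.range f₁).subtype f₂.rangeRestrict := by
    intro x
    rw [show f₂.rangeRestrict x = 0 ↔ f₂ x = 0 from Subtype.ext_iff, hex x]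
    simp [f₁]
  haveI : Module.Finite A (Dual.HD A T.obj₁ 0) := Module.Finite.of_exact hexact f₂.surjective_rangeRestrict
  haveI : Module.Finite A (Dual.HD A (s0.obj P.M) 0) := ‹Module.Finite A (Dual.HD A T.obj₁ 0)›
  exact Module.Finite.equiv (M := Dual.HD A (s0.obj P.M) 0) (σ.app P.M).toLinearEquiv

/-- Classes in `Hom(K, N[1])` come from the source of the presentation. -/
theorem Pres.exists_eq {K : Dual.D A} (P : Pres K) {N : Type u} [AddCommGroup N] [Module A N]
    (ξ : K ⟶ (Dual.inD A N)⟦(1 : ℤ)⟧) :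
    ∃ ψ : P.M ⟶ ModuleCat.of A N, ξ = P.δ ≫ (s0.map ψ)⟦(1 : ℤ)⟧' := by
  haveI := P.proj
  haveI : Subsingleton ((Triangle.mk (s0.map P.g) P.q P.δ).obj₂ ⟶ (Dual.inD A N)⟦(1 : ℤ)⟧) :=
    subsingleton_hom_free P.F (subsingleton_HD_shift_zero (A := A) N)
  obtain ⟨ψ', hψ'⟩ := (Triangle.mk (s0.map P.g) P.q P.δ).yoneda_exact₃ P.dist ξ (Subsingleton.elim _ _)
  obtain ⟨ψ'', rfl⟩ := (shiftFunctor (Dual.D A) (1 : ℤ)).map_surjective ψ'
  obtain ⟨ψ, rfl⟩ := s0.map_surjective ψ''
  exact ⟨ψ, hψ'⟩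

theorem Pres.eq_zero_iff {K : Dual.D A} (P : Pres K) {N : Type u} [AddCommGroup N] [Module A N]
    (ψ : P.M ⟶ ModuleCat.of A N) :
    P.δ ≫ (s0.map ψ)⟦(1 : ℤ)⟧' = 0 ↔ ∃ χ : P.F ⟶ ModuleCat.of A N, P.g ≫ χ = ψ := by
  let T := Triangle.mk (s0.map P.g) P.q P.δ
  constructor
  · intro h
    obtain ⟨c, hc⟩ := T.rotate.yoneda_exact₃ (rot_of_distTriang _ P.dist) _ h
    change (s0.obj P.F)⟦(1 : ℤ)⟧ ⟶ _ at c
    change (s0.map ψ)⟦(1 : ℤ)⟧' = (-(s0.map P.g)⟦(1 : ℤ)⟧') ≫ c at hc
    obtain ⟨c', rfl⟩ := (shiftFunctor (Dual.D A) (1 : ℤ)).map_surjective c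
    obtain ⟨χ, rfl⟩ := s0.map_surjective c'
    refine ⟨-χ, s0.map_injective ((shiftFunctor (Dual.D A) (1 : ℤ)).map_injective ?_)⟩
    rw [hc, Preadditive.comp_neg, Functor.map_neg, Functor.map_neg, Functor.map_comp, Functor.map_comp,
      Preadditive.neg_comp]
  · rintro ⟨χ, rfl⟩
    have h0 : P.δ ≫ (s0.map P.g)⟦(1 : ℤ)⟧' = 0 := comp_distTriang_mor_zero₃₁ T P.dist
    rw [Functor.map_comp, Functor.map_comp, ← Category.assoc, h0, zero_comp]

theorem Pres.smul_all_zero_iff {K : Dual.D A} (P : Pres K) (a : A) :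
    (∀ (N : Type u) [AddCommGroup N] [Module A N] (ξ : K ⟶ (Dual.inD A N)⟦(1 : ℤ)⟧), a • ξ = 0) ↔
      ∃ χ : P.F ⟶ P.M, P.g ≫ χ = a • 𝟙 P.M := by
  constructor
  · intro h
    refine (P.eq_zero_iff (N := P.M) (a • 𝟙 P.M)).1 ?_
    rw [Functor.map_smul, Functor.map_smul, Linear.comp_smul]
    exact h P.M _
  · rintro ⟨χ, hχ⟩ N _ _ ξ
    obtain ⟨ψ, rfl⟩ := P.exists_eq ξ
    rw [← Linear.comp_smul, ← Functor.map_smul, ← Functor.map_smul, P.eq_zero_iff]
    exact ⟨χ ≫ ψ, by rw [← Category.assoc, hχ, Linear.smul_comp, Category.id_comp]⟩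

/-- The cone of a map inducing an isomorphism on `H⁰` and a surjection on `H⁻¹`. -/
theorem cone_isLE {K K' C : Dual.D A} {α : K ⟶ K'} {π : K' ⟶ C} {δ : C ⟶ K⟦(1 : ℤ)⟧}
    (hT : Triangle.mk α π δ ∈ distTriang (Dual.D A)) (hK : TwoT K) (hK' : TwoT K')
    (h0 : IsIso ((DerivedCategory.homologyFunctor (ModuleCat.{u} A) 0).map α))
    (h1 : Epi ((DerivedCategory.homologyFunctor (ModuleCat.{u} A) (-1)).map α)) :
    DerivedCategory.IsLE C (-2) := by
  refine isLE_of_subsingleton fun i hi => ?_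
  let T := Triangle.mk α π δ
  have hex := (ShortComplex.ShortExact.moduleCat_exact_iff_function_exact _).1
    (DerivedCategory.HomologySequence.exact₃ T hT i (i + 1))
  have hδ : DerivedCategory.HomologySequence.δ T i (i + 1) = 0 := by
    refine (DerivedCategory.HomologySequence.mono_homologyMap_mor₁_iff T hT i (i + 1)).1 ?_
    by_cases hi' : i = -1
    · subst hi'
      exact inferInstanceAs (Mono ((DerivedCategory.homologyFunctor (ModuleCat.{u} A) 0).map α))
    · haveI : Subsingleton ((DerivedCategory.homologyFunctor (ModuleCat.{u} A) (i + 1)).obj T.obj₁) :=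
        hK (i + 1) (by omega) (by omega)
      exact (ModuleCat.mono_iff_injective _).2 (Function.injective_of_subsingleton _)
  refine subsingleton_of_forall_eq 0 fun x => ?_
  obtain ⟨y, rfl⟩ := (hex x).1 (congr($(hδ).hom x))
  have hzero : (DerivedCategory.homologyFunctor (ModuleCat.{u} A) i).map T.mor₂ = 0 := by
    refine (DerivedCategory.HomologySequence.epi_homologyMap_mor₁_iff T hT i).1 ?_
    by_cases hi' : i = -1
    · subst hi'; exact h1
    · by_cases hi0 : i = 0
      · subst hi0; exact inferInstanceAs (Epi ((DerivedCategory.homologyFunctor (ModuleCat.{u} A) 0).map α))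
      · haveI := hK' i (by omega) hi0
        exact (ModuleCat.epi_iff_surjective _).2 fun z => ⟨0, @Subsingleton.elim _ (hK' i (by omega) hi0) _ _⟩
  exact congr($(hzero).hom y)

theorem eq_zero_of_comp_eq_zero {K K' Y : Dual.D A} {α : K ⟶ K'} (hK : TwoT K) (hK' : TwoT K')
    (h0 : IsIso ((DerivedCategory.homologyFunctor (ModuleCat.{u} A) 0).map α))
    (h1 : Epi ((DerivedCategory.homologyFunctor (ModuleCat.{u} A) (-1)).map α))
    [DerivedCategory.IsGE Y (-1)] (ξ : K' ⟶ Y) (h : α ≫ ξ = 0) : ξ = 0 := by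
  obtain ⟨C, π, δ, hT⟩ := distinguished_cocone_triangle α
  haveI := cone_isLE hT hK hK' h0 h1
  obtain ⟨γ, rfl⟩ := (Triangle.mk α π δ).yoneda_exact₂ hT ξ h
  have hγ : γ = 0 := (DerivedCategory.TStructure.t : Triangulated.TStructure (Dual.D A)).zero_of_isLE_of_isGE γ
    (-2) (-1) (by omega) (inferInstanceAs (DerivedCategory.IsLE C (-2))) (inferInstanceAs (DerivedCategory.IsGE Y (-1)))
  rw [hγ, comp_zero]

theorem eq_zero_of_homology {n : ℤ} {W Z : Dual.D A} [DerivedCategory.IsGE W n] [DerivedCategory.IsLE W n]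
    [DerivedCategory.IsGE Z n] [DerivedCategory.IsLE Z n] (f : W ⟶ Z)
    (h : (DerivedCategory.homologyFunctor (ModuleCat.{u} A) n).map f = 0) : f = 0 := by
  obtain ⟨M, ⟨e⟩⟩ := DerivedCategory.exists_iso_singleFunctor_obj_of_isGE_of_isLE W n
  obtain ⟨M', ⟨e'⟩⟩ := DerivedCategory.exists_iso_singleFunctor_obj_of_isGE_of_isLE Z n
  obtain ⟨g, hg⟩ := (DerivedCategory.singleFunctor (ModuleCat.{u} A) n).map_surjective (e.inv ≫ f ≫ e'.hom)
  have hH : (DerivedCategory.homologyFunctor (ModuleCat.{u} A) n).map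
      ((DerivedCategory.singleFunctor (ModuleCat.{u} A) n).map g) = 0 := by
    rw [hg, Functor.map_comp, Functor.map_comp, h, zero_comp, comp_zero]
  have hg0 : g = 0 := by
    have e1 := NatIso.naturality_1 (DerivedCategory.singleFunctorCompHomologyFunctorIso (ModuleCat.{u} A) n) g
    dsimp at e1
    rw [hH, zero_comp, comp_zero] at e1
    exact e1.symm
  rw [hg0, Functor.map_zero] at hg
  rw [← cancel_epi e.inv, ← cancel_mono e'.hom, Category.assoc, comp_zero, zero_comp]
  exact hg.symm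

theorem comp_eq_zero {K₁ K₂ K₃ : Dual.D A} (φ : K₁ ⟶ K₂) (ψ : K₂ ⟶ K₃) (h₁ : TwoT K₁) (h₂ : TwoT K₂)
    (h₃ : TwoT K₃) (hφ : (DerivedCategory.homologyFunctor (ModuleCat.{u} A) 0).map φ = 0)
    (hψ : (DerivedCategory.homologyFunctor (ModuleCat.{u} A) (-1)).map ψ = 0) : φ ≫ ψ = 0 := by
  let t := (DerivedCategory.TStructure.t : Triangulated.TStructure (Dual.D A))
  let H := fun i => DerivedCategory.homologyFunctor (ModuleCat.{u} A) i
  let T : Dual.D A → Triangle (Dual.D A) := fun K => (t.triangleLTGE 0).obj K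
  have hT : ∀ K, T K ∈ distTriang (Dual.D A) := fun K => t.triangleLTGE_distinguished 0 K
  have hLE : ∀ K, DerivedCategory.IsLE (T K).obj₁ (-1) := fun K =>
    inferInstanceAs (t.IsLE ((t.truncLT 0).obj K) (0 - 1))
  have hGE : ∀ K, DerivedCategory.IsGE (T K).obj₃ 0 := fun K =>
    inferInstanceAs (t.IsGE ((t.truncGE 0).obj K) 0)
  have h3LE : ∀ K, TwoT K → DerivedCategory.IsLE (T K).obj₃ 0 := fun K hK => isLE_of_subsingleton fun i hi => by
    haveI := hLE K
    have hex := (ShortComplex.ShortExact.moduleCat_exact_iff_function_exact _).1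
      (DerivedCategory.HomologySequence.exact₃ (T K) (hT K) i (i + 1))
    refine subsingleton_of_forall_eq 0 fun x => ?_
    obtain ⟨y, rfl⟩ := (hex x).1 (@Subsingleton.elim _ (subsingleton_HD_of_isLE _ (-1) (i + 1) (by omega)) _ _)
    exact (congrArg _ (@Subsingleton.elim _ (hK i (by omega) (by omega)) y 0)).trans (map_zero _)
  have h1GE : ∀ K, TwoT K → DerivedCategory.IsGE (T K).obj₁ (-1) := fun K hK => isGE_of_subsingleton fun i hi => by
    haveI := hGE K
    have hex := (ShortComplex.ShortExact.moduleCat_exact_iff_function_exact _).1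
      (DerivedCategory.HomologySequence.exact₁ (T K) (hT K) (i - 1) i)
    refine subsingleton_of_forall_eq 0 fun x => ?_
    obtain ⟨y, rfl⟩ := (hex x).1 (@Subsingleton.elim _ (hK i (by omega) (by omega)) _ _)
    exact (congrArg _ (@Subsingleton.elim _ (subsingleton_HD_of_isGE _ 0 (i - 1) (by omega)) y 0)).trans (map_zero _)
  haveI := hLE K₁; haveI := hGE K₁; haveI := h3LE K₁ h₁
  haveI := hLE K₂; haveI := hGE K₂; haveI := h3LE K₂ h₂; haveI := h1GE K₂ h₂
  haveI := hLE K₃; haveI := hGE K₃; haveI := h1GE K₃ h₃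
  -- `φ` lands in the lower truncation
  have e₂ : φ ≫ (T K₂).mor₂ = 0 := by
    obtain ⟨g, hg⟩ := (T K₁).yoneda_exact₂ (hT K₁) (φ ≫ (T K₂).mor₂)
      (t.zero_of_isLE_of_isGE _ (-1) 0 (by omega) (inferInstanceAs (DerivedCategory.IsLE (T K₁).obj₁ (-1)))
        (inferInstanceAs (DerivedCategory.IsGE (T K₂).obj₃ 0)))
    haveI : Epi ((H 0).map (T K₁).mor₂) :=
      (DerivedCategory.HomologySequence.epi_homologyMap_mor₂_iff (T K₁) (hT K₁) 0 1 rfl).2
        ((DerivedCategory.isZero_of_isLE (T K₁).obj₁ (-1) 1 (by omega)).eq_of_tgt _ _)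
    have hg0 : g = 0 := eq_zero_of_homology (n := 0) g (by
      rw [← cancel_epi ((H 0).map (T K₁).mor₂), ← Functor.map_comp, ← hg, Functor.map_comp, hφ, zero_comp,
        comp_zero])
    rw [hg, hg0, comp_zero]
  obtain ⟨φ', hφ'⟩ := (T K₂).coyoneda_exact₂ (hT K₂) φ e₂
  obtain ⟨γ, hγ⟩ := (T K₃).coyoneda_exact₂ (hT K₃) ((T K₂).mor₁ ≫ ψ)
    (t.zero_of_isLE_of_isGE _ (-1) 0 (by omega) (inferInstanceAs (DerivedCategory.IsLE (T K₂).obj₁ (-1)))
        (inferInstanceAs (DerivedCategory.IsGE (T K₃).obj₃ 0)))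
  haveI : Mono ((H (-1)).map (T K₃).mor₁) :=
    (DerivedCategory.HomologySequence.mono_homologyMap_mor₁_iff (T K₃) (hT K₃) (-2) (-1) (by omega)).2
      ((DerivedCategory.isZero_of_isGE (T K₃).obj₃ 0 (-2) (by omega)).eq_of_src _ _)
  have hγ0 : γ = 0 := eq_zero_of_homology (n := -1) γ (by
    rw [← cancel_mono ((H (-1)).map (T K₃).mor₁), ← Functor.map_comp, ← hγ, Functor.map_comp, hψ, comp_zero,
      zero_comp])
  rw [hφ', Category.assoc, hγ, hγ0, zero_comp, comp_zero]

end Groth.Agent.DRingLib
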