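import Groth.Agent.CxGrpdLib.Basic
import Groth.Agent.DRingLib.TwoTerm

/-!
# Morphisms from a complex `≤ 0` with projective top term to a complex `≥ -1`

For such complexes the homotopy classes of maps agree with the morphisms in the derived category.
-/

set_option autoImplicit false
set_option linter.style.haveILetI false
set_option backward.isDefEq.respectTransparency false

universe u

open CategoryTheory Limits
attribute [local instance] HasDerivedCategory.standard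

noncomputable section

namespace Groth.Agent.DRingLib

variable {A : Type u} [CommRing A] {X M K : DRing.Cx A}

theorem dd_apply (X : DRing.Cx A) (i j k : ℤ) (x : X.X i) : (X.d j k).hom ((X.d i j).hom x) = 0 :=
  congr($(X.d_comp_d i j k).hom x)

theorem comm_apply (f : X ⟶ M) (i j : ℤ) (x : X.X i) :
    (M.d i j).hom ((f.f i).hom x) = (f.f j).hom ((X.d i j).hom x) :=
  congr($(f.comm i j).hom x)

/-- A chain map given by its components in degrees `-1` and `0`. -/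
def mkTwo (hM : ∀ i : ℤ, 0 < i → IsZero (M.X i)) (hK : ∀ i : ℤ, i ≤ -2 → IsZero (K.X i))
    (α : M.X (-1) ⟶ K.X (-1)) (β : M.X 0 ⟶ K.X 0) (h : α ≫ K.d (-1) 0 = M.d (-1) 0 ≫ β)
    (hα : M.d (-2) (-1) ≫ α = 0) (hβ : β ≫ K.d 0 1 = 0) : M ⟶ K where
  f i := if h₁ : i = -1 then eqToHom (by rw [h₁]) ≫ α ≫ eqToHom (by rw [h₁])
    else if h₀ : i = 0 then eqToHom (by rw [h₀]) ≫ β ≫ eqToHom (by rw [h₀]) else 0
  comm' i j hij := by
    have hj : j = i + 1 := hij.symm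
    subst hj
    by_cases h₁ : i = -1
    · subst h₁
      simpa using h
    by_cases h₀ : i = 0
    · subst h₀
      simpa using hβ
    by_cases h₂ : i = -2
    · subst h₂
      simpa using hα.symm
    rw [dif_neg h₁, dif_neg h₀, dif_neg (by omega), dif_neg (by omega), zero_comp, comp_zero]

theorem mkTwo_f_negOne (hM : ∀ i : ℤ, 0 < i → IsZero (M.X i)) (hK : ∀ i : ℤ, i ≤ -2 → IsZero (K.X i))
    (α : M.X (-1) ⟶ K.X (-1)) (β : M.X 0 ⟶ K.X 0) (h : α ≫ K.d (-1) 0 = M.d (-1) 0 ≫ β)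
    (hα : M.d (-2) (-1) ≫ α = 0) (hβ : β ≫ K.d 0 1 = 0) :
    (mkTwo hM hK α β h hα hβ).f (-1) = α := by
  simp [mkTwo]

theorem mkTwo_f_zero (hM : ∀ i : ℤ, 0 < i → IsZero (M.X i)) (hK : ∀ i : ℤ, i ≤ -2 → IsZero (K.X i))
    (α : M.X (-1) ⟶ K.X (-1)) (β : M.X 0 ⟶ K.X 0) (h : α ≫ K.d (-1) 0 = M.d (-1) 0 ≫ β)
    (hα : M.d (-2) (-1) ≫ α = 0) (hβ : β ≫ K.d 0 1 = 0) :
    (mkTwo hM hK α β h hα hβ).f 0 = β := by
  simp [mkTwo]

theorem quotient_map_eq_zero (g : X ⟶ K) (hX : ∀ i : ℤ, 0 < i → IsZero (X.X i))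
    (hK : ∀ i : ℤ, i ≤ -2 → IsZero (K.X i)) (h : X.X 0 ⟶ K.X (-1))
    (h0 : g.f 0 = h ≫ K.d (-1) 0) (h1 : g.f (-1) = X.d (-1) 0 ≫ h) :
    (HomotopyCategory.quotient _ _).map g = 0 := by
  let hom : ∀ i j : ℤ, X.X i ⟶ K.X j := fun i j =>
    if hij : i = 0 ∧ j = -1 then eqToHom (by rw [hij.1]) ≫ h ≫ eqToHom (by rw [hij.2]) else 0
  rw [← (HomotopyCategory.quotient (ModuleCat.{u} A) (ComplexShape.up ℤ)).map_zero]
  refine HomotopyCategory.eq_of_homotopy _ _ ⟨hom, fun i j hij => ?_, fun i => ?_⟩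
  · have : ¬(i = 0 ∧ j = -1) := fun ⟨a, b⟩ => hij (show j + 1 = i by omega)
    exact dif_neg this
  · rw [dNext_eq hom (show (ComplexShape.up ℤ).Rel i (i + 1) from rfl),
      prevD_eq hom (show (ComplexShape.up ℤ).Rel (i - 1) i from sub_add_cancel i 1)]
    by_cases h₁ : i = -1
    · subst h₁
      simp [hom, h1]
    by_cases h₀ : i = 0
    · subst h₀
      simp [hom, h0]
    by_cases hi : 0 < i
    · exact (hX i hi).eq_of_src _ _
    · exact (hK i (by omega)).eq_of_tgt _ _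

theorem exists_of_quotient_map_eq_zero (g : X ⟶ K) (hX : ∀ i : ℤ, 0 < i → IsZero (X.X i))
    (hK : ∀ i : ℤ, i ≤ -2 → IsZero (K.X i))
    (hg : (HomotopyCategory.quotient _ _).map g = 0) :
    ∃ h : X.X 0 ⟶ K.X (-1), g.f 0 = h ≫ K.d (-1) 0 ∧ g.f (-1) = X.d (-1) 0 ≫ h := by
  let H : Homotopy g 0 := HomotopyCategory.homotopyOfEq _ _ (hg.trans (Functor.map_zero _ _ _).symm)
  refine ⟨H.hom 0 (-1), ?_, ?_⟩
  · have hc := H.comm 0
    rw [dNext_eq H.hom (show (ComplexShape.up ℤ).Rel 0 1 from rfl),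
      prevD_eq H.hom (show (ComplexShape.up ℤ).Rel (-1) 0 from rfl)] at hc
    simpa [(hX 1 (by omega)).eq_of_tgt (X.d 0 1) 0] using hc
  · have hc := H.comm (-1)
    rw [dNext_eq H.hom (show (ComplexShape.up ℤ).Rel (-1) 0 from rfl),
      prevD_eq H.hom (show (ComplexShape.up ℤ).Rel (-2) (-1) from rfl)] at hc
    simpa [(hK (-2) (by omega)).eq_of_src (K.d (-2) (-1)) 0] using hc

section Roof

variable (s : X ⟶ M) [QuasiIso s]

/-- `(y, m) ↦ (s y + d m, d y)`. -/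
def roofL : (X.X (-1)) × (M.X (-2)) →ₗ[A] (M.X (-1)) × (X.X 0) :=
  (((s.f (-1)).hom).coprod (M.d (-2) (-1)).hom).prod ((X.d (-1) 0).hom ∘ₗ LinearMap.fst A _ _)

theorem roofL_apply (y : X.X (-1)) (m : M.X (-2)) :
    roofL s (y, m) = ((s.f (-1)).hom y + (M.d (-2) (-1)).hom m, (X.d (-1) 0).hom y) :=
  rfl

theorem mem_range_roofL (v : M.X (-1)) (w : X.X 0) (hw : (X.d 0 1).hom w = 0)
    (h : (s.f 0).hom w = (M.d (-1) 0).hom v) : (v, w) ∈ LinearMap.range (roofL s) := by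
  obtain ⟨y, rfl⟩ := (CxGrpdLib.mono_iff s (i := -1) (j := 0) (k := 1) (by simp) (by simp)).1
    inferInstance w hw ⟨v, h.symm⟩
  have hz : (M.d (-1) 0).hom (v - (s.f (-1)).hom y) = 0 := by
    rw [map_sub, comm_apply, ← h]
    exact sub_self _
  obtain ⟨y', hy', m, hm⟩ := (CxGrpdLib.epi_iff s (i := -2) (j := -1) (k := 0) (by simp) (by simp)).1
    inferInstance (v - (s.f (-1)).hom y) hz
  refine ⟨(y + y', m), ?_⟩
  rw [roofL_apply]
  simp [hy', hm]

theorem ker_roofL (g : X ⟶ K) (hK : ∀ i : ℤ, i ≤ -2 → IsZero (K.X i)) :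
    LinearMap.ker (roofL s) ≤ LinearMap.ker ((g.f (-1)).hom ∘ₗ LinearMap.fst A (X.X (-1)) (M.X (-2))) := by
  rintro ⟨y, m⟩ hp
  rw [LinearMap.mem_ker, roofL_apply, Prod.mk_eq_zero] at hp
  obtain ⟨h1, h2⟩ := hp
  obtain ⟨x, hx⟩ := (CxGrpdLib.mono_iff s (i := -2) (j := -1) (k := 0) (by simp) (by simp)).1
    inferInstance y h2 ⟨-m, (map_neg _ _).trans (eq_neg_of_add_eq_zero_left h1).symm⟩
  show (g.f (-1)).hom y = 0
  rw [← hx, ← comm_apply, (hK (-2) (by omega)).eq_of_src (K.d (-2) (-1)) 0]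
  rfl

theorem exists_roof_retraction (g : X ⟶ K) (hK : ∀ i : ℤ, i ≤ -2 → IsZero (K.X i)) :
    ∃ ψ : LinearMap.range (roofL s) →ₗ[A] K.X (-1),
      ∀ y m, ψ ⟨roofL s (y, m), LinearMap.mem_range_self _ _⟩ = (g.f (-1)).hom y := by
  refine ⟨((LinearMap.ker (roofL s)).liftQ _ (ker_roofL s g hK)) ∘ₗ
    (roofL s).quotKerEquivRange.symm.toLinearMap, fun y m => ?_⟩
  show ((LinearMap.ker (roofL s)).liftQ _ (ker_roofL s g hK)) ((roofL s).quotKerEquivRange.symm _) = _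
  rw [LinearMap.quotKerEquivRange_symm_apply_image]
  rfl

theorem exists_lift (hM : ∀ i : ℤ, 0 < i → IsZero (M.X i)) (hP : Module.Projective A (M.X 0)) :
    ∃ (σ : M.X 0 →ₗ[A] X.X 0) (τ : M.X 0 →ₗ[A] M.X (-1)),
      (∀ m, (X.d 0 1).hom (σ m) = 0) ∧ ∀ m, (s.f 0).hom (σ m) + (M.d (-1) 0).hom (τ m) = m := by
  let Φ : LinearMap.ker (X.d 0 1).hom × (M.X (-1)) →ₗ[A] M.X 0 :=
    ((s.f 0).hom ∘ₗ (LinearMap.ker (X.d 0 1).hom).subtype).coprod (M.d (-1) 0).hom
  have hΦ : Function.Surjective Φ := fun m => by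
    obtain ⟨x, hx, v, hv⟩ := (CxGrpdLib.epi_iff s (i := -1) (j := 0) (k := 1) (by simp) (by simp)).1 inferInstance m (by
        rw [(hM 1 (by omega)).eq_of_tgt (M.d 0 1) 0]; rfl)
    refine ⟨(⟨x, hx⟩, v), ?_⟩
    simp [Φ, hv]
  obtain ⟨l, hl⟩ := Module.projective_lifting_property Φ LinearMap.id hΦ
  refine ⟨(LinearMap.ker (X.d 0 1).hom).subtype ∘ₗ LinearMap.fst A _ _ ∘ₗ l, LinearMap.snd A _ _ ∘ₗ l,
    fun m => (l m).1.2, fun m => ?_⟩
  exact LinearMap.congr_fun hl m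

theorem sigma_mem {σ : M.X 0 →ₗ[A] X.X 0} {τ : M.X 0 →ₗ[A] M.X (-1)}
    (hσ : ∀ m, (X.d 0 1).hom (σ m) = 0)
    (hστ : ∀ m, (s.f 0).hom (σ m) + (M.d (-1) 0).hom (τ m) = m) (x : M.X (-1)) :
    (x - τ ((M.d (-1) 0).hom x), σ ((M.d (-1) 0).hom x)) ∈ LinearMap.range (roofL s) :=
  mem_range_roofL s _ _ (hσ _) (by rw [map_sub, eq_sub_iff_add_eq, hστ])

/-- Extension of a map of complexes along a quasi-isomorphism, up to homotopy. -/
theorem exists_extend (hX : ∀ i : ℤ, 0 < i → IsZero (X.X i)) (hM : ∀ i : ℤ, 0 < i → IsZero (M.X i))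
    (hP : Module.Projective A (M.X 0)) (hK : ∀ i : ℤ, i ≤ -2 → IsZero (K.X i)) (g : X ⟶ K) :
    ∃ a : M ⟶ K, (HomotopyCategory.quotient _ _).map (g - s ≫ a) = 0 := by
  obtain ⟨σ, τ, hσ, hστ⟩ := exists_lift s hM hP
  obtain ⟨ψ, hψ⟩ := exists_roof_retraction s g hK
  let q : M.X (-1) →ₗ[A] LinearMap.range (roofL s) :=
    LinearMap.codRestrict _ ((LinearMap.id - τ ∘ₗ (M.d (-1) 0).hom).prod (σ ∘ₗ (M.d (-1) 0).hom))
      (sigma_mem s hσ hστ)
  have hα : M.d (-2) (-1) ≫ ModuleCat.ofHom (ψ ∘ₗ q) = 0 := by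
    ext m
    have h : q ((M.d (-2) (-1)).hom m) = ⟨roofL s (0, m), LinearMap.mem_range_self _ _⟩ :=
      Subtype.ext (by simp [q, roofL_apply, dd_apply])
    show ψ (q ((M.d (-2) (-1)).hom m)) = 0
    rw [h, hψ, map_zero]
  have hdX : ∀ x : X.X 0, (X.d 0 1).hom x = 0 := fun x => by
    rw [(hX 1 (by omega)).eq_of_tgt (X.d 0 1) 0]; rfl
  let a : M ⟶ K := mkTwo hM hK (ModuleCat.ofHom (ψ ∘ₗ q)) (ModuleCat.ofHom σ ≫ g.f 0) (by
    ext x
    obtain ⟨⟨y, m⟩, hp⟩ := sigma_mem s hσ hστ x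
    have h : q x = ⟨roofL s (y, m), LinearMap.mem_range_self _ _⟩ := Subtype.ext hp.symm
    show (K.d (-1) 0).hom (ψ (q x)) = (g.f 0).hom (σ ((M.d (-1) 0).hom x))
    rw [h, hψ, comm_apply]
    exact congrArg _ (congrArg Prod.snd hp)) hα (by
    rw [Category.assoc, g.comm, (hX 1 (by omega)).eq_of_tgt (X.d 0 1) 0, zero_comp, comp_zero])
  have hmem : ∀ x : X.X 0, (τ ((s.f 0).hom x), x - σ ((s.f 0).hom x)) ∈ LinearMap.range (roofL s) :=
    fun x => mem_range_roofL s _ _ (hdX _) (by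
      rw [map_sub]
      conv_lhs => arg 1; rw [← hστ ((s.f 0).hom x)]
      exact add_sub_cancel_left _ _)
  let r : X.X 0 →ₗ[A] LinearMap.range (roofL s) :=
    LinearMap.codRestrict _ ((τ ∘ₗ (s.f 0).hom).prod (LinearMap.id - σ ∘ₗ (s.f 0).hom))
      (fun x => by simpa using hmem x)
  have ha0 : a.f 0 = ModuleCat.ofHom σ ≫ g.f 0 := mkTwo_f_zero ..
  have ha1 : a.f (-1) = ModuleCat.ofHom (ψ ∘ₗ q) := mkTwo_f_negOne ..
  refine ⟨a, quotient_map_eq_zero _ hX hK (ModuleCat.ofHom (ψ ∘ₗ r)) ?_ ?_⟩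
  · ext x
    obtain ⟨⟨y, m⟩, hp⟩ := hmem x
    have h : r x = ⟨roofL s (y, m), LinearMap.mem_range_self _ _⟩ := Subtype.ext hp.symm
    rw [HomologicalComplex.sub_f_apply, HomologicalComplex.comp_f, ha0]
    show (g.f 0).hom x - (g.f 0).hom (σ ((s.f 0).hom x)) = (K.d (-1) 0).hom (ψ (r x))
    rw [h, hψ, comm_apply]
    show _ - (g.f 0).hom (σ ((s.f 0).hom x)) = _
    rw [← map_sub]
    exact congrArg _ (congrArg Prod.snd hp).symm
  · ext x
    have h : q ((s.f (-1)).hom x) + r ((X.d (-1) 0).hom x) = ⟨roofL s (x, 0), LinearMap.mem_range_self _ _⟩ :=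
      Subtype.ext (by simp [q, r, roofL_apply, comm_apply])
    rw [HomologicalComplex.sub_f_apply, HomologicalComplex.comp_f, ha1]
    show (g.f (-1)).hom x - ψ (q ((s.f (-1)).hom x)) = ψ (r ((X.d (-1) 0).hom x))
    rw [← hψ x 0, ← h, map_add]
    exact add_sub_cancel_left _ _

theorem null_of_comp_null (hM : ∀ i : ℤ, 0 < i → IsZero (M.X i)) (hP : Module.Projective A (M.X 0))
    (hK : ∀ i : ℤ, i ≤ -2 → IsZero (K.X i)) (a : M ⟶ K)
    (h : (HomotopyCategory.quotient _ _).map (s ≫ a) = 0) :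
    (HomotopyCategory.quotient _ _).map a = 0 := by
  let H : Homotopy (s ≫ a) 0 := HomotopyCategory.homotopyOfEq _ _ (h.trans (Functor.map_zero _ _ _).symm)
  obtain ⟨σ, τ, hσ, hστ⟩ := exists_lift s hM hP
  have c0 : ∀ x, (a.f 0).hom ((s.f 0).hom x) =
      (H.hom 1 0).hom ((X.d 0 1).hom x) + (K.d (-1) 0).hom ((H.hom 0 (-1)).hom x) := fun x => by
    have hc := H.comm 0
    rw [dNext_eq H.hom (show (ComplexShape.up ℤ).Rel 0 1 from rfl),
      prevD_eq H.hom (show (ComplexShape.up ℤ).Rel (-1) 0 from rfl)] at hc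
    simpa using congr($(hc).hom x)
  have c1 : ∀ x, (a.f (-1)).hom ((s.f (-1)).hom x) = (H.hom 0 (-1)).hom ((X.d (-1) 0).hom x) := fun x => by
    have hc := H.comm (-1)
    rw [dNext_eq H.hom (show (ComplexShape.up ℤ).Rel (-1) 0 from rfl),
      prevD_eq H.hom (show (ComplexShape.up ℤ).Rel (-2) (-1) from rfl),
      (hK (-2) (by omega)).eq_of_src (K.d (-2) (-1)) 0] at hc
    simpa using congr($(hc).hom x)
  refine quotient_map_eq_zero a hM hK (ModuleCat.ofHom ((H.hom 0 (-1)).hom ∘ₗ σ + (a.f (-1)).hom ∘ₗ τ)) ?_ ?_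
  · ext m
    show (a.f 0).hom m = (K.d (-1) 0).hom ((H.hom 0 (-1)).hom (σ m) + (a.f (-1)).hom (τ m))
    rw [map_add, comm_apply]
    conv_lhs => rw [← hστ m]
    rw [map_add, c0, hσ, map_zero, zero_add]
  · ext x
    show (a.f (-1)).hom x = (H.hom 0 (-1)).hom (σ ((M.d (-1) 0).hom x)) + (a.f (-1)).hom (τ ((M.d (-1) 0).hom x))
    obtain ⟨⟨y, m⟩, hp⟩ := sigma_mem s hσ hστ x
    rw [roofL_apply, Prod.mk.injEq] at hp
    rw [← hp.2, ← c1, ← map_add]
    have : (a.f (-1)).hom ((M.d (-2) (-1)).hom m) = 0 := by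
      rw [← comm_apply, (hK (-2) (by omega)).eq_of_src (K.d (-2) (-1)) 0]; rfl
    conv_lhs => rw [← sub_add_cancel x (τ ((M.d (-1) 0).hom x)), ← hp.1]
    rw [map_add, map_add, this, add_zero, ← map_add]

end Roof

theorem bijective_Qh_map (hM : ∀ i : ℤ, 0 < i → IsZero (M.X i)) (hM0 : Module.Projective A (M.X 0))
    (hK : ∀ i : ℤ, i ≤ -2 → IsZero (K.X i)) :
    Function.Bijective (fun φ : (HomotopyCategory.quotient (ModuleCat.{u} A) (ComplexShape.up ℤ)).obj M ⟶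
        (HomotopyCategory.quotient (ModuleCat.{u} A) (ComplexShape.up ℤ)).obj K => DerivedCategory.Qh.map φ) := by
  constructor
  · intro φ₁ φ₂ hφ
    obtain ⟨a₁, rfl⟩ := (HomotopyCategory.quotient _ _).map_surjective φ₁
    obtain ⟨a₂, rfl⟩ := (HomotopyCategory.quotient _ _).map_surjective φ₂
    obtain ⟨Z, t, ht, hts⟩ :=
      (MorphismProperty.map_eq_iff_precomp DerivedCategory.Qh (HomotopyCategory.quasiIso _ _) _ _).1 hφ
    obtain ⟨X, rfl⟩ := HomotopyCategory.quotient_obj_surjective Z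
    obtain ⟨s, rfl⟩ := (HomotopyCategory.quotient _ _).map_surjective t
    haveI : QuasiIso s := (HomotopyCategory.quotient_map_mem_quasiIso_iff s).1 ht
    rw [← sub_eq_zero, ← Functor.map_sub]
    refine null_of_comp_null s hM hM0 hK _ ?_
    rw [Preadditive.comp_sub, Functor.map_sub, Functor.map_comp, Functor.map_comp, hts, sub_self]
  · intro f
    haveI : CochainComplex.IsStrictlyLE M 0 := (CochainComplex.isStrictlyLE_iff M 0).2 hM
    let f' : DerivedCategory.Q.obj M ⟶ DerivedCategory.Q.obj K := f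
    obtain ⟨X, hX, s, hs, g, hf⟩ := DerivedCategory.right_fac_of_isStrictlyLE f' 0
    haveI : QuasiIso s := (DerivedCategory.isIso_Q_map_iff_quasiIso (φ := s)).1 hs
    obtain ⟨a, ha⟩ := exists_extend s (fun i hi => CochainComplex.isZero_of_isStrictlyLE X 0 i hi) hM hM0 hK g
    refine ⟨(HomotopyCategory.quotient _ _).map a, ?_⟩
    have h' : DerivedCategory.Qh.map ((HomotopyCategory.quotient _ _).map g) =
        DerivedCategory.Qh.map ((HomotopyCategory.quotient _ _).map (s ≫ a)) := by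
      rw [Functor.map_sub, sub_eq_zero] at ha
      rw [ha]
    have h'' : DerivedCategory.Q.map g = DerivedCategory.Q.map (s ≫ a) := h'
    show DerivedCategory.Q.map a = f'
    rw [hf, h'', Functor.map_comp, IsIso.inv_hom_id_assoc]

theorem Q_map_eq_zero_iff (hM : ∀ i : ℤ, 0 < i → IsZero (M.X i)) (hM0 : Module.Projective A (M.X 0))
    (hK : ∀ i : ℤ, i ≤ -2 → IsZero (K.X i)) (a : M ⟶ K) :
    DerivedCategory.Q.map a = 0 ↔
      ∃ h : M.X 0 ⟶ K.X (-1), a.f 0 = h ≫ K.d (-1) 0 ∧ a.f (-1) = M.d (-1) 0 ≫ h := by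
  constructor
  · intro ha
    refine exists_of_quotient_map_eq_zero a hM hK ((bijective_Qh_map hM hM0 hK).1 ?_)
    show DerivedCategory.Q.map a = DerivedCategory.Qh.map 0
    rw [ha, Functor.map_zero]
  · rintro ⟨h, h0, h1⟩
    have := congrArg (fun φ => DerivedCategory.Qh.map φ) (quotient_map_eq_zero a hM hK h h0 h1)
    rw [Functor.map_zero] at this
    exact this

/-- `N[1]` as a complex concentrated in degree `-1`. -/
def shiftOneIso (N : ModuleCat.{u} A) :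
    DRing.toD ((HomologicalComplex.single (ModuleCat.{u} A) (ComplexShape.up ℤ) (-1)).obj N) ≅
      (Dual.inD A N)⟦(1 : ℤ)⟧ :=
  (((DerivedCategory.singleFunctors (ModuleCat.{u} A)).shiftIso (1 : ℤ) (-1) 0 (by omega)).app N).symm

theorem comp_eq_zero_iff_exists (hM : ∀ i : ℤ, 0 < i → IsZero (M.X i)) (hM0 : Module.Projective A (M.X 0))
    (hK : ∀ i : ℤ, i ≠ -1 → i ≠ 0 → IsZero (K.X i)) (hK0 : Module.Projective A (K.X 0)) (a : M ⟶ K) :
    (∀ (N : Type u) [AddCommGroup N] [Module A N] (ξ : DRing.toD K ⟶ (Dual.inD A N)⟦(1 : ℤ)⟧),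
        DerivedCategory.Q.map a ≫ ξ = 0) ↔
      ∃ h : M.X 0 ⟶ K.X (-1), a.f (-1) + M.d (-1) 0 ≫ h = 0 := by
  have hK' : ∀ i : ℤ, i ≤ -2 → IsZero (K.X i) := fun i hi => hK i (by omega) (by omega)
  have hKle : ∀ i : ℤ, 0 < i → IsZero (K.X i) := fun i hi => hK i (by omega) (by omega)
  constructor
  · intro H
    let S : DRing.Cx A := (HomologicalComplex.single _ _ (-1)).obj (K.X (-1))
    let π : K ⟶ S := HomologicalComplex.mkHomToSingle (𝟙 _) fun i hi => (hK' i (by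
      simp only [ComplexShape.up_Rel] at hi; omega)).eq_of_src _ _
    have h0 : DerivedCategory.Q.map a ≫ DerivedCategory.Q.map π = 0 :=
      (Iso.cancel_iso_hom_right _ _ (shiftOneIso (K.X (-1)))).1
        (((Category.assoc _ _ _).trans (H _ _)).trans zero_comp.symm)
    rw [← Functor.map_comp] at h0
    obtain ⟨h, -, h1⟩ := (Q_map_eq_zero_iff hM hM0
      (fun i hi => HomologicalComplex.isZero_single_obj_X _ _ _ _ (by omega)) (a ≫ π)).1 h0
    refine ⟨-(h ≫ (HomologicalComplex.singleObjXSelf (ComplexShape.up ℤ) (-1) _).hom), ?_⟩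
    have h2 := congrArg (· ≫ (HomologicalComplex.singleObjXSelf (ComplexShape.up ℤ) (-1) _).hom) h1
    simp only [π, HomologicalComplex.comp_f, HomologicalComplex.mkHomToSingle_f, Category.assoc,
      Iso.inv_hom_id, Category.comp_id, Category.id_comp] at h2
    rw [h2, Preadditive.comp_neg, add_neg_cancel]
  · rintro ⟨h, hh⟩ N _ _ ξ
    let S : DRing.Cx A := (HomologicalComplex.single _ _ (-1)).obj (ModuleCat.of A N)
    have hS : ∀ i : ℤ, i ≤ -2 → IsZero (S.X i) :=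
      fun i hi => HomologicalComplex.isZero_single_obj_X _ _ _ _ (by omega)
    obtain ⟨φ, hφ⟩ := (bijective_Qh_map hKle hK0 hS).2 (ξ ≫ (shiftOneIso (ModuleCat.of A N)).inv)
    obtain ⟨p, rfl⟩ := (HomotopyCategory.quotient _ _).map_surjective φ
    have hz : DerivedCategory.Q.map (a ≫ p) = 0 := by
      refine (Q_map_eq_zero_iff hM hM0 hS _).2 ⟨-h ≫ p.f (-1), ?_, ?_⟩
      · exact (HomologicalComplex.isZero_single_obj_X _ _ _ _ (by omega)).eq_of_tgt _ _
      · rw [HomologicalComplex.comp_f, eq_neg_of_add_eq_zero_left hh]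
        simp
    rw [Functor.map_comp] at hz
    rw [← cancel_mono (shiftOneIso (ModuleCat.of A N)).inv, zero_comp, Category.assoc]
    exact (congrArg (DerivedCategory.Q.map a ≫ ·) hφ).symm.trans hz

end Groth.Agent.DRingLib
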