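import Groth.Agent.DRingLib.TensorPerfect
import Groth.Agent.DRingLib.TensorAmp
import Groth.Agent.DRingLib.Descent
import Groth.Agent.DRingLib.FlatCoker
import Groth.Agent.DRingLib.HomKFlat
import Groth.Agent.CAlgBasics.FlatAux
import Mathlib.RingTheory.Flat.Equalizer

/-!
# Tor amplitude bounded below
-/

set_option autoImplicit false
set_option linter.style.haveILetI false
set_option backward.isDefEq.respectTransparency false

universe u

open CategoryTheory Limits MonoidalCategory

attribute [local instance] HasDerivedCategory.standard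

noncomputable section

namespace Groth.Agent.DRingLib

open Groth.Agent.DCohLib Groth.Agent.DTenLib

variable {R : Type u} [CommRing R]

theorem nonempty_tensM_iso_LTensorCx (K : DRing.Cx R) [DRing.HasLTensorCx R K] {N : DRing.Cx R}
    (hN : DRing.IsKFlat R N) (e : DRing.toD N ≅ DRing.toD K) (M : ModuleCat.{u} R) :
    Nonempty (DRing.toD ((tensM M).obj N) ≅ (DRing.LTensorCx R K).obj
      (DRing.toD ((HomologicalComplex.single (ModuleCat.{u} R) (ComplexShape.up ℤ) 0).obj M))) := by
  haveI := hasLTen R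
  let S := (HomologicalComplex.single (ModuleCat.{u} R) (ComplexShape.up ℤ) 0).obj M
  let X := (resA R).obj S
  let eX : DRing.toD X ≅ DRing.toD S :=
    @asIso _ _ _ _ (DerivedCategory.Q.map ((resAπ R).app S)) (isIso_Q_map _ (quasiIso_resAπ S))
  obtain ⟨e₁⟩ := nonempty_LTensorCx_iso K (Y := N) (isKFlat_resA S) eX e
  obtain ⟨e₂⟩ := nonempty_tensorLeft_iso M hN
  haveI := isIso_ε_right X N hN
  exact ⟨e₂ ≪≫ (DTen.LTen₂ R).mapIso (Iso.prod eX.symm (Iso.refl _)) ≪≫ asIso ((DTen.ε R).app (X, N)) ≪≫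
    DerivedCategory.Q.mapIso (DTen.braidCx N X).symm ≪≫ e₁⟩

theorem exactAt_iff_subsingleton_LTensorCx (K : DRing.Cx R) [DRing.HasLTensorCx R K] {N : DRing.Cx R}
    (hN : DRing.IsKFlat R N) (e : DRing.toD N ≅ DRing.toD K) (M : ModuleCat.{u} R) (i : ℤ) :
    ((tensM M).obj N).ExactAt i ↔ Subsingleton (Dual.HD R ((DRing.LTensorCx R K).obj
      (DRing.toD ((CochainComplex.singleFunctor (ModuleCat.{u} R) 0).obj M))) i) := by
  obtain ⟨e'⟩ := nonempty_tensM_iso_LTensorCx K hN e M
  rw [exactAt_iff_isZero_homologyFunctor]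
  exact ⟨fun h => ModuleCat.subsingleton_of_isZero
      (h.of_iso ((DerivedCategory.homologyFunctor (ModuleCat.{u} R) i).mapIso e').symm),
    fun h => (@ModuleCat.isZero_of_subsingleton _ _ _ h).of_iso
      ((DerivedCategory.homologyFunctor (ModuleCat.{u} R) i).mapIso e')⟩

theorem shortExact_tensorLeft_of_flat (M : ModuleCat.{u} R) {S : ShortComplex (ModuleCat.{u} R)} (hS : S.ShortExact)
    (h₃ : Module.Flat R S.X₃) : (S.map (tensorLeft M)).ShortExact := by
  haveI := h₃
  have hi : Function.Injective S.f.hom := (ModuleCat.mono_iff_injective _).1 hS.mono_f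
  have hs : Function.Surjective S.g.hom := (ModuleCat.epi_iff_surjective _).1 hS.epi_g
  have hex : Function.Exact S.f.hom S.g.hom :=
    (ShortComplex.ShortExact.moduleCat_exact_iff_function_exact S).1 hS.exact
  exact
    { exact := (ShortComplex.ShortExact.moduleCat_exact_iff_function_exact _).2 (lTensor_exact M hex hs)
      mono_f := (ModuleCat.mono_iff_injective _).2
        (LinearMap.lTensor_injective_of_exact_of_flat _ hs _ hi hex M)
      epi_g := (ModuleCat.epi_iff_surjective _).2 (LinearMap.lTensor_surjective M hs) }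

/-- Two out of three for short exact sequences with flat last terms. -/
theorem isKFlat_X₃_of_shortExact {S : ShortComplex (DRing.Cx R)} (hS : S.ShortExact)
    (h₃ : DRing.TermwiseFlat S.X₃) (h1 : DRing.IsKFlat R S.X₁) (h2 : DRing.IsKFlat R S.X₂) :
    DRing.IsKFlat R S.X₃ := by
  rw [DTenLib.isKFlat_iff] at h1 h2 ⊢
  refine (KFlat.twoOfThree (tF R) S fun L => KFlat.shortExact_tot (tF R) L S fun p q => ?_).1 h1 h2
  have hq := hS.map_of_exact (HomologicalComplex.eval (ModuleCat.{u} R) (ComplexShape.up ℤ) q)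
  exact shortExact_tensorLeft_of_flat (L.X p) hq (h₃ q)

theorem isIso_πTruncGE_f (N : DRing.Cx R) (a i : ℤ) (hi : a < i) : IsIso ((N.πTruncGE a).f i) := by
  obtain ⟨k, rfl⟩ := Int.le.dest hi.le
  show IsIso ((HomologicalComplex.πTruncGE N (ComplexShape.embeddingUpIntGE a)).f (a + k))
  unfold HomologicalComplex.πTruncGE
  rw [(ComplexShape.embeddingUpIntGE a).isIso_liftExtend_f_iff _ _ (i := k) (by simp)]
  refine N.isIso_restrictionToTruncGE' _ k ?_
  rw [ComplexShape.boundaryGE_embeddingUpIntGE_iff]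
  omega

theorem isZero_X₁_of_isIso {S : ShortComplex (ModuleCat.{u} R)} (hS : S.ShortExact) (h : IsIso S.g) :
    IsZero S.X₁ := by
  haveI := hS.mono_f
  haveI := h
  rw [IsZero.iff_id_eq_zero, ← cancel_mono S.f, ← cancel_mono S.g]
  simp [S.zero]

theorem flat_X₁_of_shortExact {S : ShortComplex (ModuleCat.{u} R)} (hS : S.ShortExact) (h2 : Module.Flat R S.X₂)
    (h3 : Module.Flat R S.X₃) : Module.Flat R S.X₁ :=
  haveI := h2
  haveI := h3
  CAlgBasics.flat_ker_of_exact ((ModuleCat.mono_iff_injective _).1 hS.mono_f)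
    ((ShortComplex.ShortExact.moduleCat_exact_iff_function_exact S).1 hS.exact)
    ((ModuleCat.epi_iff_surjective _).1 hS.epi_g)

/-- A termwise flat quotient of a K-flat complex, equal to it in large degrees, is K-flat. -/
theorem isKFlat_X₃_of_flat {S : ShortComplex (DRing.Cx R)} (hS : S.ShortExact) (h2 : DRing.IsKFlat R S.X₂)
    (hflat : DRing.TermwiseFlat S.X₂) (h3 : DRing.TermwiseFlat S.X₃) (a : ℤ)
    (hiso : ∀ i, a < i → IsIso (S.g.f i)) : DRing.IsKFlat R S.X₃ := by
  have hq : ∀ q, (S.map (HomologicalComplex.eval (ModuleCat.{u} R) (ComplexShape.up ℤ) q)).ShortExact := fun q =>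
    hS.map_of_exact _
  refine isKFlat_X₃_of_shortExact hS h3 (isKFlat_of_vanishesAbove (b := a) ?_ ?_) h2
  · exact fun i hi => isZero_X₁_of_isIso (hq i) (hiso i hi)
  · exact fun i => flat_X₁_of_shortExact (hq i) (hflat i) (h3 i)

theorem isKFlat_of_epi {N E : DRing.Cx R} (π : N ⟶ E) (hπ : Epi π) (hN : DRing.IsKFlat R N)
    (hflat : DRing.TermwiseFlat N) (hE : DRing.TermwiseFlat E) (a : ℤ) (hiso : ∀ i, a < i → IsIso (π.f i)) :
    DRing.IsKFlat R E := by
  have hS : (ShortComplex.mk (kernel.ι π) π (kernel.condition π)).ShortExact :=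
    { exact := ShortComplex.exact_kernel _
      mono_f := inferInstanceAs (Mono (kernel.ι π))
      epi_g := hπ }
  exact @isKFlat_X₃_of_flat R _ (ShortComplex.mk (kernel.ι π) π (kernel.condition π)) hS hN hflat hE a hiso

/-- A complex with flat terms and flat cokernel in degree `a`, K-flat, has K-flat truncation. -/
theorem flat_kflat_truncGE {N : DRing.Cx R} (hN : DRing.IsKFlat R N) (hflat : DRing.TermwiseFlat N) (a : ℤ)
    (hop : Module.Flat R (N.opcycles a)) :
    DRing.IsKFlat R (N.truncGE a) ∧ DRing.TermwiseFlat (N.truncGE a) := by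
  have hE : DRing.TermwiseFlat (N.truncGE a) := fun j => by
    rcases lt_trichotomy j a with hj | rfl | hj
    · haveI := ModuleCat.subsingleton_of_isZero (CochainComplex.isZero_of_isStrictlyGE (N.truncGE a) a j hj)
      infer_instance
    · haveI := hop
      exact Module.Flat.of_linearEquiv (CochainComplex.truncGEXIsoOpcycles N j).toLinearEquiv
    · haveI := hflat j
      exact Module.Flat.of_linearEquiv (CochainComplex.truncGEXIso N a j hj).toLinearEquiv
  exact ⟨isKFlat_of_epi (N.πTruncGE a)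
    (inferInstanceAs (Epi (HomologicalComplex.πTruncGE N (ComplexShape.embeddingUpIntGE a)))) hN hflat hE a
    (fun i hi => isIso_πTruncGE_f N a i hi), hE⟩

theorem torGE_iff (a : ℤ) (K : DRing.Cx R) [DRing.HasLTensorCx R K] :
    (∀ (M : ModuleCat.{u} R) (i : ℤ), i < a →
        Subsingleton (Dual.HD R ((DRing.LTensorCx R K).obj
          (DRing.toD ((CochainComplex.singleFunctor (ModuleCat.{u} R) 0).obj M))) i)) ↔
      ∃ E : DRing.Cx R, DRing.IsKFlat R E ∧ DRing.TermwiseFlat E ∧ (∀ i : ℤ, i < a → IsZero (E.X i)) ∧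
        Nonempty (DRing.toD E ≅ DRing.toD K) := by
  constructor
  · intro h
    obtain ⟨N, hN, hflat, ⟨e⟩⟩ := exists_kflat_representative (DRing.toD K)
    have hex : ∀ (M : ModuleCat.{u} R) (i : ℤ), i < a → ((tensM M).obj N).ExactAt i := fun M i hi =>
      (exactAt_iff_subsingleton_LTensorCx K hN e M i).2 (h M i hi)
    have hop : Module.Flat R (N.opcycles a) := by
      haveI := hflat a
      haveI : Module.Flat R (N.X a ⧸ LinearMap.range (N.d (a - 1) a).hom) := by
        refine flat_quotient_range_of_exact (N.d (a - 1 - 1) (a - 1)).hom (N.d (a - 1) a).hom fun M _ _ => ?_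
        have h' := hex (ModuleCat.of R M) (a - 1) (by omega)
        rw [HomologicalComplex.exactAt_iff' _ (a - 1 - 1) (a - 1) a (by simp) (by simp),
          ShortComplex.ShortExact.moduleCat_exact_iff_function_exact] at h'
        exact h'
      obtain ⟨e'⟩ := opcycles_equiv N a
      exact Module.Flat.of_linearEquiv e'.symm
    haveI : N.IsGE a := (CochainComplex.isGE_iff _ _).2 fun i hi => (hex _ i hi).of_iso (tensUnitIso N)
    haveI : QuasiIso (N.πTruncGE a) := (CochainComplex.quasiIso_πTruncGE_iff N a).2 inferInstance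
    obtain ⟨h1, h2⟩ := flat_kflat_truncGE hN hflat a hop
    exact ⟨N.truncGE a, h1, h2, fun i hi => CochainComplex.isZero_of_isStrictlyGE _ a i hi,
      ⟨(@asIso _ _ _ _ (DerivedCategory.Q.map (N.πTruncGE a)) (isIso_Q_map _ inferInstance)).symm ≪≫ e⟩⟩
  · rintro ⟨E, hE, -, h0, ⟨e⟩⟩ M i hi
    exact (exactAt_iff_subsingleton_LTensorCx K hE e M i).1
      (ShortComplex.exact_of_isZero_X₂ _ ((tensorLeft M).map_isZero (h0 i hi)))

end Groth.Agent.DRingLib
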