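import Groth.Agent.DRingLib.TwoTerm
import Mathlib.Algebra.Homology.HomotopyCategory.HomComplexSingle

/-!
# Ext classes of two-term objects
-/

set_option autoImplicit false
set_option linter.style.haveILetI false
set_option backward.isDefEq.respectTransparency false

universe u

open CategoryTheory Limits Pretriangulated CochainComplex CochainComplex.HomComplex
attribute [local instance] HasDerivedCategory.standard

noncomputable section

namespace Groth.Agent.DRingLib

open Groth.Agent.DCohLib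

variable {A : Type u} [CommRing A]

section Cone

variable {M F : ModuleCat.{u} A} (g : M ⟶ F)

/-- The complex `M → F` in degrees `-1`, `0`. -/
abbrev twoCx : DRing.Cx A := mappingCone ((singleFunctor (ModuleCat.{u} A) 0).map g)

/-- `M` in degree `-1` of `twoCx g`. -/
def inM : M ⟶ (twoCx g).X (-1) :=
  (HomologicalComplex.singleObjXSelf (ComplexShape.up ℤ) 0 M).inv ≫
    (mappingCone.inl ((singleFunctor (ModuleCat.{u} A) 0).map g)).v 0 (-1) (by omega)

/-- `F` in degree `0` of `twoCx g`. -/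
def inF : F ⟶ (twoCx g).X 0 :=
  (HomologicalComplex.singleObjXSelf (ComplexShape.up ℤ) 0 F).inv ≫
    (mappingCone.inr ((singleFunctor (ModuleCat.{u} A) 0).map g)).f 0

theorem isIso_inM : IsIso (inM g) := by
  let φ := (singleFunctor (ModuleCat.{u} A) 0).map g
  refine ⟨(mappingCone.fst φ).1.v (-1) 0 (by omega) ≫ (HomologicalComplex.singleObjXSelf (ComplexShape.up ℤ) 0 M).hom,
    ?_, ?_⟩
  · rw [inM, Category.assoc, mappingCone.inl_v_fst_v_assoc, Iso.inv_hom_id]
  · rw [inM, Category.assoc, Iso.hom_inv_id_assoc]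
    have h := mappingCone.id_X φ (-1) 0 (by omega)
    have z : (mappingCone.snd φ).v (-1) (-1) (add_zero (-1)) = 0 :=
      (HomologicalComplex.isZero_single_obj_X _ _ _ _ (by omega)).eq_of_tgt _ _
    rw [z, zero_comp, add_zero] at h
    exact h

theorem isIso_inF : IsIso (inF g) := by
  let φ := (singleFunctor (ModuleCat.{u} A) 0).map g
  refine ⟨(mappingCone.snd φ).v 0 0 (add_zero 0) ≫ (HomologicalComplex.singleObjXSelf (ComplexShape.up ℤ) 0 F).hom,
    ?_, ?_⟩
  · rw [inF, Category.assoc, mappingCone.inr_f_snd_v_assoc, Iso.inv_hom_id]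
  · rw [inF, Category.assoc, Iso.hom_inv_id_assoc]
    have h := mappingCone.id_X φ 0 1 rfl
    have z : (mappingCone.fst φ).1.v 0 1 rfl = 0 :=
      (HomologicalComplex.isZero_single_obj_X _ _ _ _ (by omega)).eq_of_tgt _ _
    rw [z, zero_comp, zero_add] at h
    exact h

theorem inM_d : inM g ≫ (twoCx g).d (-1) 0 = g ≫ inF g := by
  let φ := (singleFunctor (ModuleCat.{u} A) 0).map g
  have hf : φ.f 0 = (HomologicalComplex.singleObjXSelf (ComplexShape.up ℤ) 0 M).hom ≫ g ≫
      (HomologicalComplex.singleObjXSelf (ComplexShape.up ℤ) 0 F).inv :=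
    HomologicalComplex.single_map_f_self (ComplexShape.up ℤ) 0 g
  rw [inM, inF, Category.assoc, mappingCone.inl_v_d φ 0 (-1) 1 (by omega) (by omega), hf,
    show ((singleFunctor (ModuleCat.{u} A) 0).obj M).d 0 1 = 0 from HomologicalComplex.single_obj_d _ _ _ _ _,
    zero_comp, sub_zero]
  simp
  rfl

/-- A map to a complex with terms only in degrees `≤ 0` from `twoCx`. -/
def fromTwoCx (E : DRing.Cx A) (a : M ⟶ E.X (-1)) (b : F ⟶ E.X 0) (hE : IsZero (E.X 1))
    (h : g ≫ b = a ≫ E.d (-1) 0) : twoCx g ⟶ E :=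
  mappingCone.desc _ (Cochain.fromSingleMk a (zero_add (-1)))
    (HomologicalComplex.mkHomFromSingle b fun j hj =>
      (show IsZero (E.X j) by
        have : j = 1 := by simp only [ComplexShape.up_Rel] at hj; omega
        exact this ▸ hE).eq_of_tgt _ _)
    (by
      rw [Cochain.δ_fromSingleMk _ _ 0 0 (add_zero 0), ← h]
      apply (Cochain.fromSingleEquiv (zero_add 0)).injective
      simp [Cochain.fromSingleEquiv, singleFunctor, singleFunctors, HomologicalComplex.single_map_f_self,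
        HomologicalComplex.mkHomFromSingle_f])

theorem inM_fromTwoCx (E : DRing.Cx A) (a : M ⟶ E.X (-1)) (b : F ⟶ E.X 0) (hE : IsZero (E.X 1))
    (h : g ≫ b = a ≫ E.d (-1) 0) : inM g ≫ (fromTwoCx g E a b hE h).f (-1) = a := by
  simp [inM, fromTwoCx]

theorem inF_fromTwoCx (E : DRing.Cx A) (a : M ⟶ E.X (-1)) (b : F ⟶ E.X 0) (hE : IsZero (E.X 1))
    (h : g ≫ b = a ≫ E.d (-1) 0) : inF g ≫ (fromTwoCx g E a b hE h).f 0 = b := by
  simp [inF, fromTwoCx, HomologicalComplex.mkHomFromSingle_f]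

theorem isZero_twoCx (i : ℤ) (hi : i < -1 ∨ 0 < i) : IsZero ((twoCx g).X i) :=
  ((biprod_isZero_iff _ _).2 ⟨HomologicalComplex.isZero_single_obj_X _ 0 _ (i + 1) (by omega),
    HomologicalComplex.isZero_single_obj_X _ 0 _ i (by omega)⟩).of_iso
      (HomologicalComplex.homotopyCofiber.XIsoBiprod ((singleFunctor (ModuleCat.{u} A) 0).map g) i (i + 1) rfl)

end Cone

/-- Presentation by the differential. -/
theorem exists_pres_of_cx {K : Dual.D A} {E : DRing.Cx A} (hE : DRing.VanishesOutside E (-1) 0)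
    (hP : Module.Projective A (E.X 0)) (e : DRing.toD E ≅ K) :
    ∃ P : Pres K, ∃ (a : P.M ≅ E.X (-1)) (b : P.F ≅ E.X 0), P.g ≫ b.hom = a.hom ≫ E.d (-1) 0 := by
  let g := E.d (-1) 0
  let Ψ := fromTwoCx g E (𝟙 _) (𝟙 _) (hE 1 (by omega)) (by simp [g])
  haveI : ∀ i, IsIso (Ψ.f i) := fun i => by
    by_cases h1 : i = -1
    · subst h1
      haveI := isIso_inM g
      have h := inM_fromTwoCx g E (𝟙 _) (𝟙 _) (hE 1 (by omega)) (by simp [g])
      haveI : IsIso (inM g ≫ Ψ.f (-1)) := by rw [h]; infer_instance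
      exact IsIso.of_isIso_comp_left (inM g) _
    · by_cases h0 : i = 0
      · subst h0
        haveI := isIso_inF g
        have h := inF_fromTwoCx g E (𝟙 _) (𝟙 _) (hE 1 (by omega)) (by simp [g])
        haveI : IsIso (inF g ≫ Ψ.f 0) := by rw [h]; infer_instance
        exact IsIso.of_isIso_comp_left (inF g) _
      · exact ⟨0, (isZero_twoCx g i (by omega)).eq_of_src _ _, (hE i (by omega)).eq_of_src _ _⟩
  haveI := HomologicalComplex.Hom.isIso_of_components Ψ
  let φ := (singleFunctor (ModuleCat.{u} A) 0).map g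
  let T := DerivedCategory.Q.mapTriangle.obj (mappingCone.triangle φ)
  let eK : T.obj₃ ≅ K := DerivedCategory.Q.mapIso (asIso Ψ) ≪≫ e
  haveI : Projective (E.X 0) := by
    haveI := hP
    exact ModuleCat.projective_of_categoryTheory_projective (E.X 0)
  refine ⟨⟨E.X (-1), E.X 0, g, T.mor₂ ≫ eK.hom, eK.inv ≫ T.mor₃,
    isomorphic_distinguished _ (DerivedCategory.mappingCone_triangle_distinguished φ) _ ?_, inferInstance⟩,
    Iso.refl _, Iso.refl _, by simp [g]⟩
  refine Triangle.isoMk _ _ (Iso.refl _) (Iso.refl _) eK.symm ?_ ?_ ?_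
  · exact (Category.comp_id _).trans (Category.id_comp _).symm
  · show (T.mor₂ ≫ eK.hom) ≫ eK.inv = 𝟙 _ ≫ T.mor₂
    rw [Category.assoc, Iso.hom_inv_id, Category.comp_id, Category.id_comp]
  · show (eK.inv ≫ T.mor₃) ≫ (CategoryTheory.shiftFunctor (Dual.D A) (1 : ℤ)).map (𝟙 _) = eK.inv ≫ T.mor₃
    rw [CategoryTheory.Functor.map_id, Category.comp_id]

theorem smul_all_zero_iff_forall_homotopy {K : Dual.D A} (hK : TwoT K) (I : Ideal A) :
    (∀ (N : Type u) [AddCommGroup N] [Module A N] (a : A), a ∈ I →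
        ∀ ξ : K ⟶ (Dual.inD A N)⟦(1 : ℤ)⟧, a • ξ = 0) ↔
      ∀ (E : DRing.Cx A), DRing.VanishesOutside E (-1) 0 → Module.Projective A (E.X 0) →
        Nonempty (DRing.toD E ≅ K) → ∀ a : A, a ∈ I →
          ∃ h : E.X 0 ⟶ E.X (-1), E.d (-1) 0 ≫ h = a • 𝟙 (E.X (-1)) := by
  constructor
  · intro H E hE hP ⟨e⟩ a ha
    obtain ⟨P, u, v, huv⟩ := exists_pres_of_cx hE hP e
    obtain ⟨χ, hχ⟩ := (P.smul_all_zero_iff a).1 fun N _ _ ξ => H N a ha ξ
    refine ⟨v.inv ≫ χ ≫ u.hom, ?_⟩
    rw [← cancel_epi u.hom, ← reassoc_of% huv, v.hom_inv_id_assoc, reassoc_of% hχ, Linear.comp_smul,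
      Category.comp_id, Linear.smul_comp, Category.id_comp]
  · intro H N _ _ a ha
    let F := ModuleCat.of A (Dual.HD A K 0 →₀ A)
    haveI : Projective F := ModuleCat.projective_of_free Finsupp.basisSingleOne
    obtain ⟨P, hPF⟩ := exists_pres hK F (ModuleCat.ofHom (Finsupp.linearCombination A _root_.id))
      (fun x => ⟨Finsupp.single x 1, (Finsupp.linearCombination_single A (v := _root_.id) 1 x).trans (one_smul _ _)⟩)
    haveI := isIso_inM P.g
    haveI := isIso_inF P.g
    haveI : Module.Projective A P.F := by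
      rw [hPF]; exact Module.Projective.of_basis Finsupp.basisSingleOne
    obtain ⟨h, hh⟩ := H P.cx P.cx_vanishes
      (Module.Projective.of_equiv (asIso (inF P.g)).toLinearEquiv) P.nonempty_iso a ha
    refine (P.smul_all_zero_iff a).2 ⟨inF P.g ≫ h ≫ inv (inM P.g), ?_⟩ N
    have hd : inM P.g ≫ (twoCx P.g).d (-1) 0 ≫ h = inM P.g ≫ (a • 𝟙 _) := congrArg (inM P.g ≫ ·) hh
    rw [← Category.assoc, inM_d, Category.assoc, Linear.comp_smul, Category.comp_id] at hd
    rw [reassoc_of% hd, Linear.smul_comp, IsIso.hom_inv_id]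

section Cohomology

variable {K : Dual.D A} (P : Pres K)

/-- The sequence `H⁻¹ K → M → F → H⁰ K → 0`. -/
theorem Pres.exact_seq :
    ∃ (i : Dual.HD A K (-1) →ₗ[A] P.M) (p : P.F →ₗ[A] Dual.HD A K 0),
      Function.Injective i ∧ Function.Exact i P.g.hom ∧ Function.Exact P.g.hom p ∧ Function.Surjective p := by
  let T := Triangle.mk (s0.map P.g) P.q P.δ
  have hT : T ∈ distTriang (Dual.D A) := P.dist
  let σ := DerivedCategory.singleFunctorCompHomologyFunctorIso (ModuleCat.{u} A) 0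
  let eM := (σ.app P.M).toLinearEquiv
  let eF := (σ.app P.F).toLinearEquiv
  have hnat : ∀ x, eF (((DerivedCategory.homologyFunctor (ModuleCat.{u} A) 0).map T.mor₁).hom x) = P.g.hom (eM x) :=
    fun x => congr($(σ.hom.naturality P.g).hom x)
  have e1 := (ShortComplex.ShortExact.moduleCat_exact_iff_function_exact _).1
    (DerivedCategory.HomologySequence.exact₁ T hT (-1) 0)
  have e2 := (ShortComplex.ShortExact.moduleCat_exact_iff_function_exact _).1
    (DerivedCategory.HomologySequence.exact₂ T hT 0)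
  have e3 := (ShortComplex.ShortExact.moduleCat_exact_iff_function_exact _).1
    (DerivedCategory.HomologySequence.exact₃ T hT (-1) 0)
  have e4 := (ShortComplex.ShortExact.moduleCat_exact_iff_function_exact _).1
    (DerivedCategory.HomologySequence.exact₃ T hT 0 1)
  let g' := ((DerivedCategory.homologyFunctor (ModuleCat.{u} A) 0).map T.mor₁).hom
  let q' := ((DerivedCategory.homologyFunctor (ModuleCat.{u} A) 0).map T.mor₂).hom
  let i' := (DerivedCategory.HomologySequence.δ T (-1) 0).hom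
  refine ⟨eM.toLinearMap ∘ₗ i', q' ∘ₗ eF.symm.toLinearMap, ?_, ?_, ?_, ?_⟩
  · refine eM.injective.comp ((injective_iff_map_eq_zero i').2 fun x hx => ?_)
    obtain ⟨y, rfl⟩ := (e3 x).1 hx
    exact (congrArg _ (@Subsingleton.elim _ (subsingleton_HD_of_isGE (s0.obj P.F) 0 (-1) (by omega)) y 0)).trans
      (map_zero _)
  · intro m
    obtain ⟨x, rfl⟩ := eM.surjective m
    rw [← hnat]
    refine (LinearEquiv.map_eq_zero_iff eF).trans ((e1 x).trans ?_)
    simp [Set.mem_range, i']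
    rfl
  · intro y
    obtain ⟨x, rfl⟩ := eF.surjective y
    show q' (eF.symm (eF x)) = 0 ↔ _
    rw [eF.symm_apply_apply, e2 x]
    constructor
    · rintro ⟨z, rfl⟩; exact ⟨eM z, (hnat z).symm⟩
    · rintro ⟨m, hm⟩
      obtain ⟨z, rfl⟩ := eM.surjective m
      exact ⟨z, eF.injective ((hnat z).trans hm)⟩
  · intro z
    obtain ⟨y, hy⟩ := (e4 z).1 (@Subsingleton.elim _ (subsingleton_HD_of_isLE (s0.obj P.M) 0 1 (by omega)) _ _)
    refine ⟨eF y, ?_⟩
    show q' (eF.symm (eF y)) = z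
    rw [eF.symm_apply_apply]
    exact hy

end Cohomology

/-- The presentation of a module by a projective cover. -/
theorem exists_pres_inD {F : ModuleCat.{u} A} [Projective F] {H : Type u} [AddCommGroup H] [Module A H]
    (p : F →ₗ[A] H) (hp : Function.Surjective p) :
    ∃ P : Pres (Dual.inD A H), ∃ (a : P.M ≅ ModuleCat.of A (LinearMap.ker p)) (b : P.F ≅ F),
      P.g ≫ b.hom = a.hom ≫ ModuleCat.ofHom (LinearMap.ker p).subtype := by
  let S : ShortComplex (ModuleCat.{u} A) := ShortComplex.mk (ModuleCat.ofHom (LinearMap.ker p).subtype)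
    (ModuleCat.ofHom p : F ⟶ ModuleCat.of A H) (by ext x; exact x.2)
  haveI : Mono S.f := (ModuleCat.mono_iff_injective _).2 Subtype.val_injective
  haveI : Epi S.g := (ModuleCat.epi_iff_surjective _).2 hp
  have hS : S.ShortExact := ⟨(ShortComplex.moduleCat_exact_iff _).2 fun x hx => ⟨⟨x, hx⟩, rfl⟩⟩
  exact ⟨⟨_, _, S.f, hS.singleTriangle.mor₂, hS.singleTriangle.mor₃, hS.singleTriangle_distinguished, ‹_›⟩,
    Iso.refl _, Iso.refl _, by simp [S]⟩

theorem pres_projective_of_all_zero {K : Dual.D A} (hK : TwoT K)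
    (h : ∀ (M : Type u) [AddCommGroup M] [Module A M], Subsingleton (K ⟶ (Dual.inD A M)⟦(1 : ℤ)⟧)) :
    Subsingleton (Dual.HD A K (-1)) ∧ Module.Projective A (Dual.HD A K 0) := by
  let F := ModuleCat.of A (Dual.HD A K 0 →₀ A)
  haveI : Projective F := ModuleCat.projective_of_free Finsupp.basisSingleOne
  obtain ⟨P, hPF⟩ := exists_pres hK F (ModuleCat.ofHom (Finsupp.linearCombination A _root_.id))
    (fun x => ⟨Finsupp.single x 1, (Finsupp.linearCombination_single A (v := _root_.id) 1 x).trans (one_smul _ _)⟩)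
  haveI : Module.Projective A P.F := by
    rw [hPF]; exact Module.Projective.of_basis Finsupp.basisSingleOne
  obtain ⟨χ, hχ⟩ := (P.smul_all_zero_iff 1).1 fun N _ _ ξ => (show Subsingleton (K ⟶ (Dual.inD A N)⟦(1 : ℤ)⟧) from h N).elim ((1 : A) • ξ) 0
  rw [one_smul] at hχ
  have hχ' : ∀ m, χ.hom (P.g.hom m) = m := fun m => congr($(hχ).hom m)
  obtain ⟨i, p, hi, hig, hgp, hp⟩ := P.exact_seq
  refine ⟨subsingleton_of_forall_eq 0 fun x => hi ?_, ?_⟩
  · rw [map_zero, ← hχ' (i x), hig.apply_apply_eq_zero, map_zero]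
  · let r : P.F →ₗ[A] P.F := LinearMap.id - P.g.hom ∘ₗ χ.hom
    have hr : LinearMap.ker p ≤ LinearMap.ker r := fun y hy => by
      obtain ⟨m, rfl⟩ := (hgp y).1 hy
      simp [r, hχ']
    let s : Dual.HD A K 0 →ₗ[A] P.F :=
      (Submodule.liftQ _ r hr) ∘ₗ (LinearMap.quotKerEquivOfSurjective p hp).symm.toLinearMap
    refine Module.Projective.of_split s p (LinearMap.ext fun z => ?_)
    obtain ⟨y, rfl⟩ := hp z
    have hs : s (p y) = r y := by
      show (Submodule.liftQ _ r hr) ((LinearMap.quotKerEquivOfSurjective p hp).symm (p y)) = r y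
      rw [show (LinearMap.quotKerEquivOfSurjective p hp).symm (p y) = Submodule.Quotient.mk y from
        (LinearEquiv.symm_apply_eq _).2 rfl]
      rfl
    show p (s (p y)) = p y
    rw [hs]
    simp [r, map_sub, hgp.apply_apply_eq_zero]

theorem subsingleton_ext_of_projective {K : Dual.D A} (hK : TwoT K) (h1 : Subsingleton (Dual.HD A K (-1)))
    (h0 : Module.Projective A (Dual.HD A K 0)) (M : Type u) [AddCommGroup M] [Module A M] :
    Subsingleton (K ⟶ (Dual.inD A M)⟦(1 : ℤ)⟧) := by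
  haveI := hK.isLE
  haveI : DerivedCategory.IsGE K 0 := isGE_of_subsingleton fun i hi => by
    by_cases h : i = -1
    · subst h; exact h1
    · exact hK i h (by omega)
  obtain ⟨Y, ⟨e⟩⟩ := DerivedCategory.exists_iso_singleFunctor_obj_of_isGE_of_isLE K 0
  haveI := h0
  haveI : Module.Projective A Y := Module.Projective.of_equiv
    (((DerivedCategory.homologyFunctor (ModuleCat.{u} A) 0).mapIso e).toLinearEquiv ≪≫ₗ
      ((DerivedCategory.singleFunctorCompHomologyFunctorIso (ModuleCat.{u} A) 0).app Y).toLinearEquiv)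
  haveI : Projective Y := ModuleCat.projective_of_categoryTheory_projective Y
  haveI := subsingleton_hom_free Y (subsingleton_HD_shift_zero (A := A) M)
  exact (e.homFromEquiv (Z := (Dual.inD A M)⟦(1 : ℤ)⟧)).injective.subsingleton

theorem killed_iff {K : Dual.D A} (hK : TwoT K) (I : Ideal A) :
    (∃ c : ℕ, ∀ (N : Type u) [AddCommGroup N] [Module A N] (a : A), a ∈ I ^ c →
        ∀ ξ : K ⟶ (Dual.inD A N)⟦(1 : ℤ)⟧, a • ξ = 0) ↔
      ∃ c : ℕ, (∀ a : A, a ∈ I ^ c → ∀ x : Dual.HD A K (-1), a • x = 0) ∧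
        ∀ (N : Type u) [AddCommGroup N] [Module A N] (a : A), a ∈ I ^ c →
          ∀ ξ : Dual.inD A (Dual.HD A K 0) ⟶ (Dual.inD A N)⟦(1 : ℤ)⟧, a • ξ = 0 := by
  let F := ModuleCat.of A (Dual.HD A K 0 →₀ A)
  haveI : Projective F := ModuleCat.projective_of_free Finsupp.basisSingleOne
  obtain ⟨P, hPF⟩ := exists_pres hK F (ModuleCat.ofHom (Finsupp.linearCombination A _root_.id))
    (fun x => ⟨Finsupp.single x 1, (Finsupp.linearCombination_single A (v := _root_.id) 1 x).trans (one_smul _ _)⟩)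
  haveI := P.proj
  obtain ⟨i, p, hi, hig, hgp, hp⟩ := P.exact_seq
  obtain ⟨P₀, u, v, huv⟩ := exists_pres_inD p hp
  have key : ∀ a : A, (∀ (N : Type u) [AddCommGroup N] [Module A N]
      (ξ : Dual.inD A (Dual.HD A K 0) ⟶ (Dual.inD A N)⟦(1 : ℤ)⟧), a • ξ = 0) ↔
      ∃ χ : P.F →ₗ[A] LinearMap.ker p, ∀ y : LinearMap.ker p, χ y = a • y := fun a => by
    rw [P₀.smul_all_zero_iff a]
    constructor
    · rintro ⟨χ, hχ⟩
      refine ⟨(v.inv ≫ χ ≫ u.hom).hom, fun y => ?_⟩
      have h : ModuleCat.ofHom (LinearMap.ker p).subtype ≫ v.inv ≫ χ ≫ u.hom = a • 𝟙 _ := by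
        rw [← cancel_epi u.hom, ← reassoc_of% huv, v.hom_inv_id_assoc, reassoc_of% hχ, Linear.comp_smul,
          Category.comp_id, Linear.smul_comp, Category.id_comp]
      exact congr($(h).hom y)
    · rintro ⟨χ, hχ⟩
      refine ⟨v.hom ≫ ModuleCat.ofHom χ ≫ u.inv, ?_⟩
      have h : ModuleCat.ofHom (LinearMap.ker p).subtype ≫ ModuleCat.ofHom χ = a • 𝟙 _ :=
        ModuleCat.hom_ext (LinearMap.ext hχ)
      rw [reassoc_of% huv, reassoc_of% h, Linear.smul_comp, Category.id_comp, Linear.comp_smul, Iso.hom_inv_id]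
  constructor
  · rintro ⟨c, hc⟩
    refine ⟨c, fun a ha x => hi ?_, fun N _ _ a ha => (key a).2 ?_ N⟩
    · obtain ⟨χ, hχ⟩ := (P.smul_all_zero_iff a).1 fun N _ _ ξ => hc N a ha ξ
      rw [map_smul, map_zero, ← show χ.hom (P.g.hom (i x)) = a • i x from congr($(hχ).hom (i x)),
        hig.apply_apply_eq_zero, map_zero]
    · obtain ⟨χ, hχ⟩ := (P.smul_all_zero_iff a).1 fun N _ _ ξ => hc N a ha ξ
      let g₁ : P.M →ₗ[A] LinearMap.ker p :=
        LinearMap.codRestrict _ P.g.hom fun m => LinearMap.mem_ker.2 (hgp.apply_apply_eq_zero m)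
      refine ⟨g₁ ∘ₗ χ.hom, fun y => ?_⟩
      obtain ⟨m, hm⟩ := (hgp y.1).1 y.2
      apply Subtype.ext
      show P.g.hom (χ.hom y.1) = a • y.1
      rw [← hm, show χ.hom (P.g.hom m) = a • m from congr($(hχ).hom m), map_smul]
  · rintro ⟨c, h1, h0⟩
    refine ⟨c + c, fun N _ _ a ha => ?_⟩
    refine (P.smul_all_zero_iff a).2 ?_ N
    rw [pow_add] at ha
    refine Submodule.mul_induction_on ha (fun a₁ ha₁ a₂ ha₂ => ?_) fun x y ⟨χ, hχ⟩ ⟨χ', hχ'⟩ =>
      ⟨χ + χ', by rw [Preadditive.comp_add, hχ, hχ', add_smul]⟩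
    obtain ⟨χ₀, hχ₀⟩ := (key a₂).1 fun N _ _ ξ => h0 N a₂ ha₂ ξ
    let g₁ : P.M →ₗ[A] LinearMap.ker p :=
      LinearMap.codRestrict _ P.g.hom fun m => LinearMap.mem_ker.2 (hgp.apply_apply_eq_zero m)
    have hg₁ : Function.Surjective g₁ := fun y => by
      obtain ⟨m, hm⟩ := (hgp y.1).1 y.2
      exact ⟨m, Subtype.ext hm⟩
    haveI : Module.Projective A P.F := by rw [hPF]; exact Module.Projective.of_basis Finsupp.basisSingleOne
    obtain ⟨χ₁, hχ₁⟩ := Module.projective_lifting_property g₁ χ₀ hg₁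
    refine ⟨a₁ • ModuleCat.ofHom χ₁, ?_⟩
    ext m
    show a₁ • χ₁ (P.g.hom m) = (a₁ * a₂) • m
    have hk : P.g.hom (χ₁ (P.g.hom m) - a₂ • m) = 0 := by
      rw [map_sub, map_smul, sub_eq_zero]
      exact congrArg Subtype.val ((LinearMap.congr_fun hχ₁ _).trans (hχ₀ (g₁ m)))
    obtain ⟨x, hx⟩ := (hig _).1 hk
    rw [mul_smul, ← sub_eq_zero, ← smul_sub, ← hx, ← map_smul, h1 a₁ ha₁ x, map_zero]

end Groth.Agent.DRingLib
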